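import Cfsg.Agent.SporadicStructure.GolayEven
set_option linter.all false

set_option autoImplicit false
open scoped Pointwise
open Cfsg

/-!
Standard vectors of the lattice, monomial maps, and basic facts on the group `Cfsg.Co0`.
-/

namespace Cfsg.Agent.SporadicStructure.Co0Base

open Cfsg.Agent.SporadicStructure.LeechBase
open Cfsg.Agent.SporadicStructure.GolayEven

/-! ### standard vectors -/

theorem red_zero : red 0 = 0 := by funext i; simp [red]

/-- Even vectors `2 z` of the lattice. -/
theorem two_mul_mem (z : GolayPt → ℤ) (hz : red z ∈ golayCode) (hs : (4 : ℤ) ∣ ∑ i, z i) :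
    (fun i => 2 * z i) ∈ leechLattice := by
  rw [mem_leech_iff]
  refine ⟨0, z, hz, ?_, fun i => by ring⟩
  rw [Int.modEq_iff_dvd]; omega

/-- Vectors `4 z` of the lattice. -/
theorem four_mul_mem (z : GolayPt → ℤ) (hs : (2 : ℤ) ∣ ∑ i, z i) :
    (fun i => 4 * z i) ∈ leechLattice := by
  have h : (fun i => 4 * z i) = fun i => 2 * ((fun j => 2 * z j) i) := by funext i; ring
  rw [h]
  apply two_mul_mem
  · have : red (fun j => 2 * z j) = 0 := by
      funext i
      simp only [red, Int.cast_mul, Pi.zero_apply]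
      have : ((2 : ℤ) : ZMod 2) = 0 := by decide
      rw [this, zero_mul]
    rw [this]; exact Submodule.zero_mem _
  · rw [← Finset.mul_sum]; omega

theorem single8_mem (i : GolayPt) : (Pi.single i 8 : GolayPt → ℤ) ∈ leechLattice := by
  have h : (Pi.single i 8 : GolayPt → ℤ) = fun j => 4 * (Pi.single i 2 : GolayPt → ℤ) j := by
    funext j
    by_cases hj : j = i
    · subst hj; simp
    · simp [hj]
  rw [h]
  apply four_mul_mem
  simp

/-- `Pi.single i 8` as an element of the lattice. -/
def e8 (i : GolayPt) : leechLattice := ⟨Pi.single i 8, single8_mem i⟩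

theorem e8_coe (i : GolayPt) : ((e8 i : leechLattice) : GolayPt → ℤ) = Pi.single i 8 := rfl

/-- The vector with coordinate 2 on a code word and 0 elsewhere. -/
theorem two_on_mem {s : Finset GolayPt} (hs : s ∈ supports (golayCode : Set (GolayPt → ZMod 2))) :
    (fun i => if i ∈ s then 2 else 0 : GolayPt → ℤ) ∈ leechLattice := by
  have h : (fun i => if i ∈ s then 2 else 0 : GolayPt → ℤ) =
      fun i => 2 * ((fun j => if j ∈ s then 1 else 0 : GolayPt → ℤ) i) := by
    funext i; by_cases hi : i ∈ s <;> simp [hi]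
  rw [h]
  apply two_mul_mem
  · have : red (fun j => if j ∈ s then 1 else 0 : GolayPt → ℤ) = ind s := by
      funext i; by_cases hi : i ∈ s <;> simp [red, ind, hi]
    rw [this]; exact (mem_supports_iff_ind s).1 hs
  · have h4 := four_dvd_card_of_mem_supports hs
    rw [Finset.sum_ite_mem, Finset.univ_inter]
    simp only [Finset.sum_const, nsmul_eq_mul, mul_one]
    exact_mod_cast h4

/-- The vector with coordinate -3 at one point and 1 elsewhere. -/
theorem minus3_mem (i : GolayPt) :
    (fun j => if j = i then -3 else 1 : GolayPt → ℤ) ∈ leechLattice := by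
  rw [mem_leech_iff]
  refine ⟨1, fun j => if j = i then -2 else 0, ?_, ?_, ?_⟩
  · have : red (fun j => if j = i then -2 else 0 : GolayPt → ℤ) = 0 := by
      funext j
      by_cases hj : j = i
      · simp only [red, hj, if_true, Pi.zero_apply]; decide
      · simp [red, hj]
    rw [this]; exact Submodule.zero_mem _
  · rw [Finset.sum_ite_eq']; simp only [Finset.mem_univ, if_true]; decide
  · intro j
    by_cases hj : j = i <;> simp [hj]

/-! ### the group of the code acting on words, supports and lattice vectors -/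

theorem supports_finite : (supports (golayCode : Set (GolayPt → ZMod 2))).Finite :=
  Set.toFinite _

theorem mem_M24_iff_subset (σ : Equiv.Perm GolayPt) : σ ∈ M24 ↔
    ∀ s ∈ supports (golayCode : Set (GolayPt → ZMod 2)),
      σ • s ∈ supports (golayCode : Set (GolayPt → ZMod 2)) := by
  rw [show (σ ∈ M24) = (σ ∈ MulAction.stabilizer (Equiv.Perm GolayPt)
    (supports (golayCode : Set (GolayPt → ZMod 2)))) from rfl]
  rw [MulAction.mem_stabilizer_set_iff_smul_set_subset supports_finite]
  constructor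
  · intro h s hs
    exact h (Set.smul_mem_smul_set hs)
  · rintro h _ ⟨s, hs, rfl⟩
    exact h s hs

theorem ind_smul (σ : Equiv.Perm GolayPt) (s : Finset GolayPt) :
    ind (σ • s) = fun i => ind s (σ.symm i) := by
  funext i
  simp only [ind]
  have : i ∈ σ • s ↔ σ.symm i ∈ s := by
    rw [Finset.mem_smul_finset]
    constructor
    · rintro ⟨j, hj, rfl⟩
      simpa using hj
    · intro h
      exact ⟨σ.symm i, h, by simp⟩
  by_cases h : σ.symm i ∈ s <;> simp [this, h]

theorem mem_M24_iff_comp (σ : Equiv.Perm GolayPt) : σ ∈ M24 ↔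
    ∀ w ∈ golayCode, (fun i => w (σ.symm i)) ∈ golayCode := by
  rw [mem_M24_iff_subset]
  constructor
  · intro h w hw
    have := h (support₂ w) ((support₂_mem_supports w).2 hw)
    rw [mem_supports_iff_ind, ind_smul, ind_support₂] at this
    exact this
  · intro h s hs
    rw [mem_supports_iff_ind, ind_smul]
    exact h _ ((mem_supports_iff_ind s).1 hs)

theorem perm_mem {σ : Equiv.Perm GolayPt} (hσ : σ ∈ M24) {x : GolayPt → ℤ}
    (hx : x ∈ leechLattice) : (fun i => x (σ.symm i)) ∈ leechLattice := by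
  rw [mem_leech_iff] at hx ⊢
  obtain ⟨m, z, hz, hs, h⟩ := hx
  refine ⟨m, fun i => z (σ.symm i), ?_, ?_, fun i => h _⟩
  · exact (mem_M24_iff_comp σ).1 hσ _ hz
  · rw [Equiv.sum_comp σ.symm z]; exact hs

/-- The coordinate sum of a lattice vector over a code word is divisible by 4. -/
theorem four_dvd_sum_of_mem {x : GolayPt → ℤ} (hx : x ∈ leechLattice) {c : Finset GolayPt}
    (hc : c ∈ supports (golayCode : Set (GolayPt → ZMod 2))) : (4 : ℤ) ∣ ∑ i ∈ c, x i := by
  rw [mem_leech_iff] at hx
  obtain ⟨m, z, hz, hs, h⟩ := hx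
  have h4 := four_dvd_card_of_mem_supports hc
  have h2 : (2 : ℤ) ∣ ∑ i ∈ c, z i := by
    have h0 := dot₂_eq_zero ((mem_supports_iff_ind c).1 hc) hz
    have h1 : dot₂ (ind c) (red z) = ((∑ i ∈ c, z i : ℤ) : ZMod 2) := by
      simp only [dot₂, ind, red, ite_mul, one_mul, zero_mul, Finset.sum_ite_mem, Finset.univ_inter,
        Int.cast_sum]
    rw [h1] at h0
    exact (ZMod.intCast_zmod_eq_zero_iff_dvd _ 2).1 h0
  have h5 : ∑ i ∈ c, x i = m * c.card + 2 * ∑ i ∈ c, z i := by
    simp only [h, Finset.sum_add_distrib, ← Finset.mul_sum, Finset.sum_const, nsmul_eq_mul]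
    ring
  rw [h5]
  obtain ⟨a, ha⟩ := h2
  obtain ⟨b, hb⟩ := h4
  rw [ha, hb]
  exact ⟨m * b + a, by push_cast; ring⟩

theorem signChange_mem {c : Finset GolayPt}
    (hc : c ∈ supports (golayCode : Set (GolayPt → ZMod 2))) {x : GolayPt → ℤ}
    (hx : x ∈ leechLattice) : (fun i => if i ∈ c then -x i else x i) ∈ leechLattice := by
  have h4 := four_dvd_sum_of_mem hx hc
  rw [mem_leech_iff] at hx ⊢
  obtain ⟨m, z, hz, hs, h⟩ := hx
  refine ⟨m, fun i => z i - (if i ∈ c then x i else 0), ?_, ?_, ?_⟩
  · have h1 : red (fun i => z i - (if i ∈ c then x i else 0)) =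
        red z + (m : ZMod 2) • ind c := by
      funext i
      simp only [red, ind, Pi.add_apply, Pi.smul_apply, smul_eq_mul]
      have h2 : ((2 : ℤ) : ZMod 2) = 0 := by decide
      have h3 : ∀ a : ZMod 2, -a = a := by decide
      by_cases hi : i ∈ c
      · rw [if_pos hi, if_pos hi, h i, Int.cast_sub, Int.cast_add, Int.cast_mul, h2, zero_mul,
          add_zero, sub_eq_add_neg, h3, mul_one]
      · simp [hi]
    rw [h1]
    exact Submodule.add_mem _ hz (Submodule.smul_mem _ _ ((mem_supports_iff_ind c).1 hc))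
  · rw [Finset.sum_sub_distrib, Finset.sum_ite_mem, Finset.univ_inter]
    have := hs.dvd
    rw [Int.modEq_iff_dvd]
    omega
  · intro i
    have := h i
    by_cases hi : i ∈ c <;> simp only [hi, if_true, if_false] <;> linarith

theorem signedPerm_apply (σ : Equiv.Perm GolayPt) (c : Finset GolayPt) (x : GolayPt → ℤ)
    (i : GolayPt) : signedPerm σ c x i = if i ∈ c then -x (σ.symm i) else x (σ.symm i) := rfl

theorem signedPerm_mem {σ : Equiv.Perm GolayPt} (hσ : σ ∈ M24) {c : Finset GolayPt}
    (hc : c ∈ supports (golayCode : Set (GolayPt → ZMod 2))) {x : GolayPt → ℤ}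
    (hx : x ∈ leechLattice) : signedPerm σ c x ∈ leechLattice :=
  signChange_mem hc (perm_mem hσ hx)

theorem signedPerm_add (σ : Equiv.Perm GolayPt) (c : Finset GolayPt) (x y : GolayPt → ℤ) :
    signedPerm σ c (x + y) = signedPerm σ c x + signedPerm σ c y := by
  funext i
  simp only [signedPerm_apply, Pi.add_apply]
  by_cases h : i ∈ c <;> simp only [h, if_true, if_false] <;> ring

theorem sqNorm_signedPerm (σ : Equiv.Perm GolayPt) (c : Finset GolayPt) (x : GolayPt → ℤ) :
    sqNorm (signedPerm σ c x) = sqNorm x := by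
  have : ∀ i, signedPerm σ c x i ^ 2 = (fun j => x j ^ 2) (σ.symm i) := by
    intro i
    rw [signedPerm_apply]
    by_cases h : i ∈ c <;> simp [h]
  simp only [sqNorm, this]
  exact Equiv.sum_comp σ.symm (fun j => x j ^ 2)

theorem signedPerm_injective (σ : Equiv.Perm GolayPt) (c : Finset GolayPt) :
    Function.Injective (signedPerm σ c) := by
  intro x y h
  funext j
  have := congrFun h (σ j)
  simp only [signedPerm_apply, Equiv.symm_apply_apply] at this
  by_cases hi : σ j ∈ c <;> simp only [hi, if_true, if_false] at this <;> linarith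

/-- The inverse of a signed permutation. -/
theorem signedPerm_inv (σ : Equiv.Perm GolayPt) (c : Finset GolayPt) (x : GolayPt → ℤ) :
    signedPerm σ c (signedPerm σ⁻¹ (σ⁻¹ • c) x) = x := by
  funext i
  have h0 : σ.symm i ∈ σ⁻¹ • c ↔ i ∈ c := by
    rw [show σ.symm i = σ⁻¹ • i from rfl, Finset.smul_mem_smul_finset_iff]
  have h1 : (σ⁻¹).symm (σ.symm i) = i := by
    change σ (σ.symm i) = i
    simp
  simp only [signedPerm_apply, h0, h1]
  by_cases hi : i ∈ c <;> simp [hi]

theorem signedPerm_inv' (σ : Equiv.Perm GolayPt) (c : Finset GolayPt) (x : GolayPt → ℤ) :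
    signedPerm σ⁻¹ (σ⁻¹ • c) (signedPerm σ c x) = x :=
  signedPerm_injective σ c (signedPerm_inv σ c _)

/-! ### elements of `Co0` -/

/-- Constructor of elements of `Co0` from two mutually inverse maps on integer vectors. -/
def mkCo0 (f g : (GolayPt → ℤ) → (GolayPt → ℤ)) (hf : ∀ x ∈ leechLattice, f x ∈ leechLattice)
    (hg : ∀ x ∈ leechLattice, g x ∈ leechLattice)
    (hfg : ∀ x ∈ leechLattice, f (g x) = x) (hgf : ∀ x ∈ leechLattice, g (f x) = x)
    (hadd : ∀ x ∈ leechLattice, ∀ y ∈ leechLattice, f (x + y) = f x + f y)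
    (hn : ∀ x ∈ leechLattice, sqNorm (f x) = sqNorm x) : Co0 :=
  ⟨{ toFun := fun v => ⟨f v, hf _ v.2⟩
     invFun := fun v => ⟨g v, hg _ v.2⟩
     left_inv := fun v => Subtype.ext (hgf _ v.2)
     right_inv := fun v => Subtype.ext (hfg _ v.2) },
   ⟨fun v w => Subtype.ext (hadd _ v.2 _ w.2), fun v => hn _ v.2⟩⟩

theorem mkCo0_smul (f g : (GolayPt → ℤ) → (GolayPt → ℤ)) (hf hg hfg hgf hadd hn)
    (v : leechLattice) :
    ((mkCo0 f g hf hg hfg hgf hadd hn • v : leechLattice) : GolayPt → ℤ) = f v := rfl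

/-- Monomial maps as elements of `Co0`. -/
def monomial (σ : Equiv.Perm GolayPt) (hσ : σ ∈ M24) (c : Finset GolayPt)
    (hc : c ∈ supports (golayCode : Set (GolayPt → ZMod 2))) : Co0 :=
  mkCo0 (signedPerm σ c) (signedPerm σ⁻¹ (σ⁻¹ • c)) (fun _ hx => signedPerm_mem hσ hc hx)
    (fun _ hx => signedPerm_mem (M24.inv_mem hσ)
      ((mem_M24_iff_subset σ⁻¹).1 (M24.inv_mem hσ) c hc) hx)
    (fun x _ => signedPerm_inv σ c x) (fun x _ => signedPerm_inv' σ c x)
    (fun x _ y _ => signedPerm_add σ c x y) (fun x _ => sqNorm_signedPerm σ c x)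

theorem monomial_smul (σ : Equiv.Perm GolayPt) (hσ : σ ∈ M24) (c : Finset GolayPt)
    (hc : c ∈ supports (golayCode : Set (GolayPt → ZMod 2))) (v : leechLattice) :
    ((monomial σ hσ c hc • v : leechLattice) : GolayPt → ℤ) = signedPerm σ c v := rfl

theorem co0_ext {g h : Co0} (H : ∀ v : leechLattice, g • v = h • v) : g = h :=
  Subtype.ext (Equiv.ext H)

theorem co0_smul_add (g : Co0) (v w : leechLattice) : g • (v + w) = g • v + g • w := g.2.1 v w

theorem co0_sqNorm (g : Co0) (v : leechLattice) :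
    sqNorm ((g • v : leechLattice) : GolayPt → ℤ) = sqNorm (v : GolayPt → ℤ) := g.2.2 v

/-- An element of `Co0` as an additive automorphism of the lattice. -/
def co0AddHom (g : Co0) : leechLattice →+ leechLattice :=
  AddMonoidHom.mk' (fun v => g • v) (co0_smul_add g)

theorem co0AddHom_apply (g : Co0) (v : leechLattice) : co0AddHom g v = g • v := rfl

theorem co0_smul_zero (g : Co0) : g • (0 : leechLattice) = 0 := (co0AddHom g).map_zero

theorem co0_smul_neg (g : Co0) (v : leechLattice) : g • (-v) = -(g • v) := (co0AddHom g).map_neg v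

theorem co0_smul_sub (g : Co0) (v w : leechLattice) : g • (v - w) = g • v - g • w :=
  (co0AddHom g).map_sub v w

theorem co0_smul_zsmul (g : Co0) (n : ℤ) (v : leechLattice) : g • (n • v) = n • (g • v) :=
  map_zsmul (co0AddHom g) n v

theorem co0_smul_sum {ι : Type*} (g : Co0) (s : Finset ι) (f : ι → leechLattice) :
    g • (∑ i ∈ s, f i) = ∑ i ∈ s, g • f i := map_sum (co0AddHom g) f s

theorem co0_smul_inj (g : Co0) {v w : leechLattice} (h : g • v = g • w) : v = w :=
  MulAction.injective g h

theorem sqNorm_add (x y : GolayPt → ℤ) :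
    sqNorm (x + y) = sqNorm x + sqNorm y + 2 * dotInt x y := by
  simp only [sqNorm, dotInt, Finset.mul_sum, ← Finset.sum_add_distrib, Pi.add_apply]
  apply Finset.sum_congr rfl
  intro i _
  ring

/-- Elements of `Co0` preserve the coordinate dot product. -/
theorem co0_dotInt (g : Co0) (v w : leechLattice) :
    dotInt ((g • v : leechLattice) : GolayPt → ℤ) ((g • w : leechLattice) : GolayPt → ℤ) =
      dotInt (v : GolayPt → ℤ) (w : GolayPt → ℤ) := by
  have h1 := co0_sqNorm g (v + w)
  rw [co0_smul_add, AddSubgroup.coe_add, AddSubgroup.coe_add, sqNorm_add, sqNorm_add, co0_sqNorm,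
    co0_sqNorm] at h1
  linarith

theorem coe_sum {ι : Type*} (s : Finset ι) (f : ι → leechLattice) :
    ((∑ i ∈ s, f i : leechLattice) : GolayPt → ℤ) = ∑ i ∈ s, (f i : GolayPt → ℤ) :=
  map_sum leechLattice.subtype f s

/-- Eight times a lattice vector as a combination of the vectors `8 e_i`. -/
theorem eight_smul_eq (v : leechLattice) :
    (8 : ℤ) • v = ∑ i, (v : GolayPt → ℤ) i • e8 i := by
  apply Subtype.ext
  rw [coe_sum]
  funext j
  rw [AddSubgroup.coe_zsmul, Finset.sum_apply]
  simp only [AddSubgroup.coe_zsmul, e8_coe, Pi.smul_apply, smul_eq_mul, Pi.single_apply, mul_ite,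
    mul_zero, Finset.sum_ite_eq, Finset.mem_univ, if_true]
  ring

/-- The image of a lattice vector is determined by the images of the `8 e_i`. -/
theorem eight_mul_co0 (g : Co0) (v : leechLattice) (j : GolayPt) :
    8 * ((g • v : leechLattice) : GolayPt → ℤ) j =
      ∑ i, (v : GolayPt → ℤ) i * ((g • e8 i : leechLattice) : GolayPt → ℤ) j := by
  have h := congrArg (fun u : leechLattice => ((g • u : leechLattice) : GolayPt → ℤ) j)
    (eight_smul_eq v)
  simp only [co0_smul_zsmul, co0_smul_sum, coe_sum, Finset.sum_apply, AddSubgroup.coe_zsmul,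
    Pi.smul_apply, smul_eq_mul] at h
  exact h

theorem co0_ext_e8 {g h : Co0} (H : ∀ i, g • e8 i = h • e8 i) : g = h := by
  apply co0_ext
  intro v
  apply Subtype.ext
  funext j
  have h1 := eight_mul_co0 g v j
  have h2 := eight_mul_co0 h v j
  simp only [H] at h1
  linarith

end Cfsg.Agent.SporadicStructure.Co0Base
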