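import Cfsg.Agent.SporadicA.GolayBase
import Cfsg.Agent.SporadicA.Co0Basic
set_option linter.all false

/-!
The length-24 code is its own dual, and restricts onto all words on any set of at most 7 points.
-/

set_option autoImplicit false

namespace Cfsg.Agent.SporadicStructure.GolayInterp

open Cfsg Cfsg.Agent.SporadicA

/-- code words whose upper 12 bits are a single bit -/
def upMask (j : ℕ) : ℕ := (List.range 12).foldl
  (fun m i => if (GolayBase.basisMask i).testBit (12 + j) then m ^^^ GolayBase.basisMask i else m) 0

theorem upMask_spec : ∀ j : Fin 12, GolayBase.isCode (upMask j) = true ∧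
    ∀ k : Fin 12, (upMask j).testBit (12 + (k : ℕ)) = decide (k = j) := by
  decide +kernel

theorem word_mem_of_isCode {m : ℕ} (h : GolayBase.isCode m = true) :
    GolayBase.word m ∈ golayCode := by
  rw [GolayBase.mem_golayCode_iff, GolayBase.maskW_word (GolayBase.isCode_lt h)]
  exact h

/-- The code contains its dual. -/
theorem mem_golayCode_of_orthogonal (v : GolayPt → ZMod 2)
    (h : ∀ w ∈ golayCode, ∑ p, v p * w p = 0) : v ∈ golayCode := by
  set m := GolayBase.maskW v with hm
  have hc : GolayBase.word (GolayBase.enc m) ∈ golayCode := GolayBase.enc_mem m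
  set c := GolayBase.word (GolayBase.enc m) with hcdef
  have hlow : ∀ p : GolayPt, GolayBase.idx p < 12 → c p = v p := by
    intro p hp
    have h1 : (GolayBase.enc m % 2 ^ 12).testBit (GolayBase.idx p) =
        (m % 2 ^ 12).testBit (GolayBase.idx p) := by
      have := GolayBase.enc_mod_eq m
      norm_num
      rw [this]
    rw [Nat.testBit_mod_two_pow, Nat.testBit_mod_two_pow] at h1
    simp only [hp, decide_true, Bool.true_and] at h1
    rw [hcdef, GolayBase.word_apply, h1]
    conv_rhs => rw [← GolayBase.word_maskW v]
    rw [GolayBase.word_apply]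
  have hu : ∀ w ∈ golayCode, ∑ p, (v p + c p) * w p = 0 := by
    intro w hw
    simp only [add_mul, Finset.sum_add_distrib]
    rw [h w hw, Co0Basic.code_dot hc hw, add_zero]
  have hzero : ∀ p, v p + c p = 0 := by
    intro p
    by_cases hp : GolayBase.idx p < 12
    · rw [hlow p hp]
      generalize v p = a
      revert a; decide
    · have hlt := GolayBase.idx_lt p
      obtain ⟨j, hj⟩ : ∃ j : Fin 12, GolayBase.idx p = 12 + (j : ℕ) :=
        ⟨⟨GolayBase.idx p - 12, by omega⟩, by simp; omega⟩
      have hspec := upMask_spec j
      have h2 := hu _ (word_mem_of_isCode hspec.1)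
      rw [Finset.sum_eq_single p] at h2
      · rw [GolayBase.word_apply, hj, hspec.2 j] at h2
        simpa using h2
      · intro q _ hq
        by_cases hq12 : GolayBase.idx q < 12
        · rw [hlow q hq12]
          have : v q + v q = 0 := by
            generalize v q = a
            revert a; decide
          rw [this, zero_mul]
        · have hqlt := GolayBase.idx_lt q
          obtain ⟨k, hk⟩ : ∃ k : Fin 12, GolayBase.idx q = 12 + (k : ℕ) :=
            ⟨⟨GolayBase.idx q - 12, by omega⟩, by simp; omega⟩
          have hkj : k ≠ j := by
            intro hkj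
            apply hq
            apply GolayBase.idx_injective
            rw [hk, hj, hkj]
          rw [GolayBase.word_apply, hk, hspec.2 k]
          simp [hkj]
      · intro hq; exact absurd (Finset.mem_univ p) hq
  have : v = c := by
    funext p
    have h1 := hzero p
    generalize v p = a at h1 ⊢
    generalize c p = b at h1 ⊢
    revert a b; decide
  rw [this]
  exact hc

/-- Every word on a set of at most 7 points is the restriction of a code word. -/
theorem exists_word_interp (t : Finset GolayPt) (ht : t.card ≤ 7) (f : GolayPt → ZMod 2) :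
    ∃ w ∈ golayCode, ∀ i ∈ t, w i = f i := by
  classical
  -- the restriction map
  let R : (GolayPt → ZMod 2) →ₗ[ZMod 2] (t → ZMod 2) :=
    { toFun := fun w i => w i
      map_add' := fun _ _ => rfl
      map_smul' := fun _ _ => rfl }
  have hR : ∀ w i, R w i = w i := fun _ _ => rfl
  have htop : golayCode.map R = ⊤ := by
    by_contra hne
    obtain ⟨φ, hφ, hle⟩ := Submodule.exists_le_ker_of_lt_top _ (lt_top_iff_ne_top.mpr hne)
    have hφ' : ∀ x : t → ZMod 2, φ x = ∑ i, x i * φ (Pi.single i 1) := by
      intro x
      have h1 : x = ∑ i, x i • (Pi.single i (1 : ZMod 2) : t → ZMod 2) := by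
        funext j
        simp [Finset.sum_apply, Pi.single_apply]
      conv_lhs => rw [h1]
      rw [map_sum]
      simp [smul_eq_mul]
    let v : GolayPt → ZMod 2 := fun p => if h : p ∈ t then φ (Pi.single ⟨p, h⟩ 1) else 0
    have hv0 : ∀ p, p ∉ t → v p = 0 := fun p hp => dif_neg hp
    have hv1 : ∀ p : t, v p = φ (Pi.single p 1) := fun p => dif_pos p.2
    have hsum : ∀ w : GolayPt → ZMod 2, ∑ p, v p * w p = φ (R w) := by
      intro w
      rw [hφ', ← Finset.sum_subset (Finset.subset_univ t)]
      · rw [← Finset.sum_coe_sort t (fun p => v p * w p)]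
        refine Finset.sum_congr rfl fun p _ => ?_
        rw [hv1, hR, mul_comm]
      · intro p _ hp
        rw [hv0 p hp, zero_mul]
    have hvmem : v ∈ golayCode := by
      apply mem_golayCode_of_orthogonal
      intro w hw
      rw [hsum]
      exact hle (Submodule.mem_map_of_mem hw)
    have hsupp : support₂ v ⊆ t := by
      intro p hp
      by_contra hpt
      exact (GolayBase.mem_support₂.mp hp) (hv0 p hpt)
    have hcard := GolayBase.card_of_mem_supports (s := support₂ v) ⟨v, hvmem, rfl⟩
    have hle' := (Finset.card_le_card hsupp).trans ht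
    have h0 : (support₂ v).card = 0 := by omega
    rw [Finset.card_eq_zero] at h0
    apply hφ
    ext i
    have : v i = 0 := by
      by_contra hne'
      have : (i : GolayPt) ∈ support₂ v := GolayBase.mem_support₂.mpr hne'
      rw [h0] at this
      exact absurd this (Finset.notMem_empty _)
    rw [hv1] at this
    simpa using this
  have hmem : R f ∈ golayCode.map R := by rw [htop]; exact Submodule.mem_top
  obtain ⟨w, hw, hwf⟩ := hmem
  refine ⟨w, hw, fun i hi => ?_⟩
  have := congrFun hwf ⟨i, hi⟩
  exact this

end Cfsg.Agent.SporadicStructure.GolayInterp
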