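import Cfsg.Agent.SporadicA.Co0Basic
import Cfsg.Agent.SporadicA.LeechSet
import Cfsg.Agent.SporadicStructure.Sextet
set_option linter.all false

set_option autoImplicit false

/-!
# Conway's maps `ξ_T` for sextets, as elements of `Co0`

`T : GolayPt → Fin 6` is a partition of the points into six tetrads such that the union of any two is the support of a
codeword.  `xiFun T x` is, on each tetrad, `x` minus half the sum of `x` over the tetrad, with an additional sign change on
the tetrad of index 0.
-/

namespace Cfsg.Agent.SporadicStructure.XiMap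

open Cfsg

/-- A partition of the 24 points into six tetrads with pairwise unions codewords. -/
structure IsSextetMap (T : GolayPt → Fin 6) : Prop where
  card_fiber : ∀ t, (Finset.univ.filter fun q => T q = t).card = 4
  union_mem : ∀ t u, t ≠ u → (fun p => if T p = t ∨ T p = u then (1 : ZMod 2) else 0) ∈ golayCode

/-- The sum over a tetrad. -/
def blockSum (T : GolayPt → Fin 6) (x : GolayPt → ℤ) (t : Fin 6) : ℤ :=
  ∑ q ∈ Finset.univ.filter (fun q => T q = t), x q

/-- The sign attached to a tetrad. -/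
def sgn (t : Fin 6) : ℤ := if t = 0 then -1 else 1

theorem sgn_mul_sgn (t : Fin 6) : sgn t * sgn t = 1 := by
  unfold sgn; split_ifs <;> norm_num

/-- Conway's map on integer vectors. -/
def xiFun (T : GolayPt → Fin 6) (x : GolayPt → ℤ) : GolayPt → ℤ :=
  fun p => sgn (T p) * (x p - blockSum T x (T p) / 2)

variable {T : GolayPt → Fin 6}

theorem sum_blocks (T : GolayPt → Fin 6) (x : GolayPt → ℤ) : ∑ p, x p = ∑ t, blockSum T x t :=
  (Finset.sum_fiberwise Finset.univ T x).symm

theorem sum_mul_blocks (T : GolayPt → Fin 6) (f : Fin 6 → ℤ) (x : GolayPt → ℤ) :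
    ∑ p, f (T p) * x p = ∑ t, f t * blockSum T x t := by
  rw [sum_blocks T]
  refine Finset.sum_congr rfl fun t _ => ?_
  unfold blockSum
  rw [Finset.mul_sum]
  refine Finset.sum_congr rfl fun q hq => ?_
  show f (T q) * x q = f t * x q
  rw [(Finset.mem_filter.1 hq).2]

theorem blockSum_const (hT : IsSextetMap T) (f : Fin 6 → ℤ) (t : Fin 6) :
    blockSum T (fun p => f (T p)) t = 4 * f t := by
  unfold blockSum
  rw [Finset.sum_congr rfl (g := fun _ => f t)]
  · rw [Finset.sum_const, hT.card_fiber t]; simp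
  · intro q hq
    show f (T q) = f t
    rw [(Finset.mem_filter.1 hq).2]

theorem sum_const_blocks (hT : IsSextetMap T) (f : Fin 6 → ℤ) :
    ∑ p, f (T p) = 4 * ∑ t, f t := by
  rw [sum_blocks T, Finset.mul_sum]
  exact Finset.sum_congr rfl fun t _ => blockSum_const hT f t

/-- Words constant on tetrads, with even sum, are codewords. -/
theorem block_mem (hT : IsSextetMap T) (a : Fin 6 → ZMod 2) (ha : ∑ t, a t = 0) :
    (fun p => a (T p)) ∈ golayCode := by
  have hW : ∀ t : Fin 6, (fun p => (if T p = t then (1 : ZMod 2) else 0) + (if T p = 0 then 1 else 0)) ∈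
      golayCode := by
    intro t
    by_cases ht : t = 0
    · subst ht
      have : (fun p => (if T p = 0 then (1 : ZMod 2) else 0) + (if T p = 0 then 1 else 0)) = 0 := by
        funext p
        show (if T p = 0 then (1 : ZMod 2) else 0) + (if T p = 0 then 1 else 0) = 0
        split_ifs <;> decide
      rw [this]; exact Submodule.zero_mem _
    · have : (fun p => (if T p = t then (1 : ZMod 2) else 0) + (if T p = 0 then 1 else 0)) =
          fun p => if T p = t ∨ T p = 0 then (1 : ZMod 2) else 0 := by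
        funext p
        by_cases h1 : T p = t
        · have h2 : T p ≠ 0 := by rw [h1]; exact ht
          rw [if_pos h1, if_neg h2, if_pos (Or.inl h1), add_zero]
        · by_cases h2 : T p = 0
          · rw [if_neg h1, if_pos h2, if_pos (Or.inr h2), zero_add]
          · rw [if_neg h1, if_neg h2, if_neg (by tauto), add_zero]
      rw [this]; exact hT.union_mem t 0 ht
  have h2 : (fun p => a (T p)) =
      ∑ t, a t • (fun p => (if T p = t then (1 : ZMod 2) else 0) + (if T p = 0 then 1 else 0)) := by
    funext p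
    rw [Finset.sum_apply]
    simp only [Pi.smul_apply, smul_eq_mul, mul_add, Finset.sum_add_distrib]
    rw [← Finset.sum_mul, ha, zero_mul, add_zero]
    simp only [mul_ite, mul_one, mul_zero, Finset.sum_ite_eq, Finset.mem_univ, if_true]
  rw [h2]
  exact Submodule.sum_mem _ fun t _ => Submodule.smul_mem _ _ (hW t)

/-- The tetrad sums of a codeword (lifted to integers) all have the same parity. -/
theorem parity_blocks (hT : IsSextetMap T) {z : GolayPt → ℤ}
    (hz : (fun i => ((z i : ℤ) : ZMod 2)) ∈ golayCode) (t : Fin 6) :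
    ∃ w, blockSum T z t = blockSum T z 0 % 2 + 2 * w := by
  have key : (2 : ℤ) ∣ blockSum T z t - blockSum T z 0 := by
    by_cases ht : t = 0
    · subst ht; simp
    · have h1 := SporadicA.Co0Basic.code_dot (hT.union_mem t 0 ht) hz
      have h2 : ∑ p, (if T p = t ∨ T p = 0 then (1 : ZMod 2) else 0) * ((z p : ℤ) : ZMod 2) =
          ((blockSum T z t + blockSum T z 0 : ℤ) : ZMod 2) := by
        have h3 : ∀ p, (if T p = t ∨ T p = 0 then (1 : ZMod 2) else 0) * ((z p : ℤ) : ZMod 2) =
            (if T p = t then ((z p : ℤ) : ZMod 2) else 0) + (if T p = 0 then ((z p : ℤ) : ZMod 2) else 0) := by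
          intro p
          by_cases h1 : T p = t
          · have h2 : T p ≠ 0 := by rw [h1]; exact ht
            rw [if_pos h1, if_neg h2, if_pos (Or.inl h1), add_zero, one_mul]
          · by_cases h2 : T p = 0
            · rw [if_neg h1, if_pos h2, if_pos (Or.inr h2), zero_add, one_mul]
            · rw [if_neg h1, if_neg h2, if_neg (by tauto), add_zero, zero_mul]
        rw [Finset.sum_congr rfl fun p _ => h3 p, Finset.sum_add_distrib]
        unfold blockSum
        push_cast
        rw [Finset.sum_filter, Finset.sum_filter]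
      rw [h2] at h1
      have h4 := (ZMod.intCast_zmod_eq_zero_iff_dvd _ 2).mp h1
      push_cast at h4
      omega
  obtain ⟨k, hk⟩ := key
  refine ⟨(blockSum T z 0) / 2 + k, ?_⟩
  omega

/-- The exact form of the image of `m + 2z`. -/
theorem xi_mem (hT : IsSextetMap T) {x : GolayPt → ℤ} (hx : x ∈ leechLattice) :
    xiFun T x ∈ leechLattice := by
  rw [SporadicA.LeechSet.mem_leechLattice_iff'] at hx ⊢
  obtain ⟨m, z, hxz, hsum, hz⟩ := hx
  choose w hw using parity_blocks hT hz
  set d : ℤ := blockSum T z 0 % 2 with hd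
  have hbs : ∀ t, blockSum T x t = 4 * m + 2 * (d + 2 * w t) := by
    intro t
    rw [← hw t]
    unfold blockSum
    rw [Finset.sum_congr rfl fun q _ => hxz q, Finset.sum_add_distrib, Finset.sum_const, hT.card_fiber t,
      ← Finset.mul_sum]
    simp
  have hhalf : ∀ t, blockSum T x t / 2 = 2 * m + (d + 2 * w t) := by
    intro t; rw [hbs t]; omega
  have hxi : ∀ p, xiFun T x p = sgn (T p) * (-m + 2 * z p - d - 2 * w (T p)) := by
    intro p
    unfold xiFun
    rw [hhalf, hxz p]; ring
  -- total sums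
  have hZ : ∑ p, z p = 6 * d + 2 * ∑ t, w t := by
    rw [sum_blocks T, Finset.sum_congr rfl fun t _ => hw t, Finset.sum_add_distrib, Finset.mul_sum]
    simp
  have hX : ∑ p, x p = 24 * m + 2 * (6 * d + 2 * ∑ t, w t) := by
    rw [Finset.sum_congr rfl fun p _ => hxz p, Finset.sum_add_distrib, ← Finset.mul_sum, hZ]
    have : (∑ _p : GolayPt, m) = 24 * m := by
      rw [Finset.sum_const, Finset.card_univ]
      have : Fintype.card GolayPt = 24 := by decide
      rw [this]; simp
    rw [this]
  have hpar : ∃ k, ∑ t, w t = m + d + 2 * k := by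
    rw [hX] at hsum
    obtain ⟨k, hk⟩ := hsum.symm.dvd
    exact ⟨k - 3 * m - 2 * d, by linarith⟩
  obtain ⟨k, hk⟩ := hpar
  refine ⟨m + d, fun p => if T p = 0 then -z p + w (T p) else z p - m - d - w (T p), ?_, ?_, ?_⟩
  · intro p
    rw [hxi p]
    unfold sgn
    beta_reduce
    split_ifs <;> ring
  · have h1 : ∑ p, xiFun T x p = 2 * blockSum T x 0 - ∑ p, x p := by
      have h2 : ∑ p, xiFun T x p = ∑ p, sgn (T p) * (x p - (2 * m + (d + 2 * w (T p)))) := by
        refine Finset.sum_congr rfl fun p _ => ?_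
        unfold xiFun
        rw [hhalf]
      rw [h2, sum_mul_blocks T sgn (fun p => x p - (2 * m + (d + 2 * w (T p))))]
      have h3 : ∀ t, blockSum T (fun p => x p - (2 * m + (d + 2 * w (T p)))) t = - blockSum T x t := by
        intro t
        have h4 : blockSum T (fun p => x p - (2 * m + (d + 2 * w (T p)))) t =
            blockSum T x t - blockSum T (fun p => (fun t => 2 * m + (d + 2 * w t)) (T p)) t := by
          unfold blockSum
          rw [← Finset.sum_sub_distrib]
        rw [h4, blockSum_const hT (fun t => 2 * m + (d + 2 * w t)) t, hbs t]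
        ring
      rw [Finset.sum_congr rfl fun t _ => by rw [h3 t], sum_blocks T x]
      rw [Fin.sum_univ_succ, Fin.sum_univ_succ (f := blockSum T x)]
      have h5 : ∀ i : Fin 5, sgn i.succ * -blockSum T x i.succ = -blockSum T x i.succ := by
        intro i
        unfold sgn
        rw [if_neg (Fin.succ_ne_zero i)]; ring
      rw [Finset.sum_congr rfl fun i _ => h5 i, Finset.sum_neg_distrib]
      unfold sgn
      rw [if_pos rfl]
      ring
    rw [h1, hbs 0, hX, hk]
    refine Int.modEq_iff_dvd.mpr ⟨m * 3 + 2 * d + k - w 0, by ring⟩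
  · have h1 : (fun i => (((if T i = 0 then -z i + w (T i) else z i - m - d - w (T i) : ℤ)) : ZMod 2)) =
        (fun i => ((z i : ℤ) : ZMod 2)) +
          fun p => (fun t : Fin 6 => (((if t = 0 then w t else m + d + w t : ℤ)) : ZMod 2)) (T p) := by
      funext p
      simp only [Pi.add_apply]
      rw [← Int.cast_add, ← sub_eq_zero, ← Int.cast_sub, ZMod.intCast_zmod_eq_zero_iff_dvd]
      split_ifs with h
      · exact ⟨- z p, by push_cast; ring⟩
      · exact ⟨- m - d - w (T p), by push_cast; ring⟩
    rw [h1]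
    refine Submodule.add_mem _ hz
      (block_mem hT (fun t : Fin 6 => (((if t = 0 then w t else m + d + w t : ℤ)) : ZMod 2)) ?_)
    rw [← Int.cast_sum, ZMod.intCast_zmod_eq_zero_iff_dvd]
    rw [Fin.sum_univ_succ] at hk ⊢
    rw [if_pos rfl]
    have h2 : ∑ i : Fin 5, (if i.succ = 0 then w i.succ else m + d + w i.succ) =
        5 * (m + d) + ∑ i : Fin 5, w i.succ := by
      rw [Finset.sum_congr rfl (g := fun i : Fin 5 => (m + d) + w i.succ)]
      · rw [Finset.sum_add_distrib, Finset.sum_const, Finset.card_univ, Fintype.card_fin]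
        simp
      · intro i _
        rw [if_neg (Fin.succ_ne_zero i)]
    rw [h2]
    exact ⟨3 * (m + d) + k, by push_cast; linarith⟩

theorem two_dvd_blockSum (hT : IsSextetMap T) {x : GolayPt → ℤ} (hx : x ∈ leechLattice) (t : Fin 6) :
    ∃ r, blockSum T x t = 2 * r := by
  rw [SporadicA.LeechSet.mem_leechLattice_iff'] at hx
  obtain ⟨m, z, hxz, -, -⟩ := hx
  refine ⟨2 * m + blockSum T z t, ?_⟩
  unfold blockSum
  rw [Finset.sum_congr rfl fun q _ => hxz q, Finset.sum_add_distrib, Finset.sum_const, hT.card_fiber t,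
    ← Finset.mul_sum]
  simp; ring

theorem blockSum_xi (hT : IsSextetMap T) {x : GolayPt → ℤ} (hx : x ∈ leechLattice) (t : Fin 6) :
    blockSum T (xiFun T x) t = sgn t * - blockSum T x t := by
  choose r hr using two_dvd_blockSum hT hx
  have h1 : blockSum T (xiFun T x) t = sgn t * (blockSum T x t - blockSum T (fun p => r (T p)) t) := by
    unfold blockSum
    rw [← Finset.sum_sub_distrib, Finset.mul_sum]
    refine Finset.sum_congr rfl fun q hq => ?_
    unfold xiFun
    rw [hr, (Finset.mem_filter.1 hq).2]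
    have : 2 * r t / 2 = r t := by omega
    rw [this]
  rw [h1, blockSum_const hT, hr t]
  ring

theorem xi_xi (hT : IsSextetMap T) {x : GolayPt → ℤ} (hx : x ∈ leechLattice) :
    xiFun T (xiFun T x) = x := by
  funext p
  have h1 := blockSum_xi hT hx (T p)
  obtain ⟨r, hr⟩ := two_dvd_blockSum hT hx (T p)
  show sgn (T p) * (xiFun T x p - blockSum T (xiFun T x) (T p) / 2) = x p
  rw [h1]
  have h2 : xiFun T x p = sgn (T p) * (x p - r) := by
    unfold xiFun
    rw [hr]
    have : 2 * r / 2 = r := by omega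
    rw [this]
  rw [h2, hr]
  have h3 : sgn (T p) * -(2 * r) / 2 = sgn (T p) * - r := by
    have : sgn (T p) * -(2 * r) = 2 * (sgn (T p) * - r) := by ring
    rw [this]; omega
  rw [h3]
  have := sgn_mul_sgn (T p)
  linear_combination (x p) * this

theorem sqNorm_xi (hT : IsSextetMap T) {x : GolayPt → ℤ} (hx : x ∈ leechLattice) :
    sqNorm (xiFun T x) = sqNorm x := by
  choose r hr using two_dvd_blockSum hT hx
  have h1 : ∀ p, xiFun T x p ^ 2 = x p ^ 2 - 2 * (r (T p) * x p) + r (T p) ^ 2 := by
    intro p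
    unfold xiFun
    rw [hr]
    have : 2 * r (T p) / 2 = r (T p) := by omega
    rw [this]
    have h2 := sgn_mul_sgn (T p)
    linear_combination (x p - r (T p)) ^ 2 * h2
  unfold sqNorm
  rw [Finset.sum_congr rfl fun p _ => h1 p, Finset.sum_add_distrib, Finset.sum_sub_distrib, ← Finset.mul_sum,
    sum_mul_blocks T r x, sum_const_blocks hT (fun t => r t ^ 2)]
  have h3 : ∑ t, r t * blockSum T x t = 2 * ∑ t, r t ^ 2 := by
    rw [Finset.mul_sum]
    refine Finset.sum_congr rfl fun t _ => ?_
    rw [hr t]; ring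
  rw [h3]; ring

theorem xi_add (hT : IsSextetMap T) {x y : GolayPt → ℤ} (hx : x ∈ leechLattice) (hy : y ∈ leechLattice) :
    xiFun T (x + y) = xiFun T x + xiFun T y := by
  funext p
  obtain ⟨r, hr⟩ := two_dvd_blockSum hT hx (T p)
  obtain ⟨s, hs⟩ := two_dvd_blockSum hT hy (T p)
  have h1 : blockSum T (x + y) (T p) = 2 * (r + s) := by
    unfold blockSum at *
    simp only [Pi.add_apply, Finset.sum_add_distrib]
    rw [hr, hs]; ring
  show sgn (T p) * ((x + y) p - blockSum T (x + y) (T p) / 2) =
    sgn (T p) * (x p - blockSum T x (T p) / 2) + sgn (T p) * (y p - blockSum T y (T p) / 2)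
  rw [h1, hr, hs, Pi.add_apply]
  have e1 : 2 * (r + s) / 2 = r + s := by omega
  have e2 : 2 * r / 2 = r := by omega
  have e3 : 2 * s / 2 = s := by omega
  rw [e1, e2, e3]; ring

/-- Conway's map `ξ_T` as an element of `Co0`. -/
def xiCo0 (T : GolayPt → Fin 6) (hT : IsSextetMap T) : Co0 :=
  ⟨{ toFun := fun v => ⟨xiFun T v, xi_mem hT v.2⟩
     invFun := fun v => ⟨xiFun T v, xi_mem hT v.2⟩
     left_inv := fun v => Subtype.ext (xi_xi hT v.2)
     right_inv := fun v => Subtype.ext (xi_xi hT v.2) },
    ⟨fun v w => Subtype.ext (xi_add hT v.2 w.2), fun v => sqNorm_xi hT v.2⟩⟩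

theorem xiCo0_smul (hT : IsSextetMap T) (v : leechLattice) :
    ((xiCo0 T hT • v : leechLattice) : GolayPt → ℤ) = xiFun T v := rfl

/-- The values of `ξ_T`, without division. -/
theorem two_mul_xiCo0 (hT : IsSextetMap T) (v : leechLattice) (p : GolayPt) :
    2 * ((xiCo0 T hT • v : leechLattice) : GolayPt → ℤ) p =
      sgn (T p) * (2 * (v : GolayPt → ℤ) p - blockSum T v (T p)) := by
  rw [xiCo0_smul]
  obtain ⟨r, hr⟩ := two_dvd_blockSum hT v.2 (T p)
  unfold xiFun
  rw [hr]
  have : 2 * r / 2 = r := by omega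
  rw [this]; ring

/-- Every 4-set is the tetrad of index 0 of a sextet map. -/
theorem exists_sextetMap (hSt : IsSteinerSystem 5 8 octads) (s : Finset GolayPt) (hs : s.card = 4) :
    ∃ T : GolayPt → Fin 6, IsSextetMap T ∧ ∀ p, T p = 0 ↔ p ∈ s := by
  classical
  have hcard := Sextet.card_sextetOf hSt hs
  let e₀ : {u // u ∈ Sextet.sextetOf s} ≃ Fin 6 := (Sextet.sextetOf s).equivFinOfCardEq hcard
  let e : {u // u ∈ Sextet.sextetOf s} ≃ Fin 6 :=
    e₀.trans (Equiv.swap (e₀ ⟨s, Sextet.self_mem_sextetOf s⟩) 0)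
  have he0 : e ⟨s, Sextet.self_mem_sextetOf s⟩ = 0 := by simp [e]
  choose u hu hpu using fun p => Sextet.exists_mem_sextetOf hSt hs p
  have huniq : ∀ (p : GolayPt) (v : {u // u ∈ Sextet.sextetOf s}), p ∈ v.1 ↔ (⟨u p, hu p⟩ : {u // u ∈ Sextet.sextetOf s}) = v := by
    intro p v
    constructor
    · intro hp
      by_contra hne
      have hne' : u p ≠ v.1 := fun h => hne (Subtype.ext h)
      exact Finset.disjoint_left.1 (Sextet.pair_sextetOf hSt hs (hu p) v.2 hne').1 (hpu p) hp
    · rintro rfl
      exact hpu p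
  have hT : ∀ (p : GolayPt) (t : Fin 6), e ⟨u p, hu p⟩ = t ↔ p ∈ (e.symm t).1 := by
    intro p t
    rw [huniq p (e.symm t)]
    constructor
    · rintro rfl; simp
    · intro h; rw [h]; simp
  refine ⟨fun p => e ⟨u p, hu p⟩, ⟨fun t => ?_, fun t t' htt' => ?_⟩, fun p => ?_⟩
  · have : (Finset.univ.filter fun q => e ⟨u q, hu q⟩ = t) = (e.symm t).1 := by
      ext q
      rw [Finset.mem_filter, hT q t]
      simp
    rw [this]
    exact Sextet.card_of_mem_sextetOf hs (e.symm t).2
  · have hne : (e.symm t).1 ≠ (e.symm t').1 := fun h => htt' (e.symm.injective (Subtype.ext h))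
    have ho := (Sextet.pair_sextetOf hSt hs (e.symm t).2 (e.symm t').2 hne).2.1
    rw [SporadicA.LeechSet.mem_supports_iff] at ho
    have : (fun p => if e ⟨u p, hu p⟩ = t ∨ e ⟨u p, hu p⟩ = t' then (1 : ZMod 2) else 0) =
        fun a => if a ∈ (e.symm t).1 ∪ (e.symm t').1 then (1 : ZMod 2) else 0 := by
      funext p
      simp only [Finset.mem_union, ← hT]
    rw [this]
    exact ho
  · show e ⟨u p, hu p⟩ = 0 ↔ p ∈ s
    rw [hT p 0]
    have : e.symm 0 = ⟨s, Sextet.self_mem_sextetOf s⟩ := by
      rw [Equiv.symm_apply_eq]; exact he0.symm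
    rw [this]

end Cfsg.Agent.SporadicStructure.XiMap
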