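import Cfsg.Agent.ClassicalGeometry.UnitTransv
import Cfsg.Agent.ClassicalGeometry.RankOne
import Cfsg.Prelude.Def_SporadicB
set_option linter.all false

/-!
Unitary groups over the field with four elements: for `n ≥ 4` the elements `g` of `SU n F 2` with
`g - 1` of rank one are a generating conjugacy class of 3-transpositions.
-/

set_option autoImplicit false
set_option linter.unusedSectionVars false
set_option linter.unusedSimpArgs false

namespace Cfsg.Agent.SporadicStructure.UnitTwo

open Cfsg Cfsg.Agent.LieClassical.HermBasic Cfsg.Agent.ClassicalGeometry.UnitTransv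
open scoped Matrix

section FieldFacts

variable {F : Type*} [Field F] [Fintype F] (hF : Fintype.card F = 2 ^ 2)
include hF

theorem two_eq_zero : (2 : F) = 0 := by
  have h : ((Fintype.card F : ℕ) : F) = 0 := Nat.cast_card_eq_zero F
  rw [hF] at h
  have h2 : (2 : F) * 2 = 0 := by
    push_cast at h
    linear_combination h
  exact mul_self_eq_zero.1 h2

theorem add_self (x : F) : x + x = 0 := by
  linear_combination x * two_eq_zero hF

theorem neg_eq (x : F) : -x = x := by
  linear_combination (-x) * two_eq_zero hF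

theorem eq_of_add_eq_zero {x y : F} (h : x + y = 0) : x = y := by
  linear_combination h - y * two_eq_zero hF

theorem pow_three {x : F} (hx : x ≠ 0) : x ^ 3 = 1 := by
  have := FiniteField.pow_card_sub_one_eq_one x hx
  rwa [hF] at this

theorem pow_four (x : F) : x ^ 4 = x := by
  have := FiniteField.pow_card x
  rwa [hF] at this

theorem trace_one : (1 : F) + 1 ^ 2 = 0 := by
  linear_combination two_eq_zero hF

theorem exists_omega : ∃ ω : F, ω ^ 2 + ω + 1 = 0 := by
  classical
  obtain ⟨x, hx⟩ := exists_not_fixed hF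
  refine ⟨x, ?_⟩
  have hx0 : x ≠ 0 := by rintro rfl; simp at hx
  have hx1 : x - 1 ≠ 0 := by
    intro h
    have : x = 1 := by linear_combination h
    rw [this] at hx; simp at hx
  have h3 := pow_three hF hx0
  have : (x - 1) * (x ^ 2 + x + 1) = 0 := by linear_combination h3
  exact (mul_eq_zero.1 this).resolve_left hx1

theorem zero_or_one_of_fixed {c : F} (hc : c ^ 2 = c) : c = 0 ∨ c = 1 := by
  have : c * (c - 1) = 0 := by linear_combination hc
  rcases mul_eq_zero.1 this with h | h
  · exact Or.inl h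
  · exact Or.inr (by linear_combination h)

end FieldFacts

section Transvections

variable {F : Type*} [Field F] [Fintype F] {n : ℕ} (hF : Fintype.card F = 2 ^ 2)
include hF

/-- The unitary transvection `x ↦ x + h(x, v) v`. -/
def T (v : Fin n → F) (hv : hermForm n F 2 v v = 0) : SU n F 2 :=
  utv hF v 1 hv (trace_one hF)

theorem act_T (v : Fin n → F) (hv : hermForm n F 2 v v = 0) (x : Fin n → F) :
    act (T hF v hv) x = x + hermForm n F 2 x v • v := by
  rw [T, act_utv, one_mul]

theorem act_T_of_perp (v : Fin n → F) (hv : hermForm n F 2 v v = 0) (x : Fin n → F)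
    (h : hermForm n F 2 x v = 0) : act (T hF v hv) x = x := by
  rw [act_T, h, zero_smul, add_zero]

theorem vadd_self (x : Fin n → F) : x + x = 0 := by
  funext i
  exact add_self hF (x i)

theorem T_mul_self (v : Fin n → F) (hv : hermForm n F 2 v v = 0) :
    T hF v hv * T hF v hv = 1 := by
  apply ext_act
  intro x
  rw [act_mul, act_one, act_T hF v hv x, act_T, herm_add_left, herm_smul_left, hv, mul_zero,
    add_zero, add_assoc, vadd_self hF, add_zero]

theorem T_zero (hv : hermForm n F 2 (0 : Fin n → F) 0 = 0) : T hF 0 hv = 1 := by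
  apply ext_act
  intro x
  rw [act_T, smul_zero, add_zero, act_one]

theorem conj_T (g : SU n F 2) (v : Fin n → F) (hv : hermForm n F 2 v v = 0)
    (hgv : hermForm n F 2 (act g v) (act g v) = 0) :
    g * T hF v hv * g⁻¹ = T hF (act g v) hgv := by
  rw [mul_inv_eq_iff_eq_mul]
  apply ext_act
  intro x
  rw [act_mul, act_mul, act_T, act_T, herm_act, act_add, act_smul]

theorem T_smul (c : F) (hc : c ≠ 0) (v : Fin n → F) (hv : hermForm n F 2 v v = 0)
    (hcv : hermForm n F 2 (c • v) (c • v) = 0) : T hF (c • v) hcv = T hF v hv := by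
  apply ext_act
  intro x
  rw [act_T, act_T, herm_smul_right]
  have h3 := pow_three hF hc
  funext i
  simp only [Pi.add_apply, Pi.smul_apply, smul_eq_mul]
  linear_combination (hermForm n F 2 x v * v i) * h3

/-- The subgroup generated by the transvections. -/
def R : Subgroup (SU n F 2) :=
  Subgroup.closure {g | ∃ (v : Fin n → F) (hv : hermForm n F 2 v v = 0), v ≠ 0 ∧ g = T hF v hv}

theorem T_mem (v : Fin n → F) (hv : hermForm n F 2 v v = 0) : T hF v hv ∈ R (n := n) hF := by
  by_cases h : v = 0
  · subst h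
    rw [T_zero]
    exact one_mem _
  · exact Subgroup.subset_closure ⟨v, hv, h, rfl⟩

/-- Swapping two orthonormal vectors. -/
theorem swap (v w : Fin n → F) (hv : hermForm n F 2 v v = 1) (hw : hermForm n F 2 w w = 1)
    (hvw : hermForm n F 2 v w = 0) :
    ∃ r ∈ R (n := n) hF, act r v = w ∧
      ∀ x, hermForm n F 2 x v = 0 → hermForm n F 2 x w = 0 → act r x = x := by
  have hwv := herm_eq_zero_swap hF hvw
  have h0 : hermForm n F 2 (v + w) (v + w) = 0 := by
    rw [herm_add_left, herm_add_right hF, herm_add_right hF, hv, hw, hvw, hwv, add_zero, zero_add]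
    exact add_self hF 1
  refine ⟨T hF _ h0, T_mem hF _ h0, ?_, fun x h1 h2 => ?_⟩
  · rw [act_T, herm_add_right hF, hv, hvw, add_zero, one_smul, ← add_assoc, vadd_self hF, zero_add]
  · apply act_T_of_perp
    rw [herm_add_right hF, h1, h2, add_zero]

/-- The standard basis vector. -/
def e (i : Fin n) : Fin n → F := Pi.single i 1

omit hF [Fintype F] in
theorem e_def (i : Fin n) : (e i : Fin n → F) = Pi.single i 1 := rfl

theorem herm_e_right (x : Fin n → F) (i : Fin n) : hermForm n F 2 x (e i) = x i := by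
  rw [e_def, herm_single_right hF, one_pow, mul_one]

theorem herm_e_left (x : Fin n → F) (i : Fin n) : hermForm n F 2 (e i) x = x i ^ 2 := by
  rw [e_def, herm_single_left, one_mul]

omit hF [Fintype F] in
theorem e_self (i : Fin n) : (e i : Fin n → F) i = 1 := by rw [e_def, Pi.single_eq_same]

omit hF [Fintype F] in
theorem e_ne {i j : Fin n} (h : j ≠ i) : (e i : Fin n → F) j = 0 := by
  rw [e_def, Pi.single_eq_of_ne h]

/-- `g` fixes the basis vectors of index at least `k`. -/
def Fixes (k : ℕ) (g : SU n F 2) : Prop := ∀ i : Fin n, k ≤ i.val → act g (e i) = e i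

/-- One step of the chain. -/
theorem step (k : Fin n) (g : SU n F 2) (hg : Fixes (k.val + 1) g) (w : Fin n → F)
    (hw : hermForm n F 2 w w = 1) (hsupp : ∀ i : Fin n, k.val ≤ i.val → w i = 0)
    (hvw : hermForm n F 2 (act g (e k)) w = 0) :
    ∃ r ∈ R (n := n) hF, Fixes k.val (r * g) := by
  set v := act g (e k) with hv
  have hvv : hermForm n F 2 v v = 1 := by rw [hv, herm_act, herm_e_right hF, e_self]
  have hvi : ∀ i : Fin n, k.val < i.val → v i = 0 := by
    intro i hi
    rw [← herm_e_right hF v i, ← hg i hi, hv, herm_act, herm_e_right hF, e_ne]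
    intro h; rw [h] at hi; exact lt_irrefl _ hi
  have hekk : hermForm n F 2 (e k) (e k) = 1 := by rw [herm_e_right hF, e_self]
  have hwk : hermForm n F 2 w (e k) = 0 := by rw [herm_e_right hF, hsupp k le_rfl]
  obtain ⟨r1, hr1, h1, h1'⟩ := swap hF v w hvv hw hvw
  obtain ⟨r2, hr2, h2, h2'⟩ := swap hF w (e k) hw hekk hwk
  refine ⟨r2 * r1, mul_mem hr2 hr1, fun i hi => ?_⟩
  rw [act_mul, act_mul]
  rcases hi.eq_or_lt with h | h
  · have : i = k := Fin.ext h.symm
    rw [this, ← hv, h1, h2]
  · rw [hg i h, h1', h2']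
    · rw [herm_e_left hF, hsupp i h.le, zero_pow two_ne_zero]
    · rw [herm_e_right hF, e_ne]
      intro h'; rw [h'] at h; exact lt_irrefl _ h
    · rw [herm_e_left hF, hvi i h, zero_pow two_ne_zero]
    · rw [herm_e_left hF, hsupp i h.le, zero_pow two_ne_zero]

theorem herm_self_eq (v : Fin n → F) : hermForm n F 2 v v = ∑ i, v i ^ 3 := by
  rw [herm_def]
  exact Finset.sum_congr rfl fun i _ => by ring

/-- A norm one vector orthogonal to a given one, in the first three coordinates. -/
theorem exists_perp (hn : 3 ≤ n) (v : Fin n → F) :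
    ∃ w : Fin n → F, hermForm n F 2 w w = 1 ∧ (∀ i : Fin n, 3 ≤ i.val → w i = 0) ∧
      hermForm n F 2 v w = 0 := by
  classical
  by_cases h : ∃ j : Fin n, j.val < 3 ∧ v j = 0
  · obtain ⟨j, hj, hvj⟩ := h
    refine ⟨e j, by rw [herm_e_right hF, e_self], fun i hi => e_ne ?_, ?_⟩
    · rintro rfl; omega
    · rw [herm_e_right hF, hvj]
  · push Not at h
    obtain ⟨ω, hω⟩ := exists_omega hF
    let i0 : Fin n := ⟨0, by omega⟩
    let i1 : Fin n := ⟨1, by omega⟩
    let i2 : Fin n := ⟨2, by omega⟩
    have h01 : i0 ≠ i1 := by simp [i0, i1]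
    have h02 : i0 ≠ i2 := by simp [i0, i2]
    have h12 : i1 ≠ i2 := by simp [i1, i2]
    have hv0 := pow_three hF (h i0 (by simp [i0]))
    have hv1 := pow_three hF (h i1 (by simp [i1]))
    have hv2 := pow_three hF (h i2 (by simp [i2]))
    have hω0 : ω ≠ 0 := by rintro rfl; simp at hω
    have hω3 := pow_three hF hω0
    have h2 := two_eq_zero hF
    refine ⟨v i0 • e i0 + (ω * v i1) • e i1 + (ω ^ 2 * v i2) • e i2, ?_, ?_, ?_⟩
    · simp only [herm_add_left, herm_add_right hF, herm_smul_left, herm_smul_right,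
        herm_e_right hF, e_self, e_ne h01, e_ne h02, e_ne h12, e_ne h01.symm, e_ne h02.symm,
        e_ne h12.symm, Pi.add_apply, Pi.smul_apply, smul_eq_mul, mul_zero, add_zero, zero_add,
        mul_one]
      linear_combination hv0 + ω ^ 3 * hv1 + ω ^ 6 * hv2 + (2 + ω ^ 3) * hω3 + h2
    · intro i hi
      have a0 : i ≠ i0 := by rintro rfl; simp [i0] at hi
      have a1 : i ≠ i1 := by rintro rfl; simp [i1] at hi
      have a2 : i ≠ i2 := by rintro rfl; simp [i2] at hi
      simp only [Pi.add_apply, Pi.smul_apply, e_ne a0, e_ne a1, e_ne a2, smul_zero, add_zero]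
    · simp only [herm_add_left, herm_add_right hF, herm_smul_left, herm_smul_right,
        herm_e_right hF]
      linear_combination hv0 + ω ^ 2 * hv1 + ω ^ 4 * hv2 + ω * hω3 + hω

/-- Every element is, modulo transvections, in the copy of `SU_3`. -/
theorem reduce_three (hn : 3 ≤ n) (g : SU n F 2) : ∃ r ∈ R (n := n) hF, Fixes 3 (r * g) := by
  suffices H : ∀ d : ℕ, d + 3 ≤ n → ∀ g : SU n F 2, Fixes (d + 3) g →
      ∃ r ∈ R (n := n) hF, Fixes 3 (r * g) by
    obtain ⟨d, hd⟩ := Nat.exists_eq_add_of_le' hn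
    refine H d hd.symm.le g fun i hi => ?_
    have := i.isLt
    omega
  intro d
  induction d with
  | zero =>
    intro _ g hg
    exact ⟨1, one_mem _, by rw [one_mul]; simpa using hg⟩
  | succ d ih =>
    intro hd g hg
    obtain ⟨w, hw1, hw2, hw3⟩ := exists_perp hF hn (act g (e ⟨d + 3, by omega⟩))
    obtain ⟨r, hr, hfix⟩ := step hF ⟨d + 3, by omega⟩ g (by
      intro i hi
      exact hg i (by simp only at hi; omega)) w hw1 (fun i hi => hw2 i (by simp only at hi; omega)) hw3
    obtain ⟨r', hr', hfix'⟩ := ih (by omega) (r * g) hfix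
    exact ⟨r' * r, mul_mem hr' hr, by rwa [mul_assoc]⟩

omit hF [Fintype F] in
/-- A vector with four coordinates. -/
theorem vec_add (i0 i1 i2 i3 : Fin n) (a b c d a' b' c' d' s : F) :
    (a • e i0 + b • e i1 + c • e i2 + d • e i3 : Fin n → F)
      + s • (a' • e i0 + b' • e i1 + c' • e i2 + d' • e i3)
      = (a + s * a') • e i0 + (b + s * b') • e i1 + (c + s * c') • e i2 + (d + s * d') • e i3 := by
  funext i
  simp only [Pi.add_apply, Pi.smul_apply, smul_eq_mul]
  ring

theorem herm_vec {i0 i1 i2 i3 : Fin n} (h01 : i0 ≠ i1) (h02 : i0 ≠ i2) (h03 : i0 ≠ i3)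
    (h12 : i1 ≠ i2) (h13 : i1 ≠ i3) (h23 : i2 ≠ i3) (a b c d a' b' c' d' : F) :
    hermForm n F 2 (a • e i0 + b • e i1 + c • e i2 + d • e i3)
      (a' • e i0 + b' • e i1 + c' • e i2 + d' • e i3)
      = a * a' ^ 2 + b * b' ^ 2 + c * c' ^ 2 + d * d' ^ 2 := by
  simp only [herm_add_left, herm_add_right hF, herm_smul_left, herm_smul_right,
    herm_e_right hF, e_self, e_ne h01, e_ne h02, e_ne h03, e_ne h12, e_ne h13, e_ne h23,
    e_ne h01.symm, e_ne h02.symm, e_ne h03.symm, e_ne h12.symm, e_ne h13.symm, e_ne h23.symm,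
    Pi.add_apply, Pi.smul_apply, smul_eq_mul, mul_zero, add_zero, zero_add, mul_one]
  ring

/-- Moving the image of `e_2` into the monomial position. -/
theorem reduce_three' (hn : 4 ≤ n) (g : SU n F 2) (hg : Fixes 3 g) :
    ∃ r ∈ R (n := n) hF, Fixes 3 (r * g) ∧ ∃ j : Fin n, j.val < 2 ∧
      act (r * g) (e ⟨2, by omega⟩) j = 0 := by
  classical
  by_cases h : ∃ j : Fin n, j.val < 2 ∧ act g (e ⟨2, by omega⟩) j = 0
  · exact ⟨1, one_mem _, by rwa [one_mul], by simpa using h⟩
  · push Not at h
    obtain ⟨ω, hω⟩ := exists_omega hF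
    let i0 : Fin n := ⟨0, by omega⟩
    let i1 : Fin n := ⟨1, by omega⟩
    let i2 : Fin n := ⟨2, by omega⟩
    let i3 : Fin n := ⟨3, by omega⟩
    have h01 : i0 ≠ i1 := by simp [i0, i1]
    have h02 : i0 ≠ i2 := by simp [i0, i2]
    have h03 : i0 ≠ i3 := by simp [i0, i3]
    have h12 : i1 ≠ i2 := by simp [i1, i2]
    have h13 : i1 ≠ i3 := by simp [i1, i3]
    have h23 : i2 ≠ i3 := by simp [i2, i3]
    have hω0 : ω ≠ 0 := by rintro rfl; simp at hω
    have hω3 := pow_three hF hω0
    have h2 := two_eq_zero hF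
    set v := act g (e i2) with hv
    have hvv : hermForm n F 2 v v = 1 := by rw [hv, herm_act, herm_e_right hF, e_self]
    have hvi : ∀ i : Fin n, 3 ≤ i.val → v i = 0 := by
      intro i hi
      rw [← herm_e_right hF v i, ← hg i hi, hv, herm_act, herm_e_right hF, e_ne]
      rintro rfl
      simp [i2] at hi
    have hveq : ∃ a b c : F, v = a • e i0 + b • e i1 + c • e i2 + (0 : F) • e i3 ∧ a ≠ 0 ∧ b ≠ 0 := by
      refine ⟨v i0, v i1, v i2, ?_, h i0 (by simp [i0]), h i1 (by simp [i1])⟩
      funext i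
      simp only [Pi.add_apply, Pi.smul_apply, smul_eq_mul]
      by_cases c0 : i = i0
      · rw [c0, e_self, e_ne h01, e_ne h02]; ring
      · by_cases c1 : i = i1
        · rw [c1, e_self, e_ne h01.symm, e_ne h12]; ring
        · by_cases c2 : i = i2
          · rw [c2, e_self, e_ne h02.symm, e_ne h12.symm]; ring
          · rw [e_ne c0, e_ne c1, e_ne c2, hvi i]
            · ring
            · have : i.val ≠ 0 := fun h => c0 (Fin.ext h)
              have : i.val ≠ 1 := fun h => c1 (Fin.ext h)
              have : i.val ≠ 2 := fun h => c2 (Fin.ext h)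
              omega
    obtain ⟨a, b, c, hveq, ha, hb⟩ := hveq
    have ha3 := pow_three hF ha
    have hb3 := pow_three hF hb
    have hherm := fun a b c d a' b' c' d' : F => herm_vec hF h01 h02 h03 h12 h13 h23 a b c d a' b' c' d'
    have hc3 : c ^ 3 = 1 := by
      rw [hveq, hherm] at hvv
      linear_combination hvv - ha3 - hb3 - h2
    have hT : ∀ a b c d a' b' c' d' : F, ∀ hh, ∀ s, s = a * a' ^ 2 + b * b' ^ 2 + c * c' ^ 2 + d * d' ^ 2 →
        act (T hF (a' • e i0 + b' • e i1 + c' • e i2 + d' • e i3) hh)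
          (a • e i0 + b • e i1 + c • e i2 + d • e i3)
        = (a + s * a') • e i0 + (b + s * b') • e i1 + (c + s * c') • e i2 + (d + s * d') • e i3 := by
      intro a b c d a' b' c' d' hh s hs
      rw [act_T, hherm, vec_add, ← hs]
    have hu1 : hermForm n F 2 ((0 : F) • e i0 + (0 : F) • e i1 + c • e i2 + (1 : F) • e i3)
        ((0 : F) • e i0 + (0 : F) • e i1 + c • e i2 + (1 : F) • e i3) = 0 := by
      rw [hherm]; linear_combination hc3 + h2
    have hu2 : hermForm n F 2 ((0 : F) • e i0 + (0 : F) • e i1 + c • e i2 + ω • e i3)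
        ((0 : F) • e i0 + (0 : F) • e i1 + c • e i2 + ω • e i3) = 0 := by
      rw [hherm]; linear_combination hc3 + hω3 + h2
    have hu3 : hermForm n F 2 (a • e i0 + b • e i1 + (c * ω) • e i2 + (1 : F) • e i3)
        (a • e i0 + b • e i1 + (c * ω) • e i2 + (1 : F) • e i3) = 0 := by
      rw [hherm]; linear_combination ha3 + hb3 + ω ^ 3 * hc3 + hω3 + 2 * h2
    have hu4 : hermForm n F 2 (a • e i0 + b • e i1 + (c * ω) • e i2 + (ω ^ 2) • e i3)
        (a • e i0 + b • e i1 + (c * ω) • e i2 + (ω ^ 2) • e i3) = 0 := by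
      rw [hherm]
      linear_combination ha3 + hb3 + ω ^ 3 * hc3 + hω3 + (ω ^ 3 + 1) * hω3 + 2 * h2
    have vcongr : ∀ a b c d a' b' c' d' : F, a = a' → b = b' → c = c' → d = d' →
        (a • e i0 + b • e i1 + c • e i2 + d • e i3 : Fin n → F) =
          a' • e i0 + b' • e i1 + c' • e i2 + d' • e i3 := by
      rintro a b c d a' b' c' d' rfl rfl rfl rfl; rfl
    have m1 : act (T hF _ hu1) v
        = a • e i0 + b • e i1 + (0 : F) • e i2 + (1 : F) • e i3 := by
      rw [hveq, hT _ _ _ _ _ _ _ _ _ 1 (by linear_combination -hc3)]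
      apply vcongr
      · ring
      · ring
      · linear_combination c * h2
      · ring
    have m2 : act (T hF _ hu2) (a • e i0 + b • e i1 + (0 : F) • e i2 + (1 : F) • e i3)
        = a • e i0 + b • e i1 + (ω ^ 2 * c) • e i2 + (0 : F) • e i3 := by
      rw [hT _ _ _ _ _ _ _ _ _ (ω ^ 2) (by ring)]
      apply vcongr
      · ring
      · ring
      · ring
      · linear_combination hω3 + h2
    have m3 : act (T hF _ hu3) (a • e i0 + b • e i1 + (ω ^ 2 * c) • e i2 + (0 : F) • e i3)
        = (ω ^ 2 * a) • e i0 + (ω ^ 2 * b) • e i1 + (0 : F) • e i2 + ω • e i3 := by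
      rw [hT _ _ _ _ _ _ _ _ _ ω (by
        linear_combination -ha3 - hb3 - ω ^ 4 * hc3 - ω * hω3 - h2)]
      apply vcongr
      · linear_combination a * hω - ω ^ 2 * a * h2
      · linear_combination b * hω - ω ^ 2 * b * h2
      · linear_combination ω ^ 2 * c * h2
      · ring
    have m4 : act (T hF _ hu4) ((ω ^ 2 * a) • e i0 + (ω ^ 2 * b) • e i1 + (0 : F) • e i2 + ω • e i3)
        = (0 : F) • e i0 + (0 : F) • e i1 + c • e i2 + (0 : F) • e i3 := by
      rw [hT _ _ _ _ _ _ _ _ _ (ω ^ 2) (by
        linear_combination -ω ^ 2 * ha3 - ω ^ 2 * hb3 - ω ^ 2 * hω3 - ω ^ 2 * h2)]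
      apply vcongr
      · linear_combination ω ^ 2 * a * h2
      · linear_combination ω ^ 2 * b * h2
      · linear_combination c * hω3
      · linear_combination ω * hω3 + ω * h2
    have he3 : (e i3 : Fin n → F) = (0 : F) • e i0 + (0 : F) • e i1 + (0 : F) • e i2 + (1 : F) • e i3 := by
      simp
    have n1 : act (T hF _ hu1) ((0 : F) • e i0 + (0 : F) • e i1 + (0 : F) • e i2 + (1 : F) • e i3)
        = (0 : F) • e i0 + (0 : F) • e i1 + c • e i2 + (0 : F) • e i3 := by
      rw [hT _ _ _ _ _ _ _ _ _ 1 (by ring)]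
      apply vcongr
      · ring
      · ring
      · ring
      · linear_combination h2
    have n2 : act (T hF _ hu2) ((0 : F) • e i0 + (0 : F) • e i1 + c • e i2 + (0 : F) • e i3)
        = (0 : F) • e i0 + (0 : F) • e i1 + (0 : F) • e i2 + ω • e i3 := by
      rw [hT _ _ _ _ _ _ _ _ _ 1 (by linear_combination -hc3)]
      apply vcongr
      · ring
      · ring
      · linear_combination c * h2
      · ring
    have n3 : act (T hF _ hu3) ((0 : F) • e i0 + (0 : F) • e i1 + (0 : F) • e i2 + ω • e i3)
        = (ω * a) • e i0 + (ω * b) • e i1 + (ω ^ 2 * c) • e i2 + (0 : F) • e i3 := by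
      rw [hT _ _ _ _ _ _ _ _ _ ω (by ring)]
      apply vcongr
      · ring
      · ring
      · ring
      · linear_combination ω * h2
    have n4 : act (T hF _ hu4)
        ((ω * a) • e i0 + (ω * b) • e i1 + (ω ^ 2 * c) • e i2 + (0 : F) • e i3)
        = (0 : F) • e i0 + (0 : F) • e i1 + (0 : F) • e i2 + (1 : F) • e i3 := by
      rw [hT _ _ _ _ _ _ _ _ _ ω (by
        linear_combination -ω * ha3 - ω * hb3 - ω ^ 4 * hc3 - ω * hω3 - ω * h2)]
      apply vcongr
      · linear_combination ω * a * h2
      · linear_combination ω * b * h2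
      · linear_combination ω ^ 2 * c * h2
      · linear_combination hω3
    refine ⟨T hF _ hu4 * T hF _ hu3 * T hF _ hu2 * T hF _ hu1,
      mul_mem (mul_mem (mul_mem (T_mem hF _ _) (T_mem hF _ _)) (T_mem hF _ _)) (T_mem hF _ _),
      fun i hi => ?_, i0, by simp [i0], ?_⟩
    · rw [act_mul, hg i hi, act_mul, act_mul, act_mul]
      by_cases hi3 : i = i3
      · rw [← he3] at n1 n4
        rw [hi3, n1, n2, n3, n4]
      · have c0 : i0 ≠ i := by rintro rfl; simp [i0] at hi
        have c1 : i1 ≠ i := by rintro rfl; simp [i1] at hi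
        have c2 : i2 ≠ i := by rintro rfl; simp [i2] at hi
        have c3 : i3 ≠ i := Ne.symm hi3
        have hz : ∀ a b c d : F,
            hermForm n F 2 (e i) (a • e i0 + b • e i1 + c • e i2 + d • e i3) = 0 := by
          intro a b c d
          simp only [herm_add_right hF, herm_smul_right, herm_e_right hF, e_ne c0, e_ne c1,
            e_ne c2, e_ne c3, mul_zero, add_zero]
        rw [act_T_of_perp hF _ hu1 _ (hz _ _ _ _), act_T_of_perp hF _ hu2 _ (hz _ _ _ _),
          act_T_of_perp hF _ hu3 _ (hz _ _ _ _), act_T_of_perp hF _ hu4 _ (hz _ _ _ _)]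
    · show act _ (e i2) i0 = 0
      rw [act_mul, ← hv, act_mul, act_mul, act_mul, m1, m2, m3, m4]
      simp [e_ne h02]

/-- An element fixing all basis vectors except possibly the first is trivial. -/
theorem eq_one_of_fixes_one (hn : 1 ≤ n) (g : SU n F 2) (hg : Fixes 1 g) : g = 1 := by
  classical
  let i0 : Fin n := ⟨0, by omega⟩
  set v := act g (e i0) with hv
  have hvi : ∀ i : Fin n, i ≠ i0 → v i = 0 := by
    intro i hi
    have hi1 : 1 ≤ i.val := by
      rcases Nat.eq_zero_or_pos i.val with h | h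
      · exact absurd (Fin.ext h) hi
      · exact h
    rw [← herm_e_right hF v i, ← hg i hi1, hv, herm_act, herm_e_right hF, e_ne hi]
  have hmat : ((g : Matrix.SpecialLinearGroup (Fin n) F) : Matrix (Fin n) (Fin n) F)
      = Matrix.diagonal (fun i => if i = i0 then v i0 else 1) := by
    ext i j
    have h1 : ((g : Matrix.SpecialLinearGroup (Fin n) F) : Matrix (Fin n) (Fin n) F) i j
        = act g (e j) i := by
      rw [act_def, e_def, Matrix.mulVec_single_one]; rfl
    rw [h1, Matrix.diagonal_apply]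
    by_cases hj : j = i0
    · rw [hj, ← hv]
      by_cases hi : i = i0
      · rw [if_pos hi, if_pos hi, hi]
      · rw [hvi i hi, if_neg hi]
    · have hj1 : 1 ≤ j.val := by
        rcases Nat.eq_zero_or_pos j.val with h | h
        · exact absurd (Fin.ext h) hj
        · exact h
      rw [hg j hj1]
      by_cases hi : i = j
      · subst hi
        rw [e_self, if_pos rfl, if_neg hj]
      · rw [e_ne hi, if_neg hi]
  have hdet : v i0 = 1 := by
    have := (g : Matrix.SpecialLinearGroup (Fin n) F).det_coe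
    rw [hmat, Matrix.det_diagonal, Finset.prod_ite_eq'] at this
    simpa using this
  apply ext_act
  intro x
  rw [act_def, hmat, hdet, act_one]
  simp

/-- Generation. -/
theorem R_eq_top (hn : 4 ≤ n) : R (n := n) hF = ⊤ := by
  rw [eq_top_iff]
  intro g _
  obtain ⟨r1, hr1, hf1⟩ := reduce_three hF (by omega) g
  obtain ⟨r2, hr2, hf2, j, hj, hj0⟩ := reduce_three' hF hn (r1 * g) hf1
  obtain ⟨r3, hr3, hf3⟩ := step hF ⟨2, by omega⟩ (r2 * (r1 * g)) hf2 (e j)
    (by rw [herm_e_right hF, e_self])
    (fun i hi => e_ne (by rintro rfl; simp only at hi; omega)) (by rw [herm_e_right hF, hj0])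
  set g' := r3 * (r2 * (r1 * g)) with hg'
  suffices H : ∃ r ∈ R (n := n) hF, Fixes 1 (r * g') by
    obtain ⟨r, hr, hf⟩ := H
    have h1 := eq_one_of_fixes_one hF (by omega) _ hf
    have h2 : r * g' ∈ R (n := n) hF := by rw [h1]; exact one_mem _
    rw [Subgroup.mul_mem_cancel_left _ hr, hg', Subgroup.mul_mem_cancel_left _ hr3,
      Subgroup.mul_mem_cancel_left _ hr2, Subgroup.mul_mem_cancel_left _ hr1] at h2
    exact h2
  have hf3' : Fixes 2 g' := hf3
  let i0 : Fin n := ⟨0, by omega⟩
  let i1 : Fin n := ⟨1, by omega⟩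
  have h01 : i0 ≠ i1 := by simp [i0, i1]
  set v := act g' (e i1) with hv
  have hvv : hermForm n F 2 v v = 1 := by rw [hv, herm_act, herm_e_right hF, e_self]
  have hvi : ∀ i : Fin n, 2 ≤ i.val → v i = 0 := by
    intro i hi
    rw [← herm_e_right hF v i, ← hf3' i hi, hv, herm_act, herm_e_right hF, e_ne]
    rintro rfl
    simp [i1] at hi
  have hsum : v i0 ^ 3 + v i1 ^ 3 = 1 := by
    rw [herm_self_eq hF, Finset.sum_eq_add i0 i1 h01] at hvv
    · exact hvv
    · intro i _ hi
      rw [hvi i, zero_pow three_ne_zero]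
      have c0 : i.val ≠ 0 := fun h => hi.1 (Fin.ext h)
      have c1 : i.val ≠ 1 := fun h => hi.2 (Fin.ext h)
      omega
    · intro h; exact absurd (Finset.mem_univ _) h
    · intro h; exact absurd (Finset.mem_univ _) h
  by_cases hv0 : v i0 = 0
  · obtain ⟨r, hr, hf⟩ := step hF i1 g' hf3' (e i0) (by rw [herm_e_right hF, e_self])
      (fun i hi => e_ne (by rintro rfl; simp [i0, i1] at hi)) (by rw [herm_e_right hF, ← hv, hv0])
    exact ⟨r, hr, hf⟩
  · have hv1 : v i1 = 0 := by
      rw [pow_three hF hv0] at hsum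
      have : v i1 ^ 3 = 0 := by linear_combination hsum
      exact pow_eq_zero_iff three_ne_zero |>.1 this
    obtain ⟨r, hr, h1, h2⟩ := swap hF v (e i1) hvv (by rw [herm_e_right hF, e_self])
      (by rw [herm_e_right hF, hv1])
    refine ⟨r, hr, fun i hi => ?_⟩
    rw [act_mul]
    rcases hi.eq_or_lt with h | h
    · have : i = i1 := Fin.ext h.symm
      rw [this, ← hv, h1]
    · rw [hf3' i h, h2]
      · rw [herm_e_left hF, hvi i h, zero_pow two_ne_zero]
      · rw [herm_e_right hF, e_ne]
        rintro rfl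
        simp [i1] at h

/-- Two nonzero isotropic vectors are conjugate up to a scalar. -/
theorem exists_map (u v : Fin n → F) (hu0 : u ≠ 0) (hv0 : v ≠ 0) (hu : hermForm n F 2 u u = 0)
    (hv : hermForm n F 2 v v = 0) :
    ∃ (g : SU n F 2) (c : F), c ≠ 0 ∧ act g u = c • v := by
  have key : ∀ u v : Fin n → F, hermForm n F 2 u u = 0 → hermForm n F 2 v v = 0 →
      hermForm n F 2 u v ≠ 0 → ∃ (g : SU n F 2) (c : F), c ≠ 0 ∧ act g u = c • v := by
    intro u v hu hv huv
    set s := hermForm n F 2 u v with hs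
    have hs3 := pow_three hF huv
    have h2 := two_eq_zero hF
    have e1 : hermForm n F 2 u (s • v) = 1 := by
      rw [herm_smul_right, ← hs]; linear_combination hs3
    have e2 : hermForm n F 2 (s • v) u = 1 := by
      rw [herm_swap hF u, e1, one_pow]
    have h0 : hermForm n F 2 (u + s • v) (u + s • v) = 0 := by
      rw [herm_add_left, herm_add_right hF, herm_add_right hF, hu, e1, e2, herm_smul_left,
        herm_smul_right, hv]
      linear_combination h2
    refine ⟨T hF _ h0, s, huv, ?_⟩
    rw [act_T, herm_add_right hF, hu, e1, zero_add, one_smul, ← add_assoc, vadd_self hF, zero_add]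
  by_cases huv : hermForm n F 2 u v = 0
  · obtain ⟨w0, hw1, hw2⟩ : ∃ w0, hermForm n F 2 u w0 ≠ 0 ∧ hermForm n F 2 v w0 ≠ 0 := by
      obtain ⟨a, ha⟩ := exists_herm_ne_zero hF hu0
      obtain ⟨b, hb⟩ := exists_herm_ne_zero hF hv0
      by_cases h1 : hermForm n F 2 v a = 0
      · by_cases h2 : hermForm n F 2 u b = 0
        · exact ⟨a + b, by rwa [herm_add_right hF, h2, add_zero],
            by rwa [herm_add_right hF, h1, zero_add]⟩
        · exact ⟨b, h2, hb⟩
      · exact ⟨a, ha, h1⟩
    obtain ⟨x, hx⟩ := exists_trace_eq hF (c := hermForm n F 2 w0 w0) (herm_self_pow hF w0)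
    set s := hermForm n F 2 u w0 with hs
    set l := x * s⁻¹ with hl
    have hls : l * s = x := by rw [hl, mul_assoc, inv_mul_cancel₀ hw1, mul_one]
    have hvu := herm_eq_zero_swap hF huv
    have hw0 : hermForm n F 2 (w0 + l • u) (w0 + l • u) = 0 := by
      rw [herm_add_left, herm_add_right hF, herm_add_right hF, herm_smul_left, herm_smul_right,
        herm_smul_left, herm_smul_right, hu, herm_swap hF u w0, ← hs, mul_zero, mul_zero, add_zero,
        hls]
      have e3 : l ^ 2 * s ^ 2 = x ^ 2 := by rw [← hls]; ring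
      rw [e3, ← hx]
      linear_combination (x + x ^ 2) * two_eq_zero hF
    obtain ⟨g1, c1, hc1, h1⟩ := key u (w0 + l • u) hu hw0 (by
      rw [herm_add_right hF, herm_smul_right, hu, mul_zero, add_zero]; exact hw1)
    obtain ⟨g2, c2, hc2, h2⟩ := key (w0 + l • u) v hw0 hv (by
      intro h
      have h' := herm_eq_zero_swap hF h
      rw [herm_add_right hF, herm_smul_right, hvu, mul_zero, add_zero] at h'
      exact hw2 h')
    exact ⟨g2 * g1, c1 * c2, mul_ne_zero hc1 hc2, by rw [act_mul, h1, act_smul, h2, smul_smul]⟩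
  · exact key u v hu hv huv

/-- The elements with `g - 1` of rank one are the transvections. -/
theorem rank_one_iff (g : SU n F 2) :
    (((g : Matrix.SpecialLinearGroup (Fin n) F) : Matrix (Fin n) (Fin n) F) - 1).rank = 1 ↔
      ∃ (v : Fin n → F) (hv : hermForm n F 2 v v = 0), v ≠ 0 ∧ g = T hF v hv := by
  constructor
  · intro h
    obtain ⟨a, b, ha, hb, hab⟩ :=
      Cfsg.Agent.ClassicalGeometry.RankOne.exists_vecMulVec_of_rank_eq_one _ h
    have hmat : ((g : Matrix.SpecialLinearGroup (Fin n) F) : Matrix (Fin n) (Fin n) F)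
        = 1 + Matrix.vecMulVec a b := by rw [← hab]; abel
    have hact : ∀ x, act g x = x + (b ⬝ᵥ x) • a := by
      intro x
      rw [act_def, hmat, Matrix.add_mulVec, Matrix.one_mulVec, Matrix.vecMulVec_mulVec]
      simp [op_smul_eq_smul]
    have hba : b ⬝ᵥ a = 0 := by
      have := (g : Matrix.SpecialLinearGroup (Fin n) F).det_coe
      rw [hmat, Matrix.vecMulVec_eq Unit, Matrix.det_one_add_replicateCol_mul_replicateRow] at this
      linear_combination this
    obtain ⟨x0, hx0⟩ : ∃ x, b ⬝ᵥ x = 1 := by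
      obtain ⟨i, hi⟩ := Function.ne_iff.1 hb
      refine ⟨Pi.single i (b i)⁻¹, ?_⟩
      rw [dotProduct_single]
      exact mul_inv_cancel₀ hi
    have hform : ∀ x y, (b ⬝ᵥ x) * hermForm n F 2 a y + (b ⬝ᵥ y) ^ 2 * hermForm n F 2 x a
        + (b ⬝ᵥ x) * (b ⬝ᵥ y) ^ 2 * hermForm n F 2 a a = 0 := by
      intro x y
      have := herm_act g x y
      rw [hact, hact, herm_add_left, herm_add_right hF, herm_add_right hF, herm_smul_left,
        herm_smul_right, herm_smul_left, herm_smul_right] at this
      linear_combination this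
    have hy0 : ∀ y, b ⬝ᵥ y = 0 → hermForm n F 2 y a = 0 := by
      intro y hy
      apply herm_eq_zero_swap hF
      have := hform x0 y
      rw [hx0, hy] at this
      linear_combination this
    have haa : hermForm n F 2 a a = 0 := hy0 a hba
    set s := hermForm n F 2 x0 a with hs
    have hs1 : s ^ 2 = s := by
      have := hform x0 x0
      rw [hx0, haa, herm_swap hF x0 a, ← hs] at this
      linear_combination this - s * two_eq_zero hF
    have hxa : ∀ x, hermForm n F 2 x a = (b ⬝ᵥ x) * s := by
      intro x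
      have h1 := hy0 (x - (b ⬝ᵥ x) • x0) (by
        rw [dotProduct_sub, dotProduct_smul, hx0, smul_eq_mul, mul_one, sub_self])
      rw [herm_sub_left, herm_smul_left, ← hs] at h1
      linear_combination h1
    have hs2 : s = 1 := by
      rcases zero_or_one_of_fixed hF hs1 with h0 | h0
      · exfalso
        apply ha
        apply herm_nondeg hF
        intro v
        apply herm_eq_zero_swap hF
        rw [hxa, h0, mul_zero]
      · exact h0
    refine ⟨a, haa, ha, ext_act fun x => ?_⟩
    rw [hact, act_T, hxa, hs2, mul_one]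
  · rintro ⟨v, hv, hv0, rfl⟩
    have hmat : ((T hF v hv : Matrix.SpecialLinearGroup (Fin n) F) : Matrix (Fin n) (Fin n) F) - 1
        = Matrix.vecMulVec v (fun j => v j ^ 2) := by
      rw [T, coe_utv]
      show (1 + (1 : F) • Matrix.vecMulVec v (fun j => v j ^ 2)) - 1 = _
      rw [one_smul]; abel
    rw [hmat]
    apply le_antisymm (Matrix.rank_vecMulVec_le _ _)
    rw [Nat.one_le_iff_ne_zero]
    intro h0
    apply hv0
    rw [Matrix.rank, Submodule.finrank_eq_zero] at h0
    apply herm_nondeg hF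
    intro x
    have h3 : Matrix.vecMulVec v (fun j => v j ^ 2) *ᵥ x = 0 := by
      have : Matrix.vecMulVec v (fun j => v j ^ 2) *ᵥ x ∈
          LinearMap.range (Matrix.vecMulVec v (fun j => v j ^ 2)).mulVecLin := ⟨x, rfl⟩
      rw [h0] at this
      simpa using this
    rw [Matrix.vecMulVec_mulVec, op_smul_eq_smul] at h3
    rcases smul_eq_zero.1 h3 with h4 | h4
    · apply herm_eq_zero_swap hF
      rw [← h4]
      exact Finset.sum_congr rfl fun i _ => mul_comm _ _
    · exact absurd h4 hv0

/-- **Main result.** -/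
theorem isThreeTranspositionClass (hn : 4 ≤ n) :
    Cfsg.IsThreeTranspositionClass {g : ↥(Cfsg.SU n F 2) |
      (((g : Matrix.SpecialLinearGroup (Fin n) F) : Matrix (Fin n) (Fin n) F) - 1).rank = 1} := by
  have hset : {g : ↥(Cfsg.SU n F 2) |
      (((g : Matrix.SpecialLinearGroup (Fin n) F) : Matrix (Fin n) (Fin n) F) - 1).rank = 1}
      = {g | ∃ (v : Fin n → F) (hv : hermForm n F 2 v v = 0), v ≠ 0 ∧ g = T hF v hv} := by
    ext g
    exact rank_one_iff hF g
  rw [hset]
  have hne1 : ∀ (v : Fin n → F) (hv : hermForm n F 2 v v = 0), v ≠ 0 → T hF v hv ≠ 1 := by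
    intro v hv hv0 h
    obtain ⟨y, hy⟩ := exists_herm_ne_zero hF hv0
    have h1 := act_T hF v hv y
    rw [h, act_one] at h1
    have h2 : hermForm n F 2 y v • v = 0 := by simpa using h1
    rcases smul_eq_zero.1 h2 with h3 | h3
    · exact hy (herm_eq_zero_swap hF h3)
    · exact hv0 h3
  have hinv : ∀ (v : Fin n → F) (hv : hermForm n F 2 v v = 0), (T hF v hv)⁻¹ = T hF v hv :=
    fun v hv => inv_eq_of_mul_eq_one_left (T_mul_self hF v hv)
  refine ⟨⟨?_, ?_⟩, ?_, R_eq_top hF hn⟩
  · rintro d ⟨v, hv, hv0, rfl⟩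
    rw [orderOf_eq_prime_iff, pow_two]
    exact ⟨T_mul_self hF v hv, hne1 v hv hv0⟩
  · rintro d ⟨v, hv, hv0, rfl⟩ f ⟨w, hw, hw0, rfl⟩
    by_cases h : hermForm n F 2 v w = 0
    · left
      have h' := herm_eq_zero_swap hF h
      have hc : T hF v hv * T hF w hw = T hF w hw * T hF v hv := by
        apply ext_act
        intro x
        rw [act_mul, act_mul, act_T, act_T, act_T, act_T, herm_add_left, herm_add_left,
          herm_smul_left, herm_smul_left, h, h', mul_zero, mul_zero, add_zero, add_zero,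
          add_right_comm]
      rw [pow_two, mul_assoc, ← mul_assoc (T hF w hw), ← hc, mul_assoc, T_mul_self, mul_one,
        T_mul_self]
    · right
      set s := hermForm n F 2 v w with hs
      have hs3 := pow_three hF h
      have hwv : hermForm n F 2 w v = s ^ 2 := herm_swap hF v w
      -- the two conjugates coincide
      have c1 : act (T hF v hv) w = w + s ^ 2 • v := by rw [act_T, hwv]
      have c2 : act (T hF w hw) v = s • (w + s ^ 2 • v) := by
        rw [act_T, ← hs, smul_add, smul_smul]
        have : s * s ^ 2 = 1 := by linear_combination hs3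
        rw [this, one_smul, add_comm]
      have z1 : hermForm n F 2 (act (T hF v hv) w) (act (T hF v hv) w) = 0 := by
        rw [herm_act, hw]
      have z2 : hermForm n F 2 (act (T hF w hw) v) (act (T hF w hw) v) = 0 := by
        rw [herm_act, hv]
      have k1 := conj_T hF (T hF v hv) w hw z1
      have k2 := conj_T hF (T hF w hw) v hv z2
      have k3 : T hF (act (T hF w hw) v) z2 = T hF (act (T hF v hv) w) z1 := by
        have z3 : hermForm n F 2 (s • act (T hF v hv) w) (s • act (T hF v hv) w) = 0 := by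
          rw [herm_smul_left, herm_smul_right, z1, mul_zero, mul_zero]
        rw [← T_smul hF s h _ z1 z3]
        congr 1
        rw [c2, c1]
      rw [hinv] at k1 k2
      have k4 : (T hF v hv * T hF w hw) ^ 3 =
          (T hF v hv * T hF w hw * T hF v hv) * (T hF w hw * T hF v hv * T hF w hw) := by
        rw [pow_succ, pow_two]; group
      rw [k4, k1, k2, k3, T_mul_self]
  · obtain ⟨u, hu, hu0⟩ : ∃ u : Fin n → F, hermForm n F 2 u u = 0 ∧ u ≠ 0 := by
      let i0 : Fin n := ⟨0, by omega⟩
      let i1 : Fin n := ⟨1, by omega⟩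
      have h01 : i0 ≠ i1 := by simp [i0, i1]
      refine ⟨e i0 + e i1, ?_, ?_⟩
      · rw [herm_add_left, herm_add_right hF, herm_add_right hF]
        simp only [herm_e_right hF, e_self, e_ne h01, e_ne h01.symm]
        linear_combination two_eq_zero hF
      · intro h
        have := congrFun h i0
        rw [Pi.add_apply, e_self, e_ne h01, add_zero] at this
        exact one_ne_zero this
    refine ⟨T hF u hu, ⟨u, hu, hu0, rfl⟩, ?_⟩
    ext g
    show _ ↔ IsConj _ _
    rw [isConj_iff]
    constructor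
    · rintro ⟨v, hv, hv0, rfl⟩
      obtain ⟨g, c, hc, hg⟩ := exists_map hF u v hu0 hv0 hu hv
      have z1 : hermForm n F 2 (act g u) (act g u) = 0 := by rw [herm_act, hu]
      have z2 : hermForm n F 2 (c • v) (c • v) = 0 := by rw [← hg]; exact z1
      refine ⟨g, ?_⟩
      rw [conj_T hF g u hu z1, ← T_smul hF c hc v hv z2]
      congr 1
    · rintro ⟨c, rfl⟩
      have z1 : hermForm n F 2 (act c u) (act c u) = 0 := by rw [herm_act, hu]
      refine ⟨act c u, z1, ?_, conj_T hF c u hu z1⟩
      intro h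
      apply hu0
      apply act_injective c
      rw [h, act_zero]

end Transvections

end Cfsg.Agent.SporadicStructure.UnitTwo
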