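import Cfsg.Prelude.Def_Classical
import Cfsg.Agent.LieClassical.SUBasic
set_option linter.all false

/-!
General tool: to identify a group `G` with `Cfsg.PSU n K q` it is enough that suitable elements of both groups induce
the same permutations of a finite set, provided that these permutations generate a group of order at least
`Nat.card G` and at least `Nat.card (PSU n K q)`.
-/

set_option autoImplicit false
open Cfsg

namespace Cfsg.Agent.SporadicStructure.PsuMatch

open Matrix

/-! ### Abstract matching -/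

/-- If `L ≤ G × Perm X` is (the graph of) a partial homomorphism from `G`, every element of `H ≤ Perm X` is related to
some element of `G`, and `|G| ≤ |H|`, then `G ≃* H`. -/
theorem iso_of_rel {G X : Type*} [Group G] [Finite G] [Finite X]
    (L : Subgroup (G × Equiv.Perm X)) (hinj : ∀ σ : Equiv.Perm X, ((1 : G), σ) ∈ L → σ = 1)
    (H : Subgroup (Equiv.Perm X)) (hH : ∀ σ ∈ H, ∃ g : G, (g, σ) ∈ L)
    (hcard : Nat.card G ≤ Nat.card H) : Nonempty (G ≃* H) := by
  classical
  let L' : Subgroup (G × Equiv.Perm X) := L ⊓ H.comap (MonoidHom.snd G (Equiv.Perm X))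
  let f : L' →* G := (MonoidHom.fst G (Equiv.Perm X)).comp L'.subtype
  let p : L' →* H :=
    ((MonoidHom.snd G (Equiv.Perm X)).comp L'.subtype).codRestrict H (fun x => x.2.2)
  have hf : Function.Injective f := by
    intro x y hxy
    have hxy' : (x : G × Equiv.Perm X).1 = (y : G × Equiv.Perm X).1 := hxy
    have h1 : (x : G × Equiv.Perm X)⁻¹ * (y : G × Equiv.Perm X) ∈ L :=
      L.mul_mem (L.inv_mem x.2.1) y.2.1
    have h2 : (x : G × Equiv.Perm X)⁻¹ * (y : G × Equiv.Perm X)
        = ((1 : G), (x : G × Equiv.Perm X).2⁻¹ * (y : G × Equiv.Perm X).2) := by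
      apply Prod.ext
      · change (x : G × Equiv.Perm X).1⁻¹ * (y : G × Equiv.Perm X).1 = 1
        rw [hxy']; simp
      · rfl
    rw [h2] at h1
    have h3 := hinj _ h1
    apply Subtype.ext
    apply Prod.ext
    · exact hxy'
    · exact (inv_mul_eq_one.1 h3)
  have hp : Function.Surjective p := by
    rintro ⟨σ, hσ⟩
    obtain ⟨g, hg⟩ := hH σ hσ
    exact ⟨⟨(g, σ), hg, hσ⟩, rfl⟩
  have : Finite L' := Finite.of_injective f hf
  have c1 : Nat.card L' ≤ Nat.card G := Nat.card_le_card_of_injective f hf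
  have c2 : Nat.card H ≤ Nat.card L' := Nat.card_le_card_of_surjective p hp
  have hfb : Function.Bijective f :=
    (Nat.bijective_iff_injective_and_card f).2 ⟨hf, by omega⟩
  have hpb : Function.Bijective p :=
    (Nat.bijective_iff_surjective_and_card p).2 ⟨hp, by omega⟩
  exact ⟨(MulEquiv.ofBijective f hfb).symm.trans (MulEquiv.ofBijective p hpb)⟩

/-- The relation "`g` moves the family `P` by the permutation `σ`", as a subgroup. -/
def actRel {G V X : Type*} [Group G] [MulAction G V] (P : X → V) : Subgroup (G × Equiv.Perm X) where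
  carrier := {x | ∀ i, x.1 • P i = P (x.2 i)}
  one_mem' := by intro i; exact one_smul G (P i)
  mul_mem' := by
    intro a b ha hb i
    change (a.1 * b.1) • P i = P (a.2 (b.2 i))
    rw [mul_smul, hb i, ha]
  inv_mem' := by
    intro a ha i
    change a.1⁻¹ • P i = P (a.2.symm i)
    rw [inv_smul_eq_iff, ha, Equiv.apply_symm_apply]

theorem mem_actRel {G V X : Type*} [Group G] [MulAction G V] (P : X → V)
    (x : G × Equiv.Perm X) : x ∈ actRel (G := G) P ↔ ∀ i, x.1 • P i = P (x.2 i) := Iff.rfl

/-- If elements `g s` of `G` induce the permutations `σ s` on an injective family `P` and `G` has at most as many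
elements as the group generated by the `σ s`, then `G` is isomorphic to that group. -/
theorem iso_closure_of_match {G V X ι : Type*} [Group G] [Finite G] [Finite X] [MulAction G V]
    (P : X → V) (hP : Function.Injective P) (g : ι → G) (σ : ι → Equiv.Perm X)
    (h : ∀ s i, g s • P i = P (σ s i))
    (hN : Nat.card G ≤ Nat.card (Subgroup.closure (Set.range σ))) :
    Nonempty (G ≃* Subgroup.closure (Set.range σ)) := by
  refine iso_of_rel (actRel (G := G) P) ?_ _ ?_ hN
  · intro σ hσ
    ext i
    have h1 := hσ i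
    change (1 : G) • P i = P (σ i) at h1
    rw [one_smul] at h1
    have h2 : i = σ i := hP h1
    exact h2.symm
  · intro τ hτ
    have hle : Subgroup.closure (Set.range σ) ≤
        (actRel (G := G) P).map (MonoidHom.snd G (Equiv.Perm X)) := by
      rw [Subgroup.closure_le]
      rintro _ ⟨s, rfl⟩
      exact ⟨(g s, σ s), fun i => h s i, rfl⟩
    obtain ⟨⟨x, τ'⟩, hx, rfl⟩ := hle hτ
    exact ⟨x, hx⟩

/-! ### The projective relation for `SU` -/

/-- The relation "the matrix `M ∈ SU n K q` moves the projective family `P` by the permutation `σ`". -/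
def projRel {K : Type*} [Field K] (n q : ℕ) {X : Type*} (P : X → (Fin n → K)) :
    Subgroup (Cfsg.SU n K q × Equiv.Perm X) where
  carrier := {x | ∀ i, ∃ c : K, c ≠ 0 ∧
    ((x.1 : Matrix.SpecialLinearGroup (Fin n) K) : Matrix (Fin n) (Fin n) K) *ᵥ P i = c • P (x.2 i)}
  one_mem' := by
    intro i
    refine ⟨1, one_ne_zero, ?_⟩
    change ((1 : Matrix (Fin n) (Fin n) K)) *ᵥ P i = (1 : K) • P i
    rw [Matrix.one_mulVec, one_smul]
  mul_mem' := by
    intro a b ha hb i
    obtain ⟨c, hc, h1⟩ := hb i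
    obtain ⟨d, hd, h2⟩ := ha (b.2 i)
    refine ⟨c * d, mul_ne_zero hc hd, ?_⟩
    change (((a.1 : Matrix.SpecialLinearGroup (Fin n) K) : Matrix (Fin n) (Fin n) K) *
      ((b.1 : Matrix.SpecialLinearGroup (Fin n) K) : Matrix (Fin n) (Fin n) K)) *ᵥ P i
        = (c * d) • P (a.2 (b.2 i))
    rw [← Matrix.mulVec_mulVec, h1, Matrix.mulVec_smul, h2, smul_smul]
  inv_mem' := by
    intro a ha i
    obtain ⟨c, hc, h1⟩ := ha (a.2.symm i)
    rw [Equiv.apply_symm_apply] at h1
    refine ⟨c⁻¹, inv_ne_zero hc, ?_⟩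
    change (((a.1⁻¹ : Cfsg.SU n K q) : Matrix.SpecialLinearGroup (Fin n) K) :
      Matrix (Fin n) (Fin n) K) *ᵥ P i = c⁻¹ • P (a.2.symm i)
    have h2 : P i = c⁻¹ • (((a.1 : Matrix.SpecialLinearGroup (Fin n) K) :
        Matrix (Fin n) (Fin n) K) *ᵥ P (a.2.symm i)) := by
      rw [h1, smul_smul, inv_mul_cancel₀ hc, one_smul]
    rw [h2, Matrix.mulVec_smul, Matrix.mulVec_mulVec]
    have h3 : (((a.1⁻¹ : Cfsg.SU n K q) : Matrix.SpecialLinearGroup (Fin n) K) :
        Matrix (Fin n) (Fin n) K) *
        ((a.1 : Matrix.SpecialLinearGroup (Fin n) K) : Matrix (Fin n) (Fin n) K) = 1 := by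
      have h4 : (a.1⁻¹ * a.1 : Cfsg.SU n K q) = 1 := inv_mul_cancel _
      exact congrArg (fun X : Cfsg.SU n K q =>
        ((X : Matrix.SpecialLinearGroup (Fin n) K) : Matrix (Fin n) (Fin n) K)) h4
    rw [h3, Matrix.one_mulVec]

/-- If matrices `M s ∈ SU n K q` induce the permutations `σ s` on a family of pairwise non-proportional vectors and
`PSU n K q` has at most as many elements as the group generated by the `σ s`, then it is isomorphic to that
group. -/
theorem psu_iso_closure_of_match {K X ι : Type*} [Field K] [Fintype K] {n q : ℕ}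
    (hK : Fintype.card K = q ^ 2) (hn : 3 ≤ n) [Finite X]
    (P : X → (Fin n → K)) (hP : ∀ i j (c : K), c ≠ 0 → P i = c • P j → i = j)
    (M : ι → Cfsg.SU n K q) (σ : ι → Equiv.Perm X)
    (h : ∀ s i, ∃ c : K, c ≠ 0 ∧
      ((M s : Matrix.SpecialLinearGroup (Fin n) K) : Matrix (Fin n) (Fin n) K) *ᵥ P i = c • P (σ s i))
    (hN : Nat.card (Cfsg.PSU n K q) ≤ Nat.card (Subgroup.closure (Set.range σ))) :
    Nonempty (Cfsg.PSU n K q ≃* Subgroup.closure (Set.range σ)) := by
  classical
  have : Finite (Cfsg.PSU n K q) := by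
    have : Finite (Matrix.SpecialLinearGroup (Fin n) K) := inferInstance
    infer_instance
  let π : Cfsg.SU n K q × Equiv.Perm X →* Cfsg.PSU n K q × Equiv.Perm X :=
    MonoidHom.prodMap (QuotientGroup.mk' _) (MonoidHom.id _)
  refine iso_of_rel ((projRel n q P).map π) ?_ _ ?_ hN
  · rintro σ ⟨⟨A, τ⟩, hA, hπ⟩
    have h1 : (QuotientGroup.mk' (Subgroup.center (Cfsg.SU n K q))) A = 1 := congrArg Prod.fst hπ
    have h2 : τ = σ := congrArg Prod.snd hπ
    subst h2
    have h3 : A ∈ Subgroup.center (Cfsg.SU n K q) := (QuotientGroup.eq_one_iff A).1 h1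
    obtain ⟨d, hdn, hdq, rfl⟩ := (LieClassical.SUBasic.mem_center_SU_iff hK hn A).1 h3
    have hd0 : d ≠ 0 := by
      rintro rfl
      rw [zero_pow (by omega)] at hdn
      exact zero_ne_one hdn
    ext i
    obtain ⟨c, hc, hci⟩ := hA i
    change Matrix.diagonal (fun _ => d) *ᵥ P i = c • P (τ i) at hci
    have h4 : Matrix.diagonal (fun _ : Fin n => d) *ᵥ P i = d • P i := by
      ext j
      rw [Matrix.mulVec_diagonal]; rfl
    rw [h4] at hci
    have h5 : P (τ i) = (c⁻¹ * d) • P i := by
      rw [mul_smul, hci, smul_smul, inv_mul_cancel₀ hc, one_smul]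
    have h6 := hP _ _ _ (mul_ne_zero (inv_ne_zero hc) hd0) h5
    rw [h6]; rfl
  · intro τ hτ
    have hle : Subgroup.closure (Set.range σ) ≤
        (projRel n q P).map (MonoidHom.snd (Cfsg.SU n K q) (Equiv.Perm X)) := by
      rw [Subgroup.closure_le]
      rintro _ ⟨s, rfl⟩
      exact ⟨(M s, σ s), fun i => h s i, rfl⟩
    obtain ⟨⟨x, τ'⟩, hx, rfl⟩ := hle hτ
    exact ⟨QuotientGroup.mk' _ x, ⟨(x, τ'), hx, rfl⟩⟩

/-- The matching criterion for `PSU n K q`. -/
theorem iso_psu_of_match {G V K X ι : Type*} [Group G] [Finite G] [MulAction G V] [Finite X]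
    [Field K] [Fintype K] {n q : ℕ} (hK : Fintype.card K = q ^ 2) (hn : 3 ≤ n)
    (P : X → V) (hP : Function.Injective P)
    (P' : X → (Fin n → K)) (hP' : ∀ i j (c : K), c ≠ 0 → P' i = c • P' j → i = j)
    (g : ι → G) (M : ι → Cfsg.SU n K q) (σ : ι → Equiv.Perm X)
    (h : ∀ s i, g s • P i = P (σ s i))
    (h' : ∀ s i, ∃ c : K, c ≠ 0 ∧
      ((M s : Matrix.SpecialLinearGroup (Fin n) K) : Matrix (Fin n) (Fin n) K) *ᵥ P' i
        = c • P' (σ s i))
    (hN : Nat.card G ≤ Nat.card (Subgroup.closure (Set.range σ)))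
    (hN' : Nat.card (Cfsg.PSU n K q) ≤ Nat.card (Subgroup.closure (Set.range σ))) :
    Nonempty (G ≃* Cfsg.PSU n K q) := by
  obtain ⟨e⟩ := iso_closure_of_match P hP g σ h hN
  obtain ⟨e'⟩ := psu_iso_closure_of_match hK hn P' hP' M σ h' hN'
  exact ⟨e.trans e'.symm⟩

/-! ### Change of field -/

section congr
variable {F K : Type*} [Field F] [Field K]

/-- The special linear group transported along a field isomorphism. -/
def slCongr (e : F ≃+* K) (n : ℕ) :
    Matrix.SpecialLinearGroup (Fin n) F ≃* Matrix.SpecialLinearGroup (Fin n) K where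
  toFun := Matrix.SpecialLinearGroup.map (e : F →+* K)
  invFun := Matrix.SpecialLinearGroup.map (e.symm : K →+* F)
  left_inv := by
    intro A
    apply Subtype.ext
    ext i j
    simp
  right_inv := by
    intro A
    apply Subtype.ext
    ext i j
    simp
  map_mul' := by intro A B; exact map_mul _ A B

theorem slCongr_apply (e : F ≃+* K) (n : ℕ) (A : Matrix.SpecialLinearGroup (Fin n) F)
    (i j : Fin n) : ((slCongr e n A : Matrix.SpecialLinearGroup (Fin n) K) :
      Matrix (Fin n) (Fin n) K) i j = e ((A : Matrix (Fin n) (Fin n) F) i j) := rfl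

theorem hermForm_congr (e : F ≃+* K) (n q : ℕ) (u v : Fin n → F) :
    Cfsg.hermForm n K q (fun i => e (u i)) (fun i => e (v i)) = e (Cfsg.hermForm n F q u v) := by
  simp [LieClassical.SUBasic.hermForm_apply]

theorem mulVec_congr (e : F ≃+* K) (n : ℕ) (A : Matrix.SpecialLinearGroup (Fin n) F)
    (u : Fin n → F) :
    ((slCongr e n A : Matrix.SpecialLinearGroup (Fin n) K) : Matrix (Fin n) (Fin n) K) *ᵥ
      (fun i => e (u i)) = fun i => e (((A : Matrix (Fin n) (Fin n) F) *ᵥ u) i) := by
  ext i
  simp [Matrix.mulVec, dotProduct, slCongr_apply]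

theorem slCongr_mem (e : F ≃+* K) (n q : ℕ) {A : Matrix.SpecialLinearGroup (Fin n) F}
    (hA : A ∈ Cfsg.SU n F q) : slCongr e n A ∈ Cfsg.SU n K q := by
  rw [LieClassical.SUBasic.mem_SU_iff] at hA ⊢
  intro u v
  have hu : u = fun i => e (e.symm (u i)) := by ext i; simp
  have hv : v = fun i => e (e.symm (v i)) := by ext i; simp
  rw [hu, hv, mulVec_congr, mulVec_congr, hermForm_congr, hermForm_congr, hA]

/-- `SU` transported along a field isomorphism. -/
def suCongr (e : F ≃+* K) (n q : ℕ) : Cfsg.SU n F q ≃* Cfsg.SU n K q where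
  toFun A := ⟨slCongr e n A, slCongr_mem e n q A.2⟩
  invFun A := ⟨slCongr e.symm n A, slCongr_mem e.symm n q A.2⟩
  left_inv := by
    intro A
    apply Subtype.ext
    exact (slCongr e n).symm_apply_apply _
  right_inv := by
    intro A
    apply Subtype.ext
    exact (slCongr e n).apply_symm_apply _
  map_mul' := by
    intro A B
    apply Subtype.ext
    exact map_mul (slCongr e n) _ _

/-- `PSU` transported along a field isomorphism. -/
noncomputable def psuCongr (e : F ≃+* K) (n q : ℕ) : Cfsg.PSU n F q ≃* Cfsg.PSU n K q :=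
  QuotientGroup.congr _ _ (suCongr e n q) (by
    apply le_antisymm
    · exact Subgroup.map_le_iff_le_comap.2 (fun x hx => by
        rw [Subgroup.mem_comap, Subgroup.mem_center_iff]
        intro y
        obtain ⟨z, rfl⟩ := (suCongr e n q).surjective y
        have := Subgroup.mem_center_iff.1 hx z
        simpa using congrArg (suCongr e n q) this)
    · intro y hy
      refine ⟨(suCongr e n q).symm y, ?_, by simp⟩
      rw [SetLike.mem_coe, Subgroup.mem_center_iff] at *
      intro z
      have := hy (suCongr e n q z)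
      simpa using congrArg (suCongr e n q).symm this)

/-- Over any field with as many elements as `K`, `PSU` is isomorphic to the one over `K`. -/
theorem psu_iso_of_card [Fintype F] [Fintype K] (h : Fintype.card F = Fintype.card K)
    (n q : ℕ) : Nonempty (Cfsg.PSU n F q ≃* Cfsg.PSU n K q) :=
  ⟨psuCongr (FiniteField.ringEquivOfCardEq h) n q⟩

end congr

end Cfsg.Agent.SporadicStructure.PsuMatch
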