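import Cfsg.Prelude.Def_Sporadic_a
set_option linter.all false

/-!
Strongly regular graphs with parameters (100, 22, 0, 6) and Steiner systems S(3, 6, 22).

* `exists_steiner_of_srg`: every vertex `x` of an SRG(100,22,0,6) gives a Steiner system
  S(3,6,22) on the neighbours of `x` and an isomorphism of the graph onto the point-block graph
  of that system which sends `x` to the extra vertex `none`.
* `pointBlockGraph_iso_of_setSystemIso`: isomorphic set systems have isomorphic
  point-block graphs, by an isomorphism fixing `none`.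
-/

set_option autoImplicit false

namespace Cfsg.Agent.SporadicStructure.SRGSteiner

open Cfsg Finset

section PBG

variable {α : Type*} {B : Set (Finset α)}

theorem adj_none_inl (a : α) : (pointBlockGraph B).Adj none (some (Sum.inl a)) :=
  ⟨by simp, Or.inl trivial⟩

theorem adj_inl_none (a : α) : (pointBlockGraph B).Adj (some (Sum.inl a)) none :=
  (adj_none_inl a).symm

theorem not_adj_none_inr (b : B) : ¬ (pointBlockGraph B).Adj none (some (Sum.inr b)) := by
  rintro ⟨-, h | h⟩ <;> exact h

theorem not_adj_inr_none (b : B) : ¬ (pointBlockGraph B).Adj (some (Sum.inr b)) none :=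
  fun h => not_adj_none_inr b h.symm

theorem not_adj_inl_inl (a a' : α) :
    ¬ (pointBlockGraph B).Adj (some (Sum.inl a)) (some (Sum.inl a')) := by
  rintro ⟨-, h | h⟩ <;> exact h

theorem adj_inl_inr (a : α) (b : B) :
    (pointBlockGraph B).Adj (some (Sum.inl a)) (some (Sum.inr b)) ↔ a ∈ (b : Finset α) := by
  constructor
  · rintro ⟨-, h | h⟩
    · exact h
    · exact h.elim
  · intro h
    exact ⟨by simp, Or.inl h⟩

theorem adj_inr_inl (a : α) (b : B) :
    (pointBlockGraph B).Adj (some (Sum.inr b)) (some (Sum.inl a)) ↔ a ∈ (b : Finset α) := by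
  rw [SimpleGraph.adj_comm, adj_inl_inr]

theorem adj_inr_inr (b c : B) :
    (pointBlockGraph B).Adj (some (Sum.inr b)) (some (Sum.inr c)) ↔
      b ≠ c ∧ Disjoint (b : Finset α) (c : Finset α) := by
  constructor
  · rintro ⟨hne, h | h⟩
    · exact ⟨fun hbc => hne (by rw [hbc]), h⟩
    · exact ⟨fun hbc => hne (by rw [hbc]), Disjoint.symm h⟩
  · rintro ⟨hne, h⟩
    exact ⟨fun hbc => hne (by simpa using hbc), Or.inl h⟩

/-- A bijection of points together with a compatible bijection of blocks gives an isomorphism of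
point-block graphs. -/
def isoOfEquiv {β : Type*} [DecidableEq β] {B' : Set (Finset β)} (e : α ≃ β) (f : B ≃ B')
    (hf : ∀ b : B, ((f b : B') : Finset β) = (b : Finset α).image e) :
    pointBlockGraph B ≃g pointBlockGraph B' where
  toEquiv := Equiv.optionCongr (Equiv.sumCongr e f)
  map_rel_iff' := by
    have hmem : ∀ (a : α) (b : B), e a ∈ ((f b : B') : Finset β) ↔ a ∈ (b : Finset α) := by
      intro a b
      rw [hf b, Finset.mem_image]
      constructor
      · rintro ⟨a', ha', h⟩
        rwa [← e.injective h]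
      · intro h; exact ⟨a, h, rfl⟩
    have hdisj : ∀ b c : B, Disjoint ((f b : B') : Finset β) ((f c : B') : Finset β) ↔
        Disjoint (b : Finset α) (c : Finset α) := by
      intro b c
      rw [hf b, hf c, Finset.disjoint_image e.injective]
    rintro (_ | a | b) (_ | a' | b')
    · exact iff_of_false (SimpleGraph.irrefl _) (SimpleGraph.irrefl _)
    · exact iff_of_true (adj_none_inl _) (adj_none_inl _)
    · exact iff_of_false (not_adj_none_inr _) (not_adj_none_inr _)
    · exact iff_of_true (adj_inl_none _) (adj_inl_none _)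
    · exact iff_of_false (not_adj_inl_inl _ _) (not_adj_inl_inl _ _)
    · exact (adj_inl_inr _ _).trans ((hmem _ _).trans (adj_inl_inr _ _).symm)
    · exact iff_of_false (not_adj_inr_none _) (not_adj_inr_none _)
    · exact (adj_inr_inl _ _).trans ((hmem _ _).trans (adj_inr_inl _ _).symm)
    · refine (adj_inr_inr _ _).trans (Iff.trans ?_ (adj_inr_inr _ _).symm)
      rw [hdisj, Ne, f.apply_eq_iff_eq]

theorem isoOfEquiv_none {β : Type*} [DecidableEq β] {B' : Set (Finset β)} (e : α ≃ β) (f : B ≃ B')
    (hf : ∀ b : B, ((f b : B') : Finset β) = (b : Finset α).image e) :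
    isoOfEquiv e f hf none = none := rfl

theorem isoOfEquiv_inl {β : Type*} [DecidableEq β] {B' : Set (Finset β)} (e : α ≃ β) (f : B ≃ B')
    (hf : ∀ b : B, ((f b : B') : Finset β) = (b : Finset α).image e) (a : α) :
    isoOfEquiv e f hf (some (Sum.inl a)) = some (Sum.inl (e a)) := rfl

theorem isoOfEquiv_inr {β : Type*} [DecidableEq β] {B' : Set (Finset β)} (e : α ≃ β) (f : B ≃ B')
    (hf : ∀ b : B, ((f b : B') : Finset β) = (b : Finset α).image e) (b : B) :
    isoOfEquiv e f hf (some (Sum.inr b)) = some (Sum.inr (f b)) := rfl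

/-- A point bijection carrying `B` onto `B'` induces a bijection of blocks. -/
theorem exists_blockEquiv {β : Type*} [DecidableEq β] {B' : Set (Finset β)} (e : α ≃ β)
    (h : (fun b : Finset α => b.image e) '' B = B') :
    ∃ f : B ≃ B', ∀ b : B, ((f b : B') : Finset β) = (b : Finset α).image e := by
  have hmem : ∀ b : B, (b : Finset α).image e ∈ B' := by
    intro b; rw [← h]; exact ⟨b, b.2, rfl⟩
  refine ⟨Equiv.ofBijective (fun b => ⟨(b : Finset α).image e, hmem b⟩) ⟨?_, ?_⟩, fun b => rfl⟩
  · intro b c hbc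
    have : (b : Finset α).image e = (c : Finset α).image e := congrArg Subtype.val hbc
    exact Subtype.ext (Finset.image_injective e.injective this)
  · rintro ⟨c, hc⟩
    rw [← h] at hc
    obtain ⟨b, hb, hbc⟩ := hc
    exact ⟨⟨b, hb⟩, Subtype.ext hbc⟩

/-- Isomorphic set systems have isomorphic point-block graphs, by an isomorphism fixing the extra
vertex. -/
theorem pointBlockGraph_iso_of_setSystemIso {β : Type*} [DecidableEq β] {B' : Set (Finset β)}
    (h : Cfsg.SetSystemIso B B') :
    ∃ e : pointBlockGraph B ≃g pointBlockGraph B', e none = none := by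
  obtain ⟨e, he⟩ := h
  obtain ⟨f, hf⟩ := exists_blockEquiv e he
  exact ⟨isoOfEquiv e f hf, isoOfEquiv_none e f hf⟩

end PBG

section SRG

variable {V : Type*} [Fintype V] {Γ : SimpleGraph V} [DecidableRel Γ.Adj]

open Classical in
/-- Adjacent vertices have no common neighbour. -/
theorem no_triangle (h : Γ.IsSRGWith 100 22 0 6) {u v w : V} (huv : Γ.Adj u v)
    (huw : Γ.Adj u w) (hvw : Γ.Adj v w) : False := by
  have h0 := h.of_adj u v huv
  rw [Fintype.card_eq_zero_iff] at h0
  exact h0.elim ⟨w, huw, hvw⟩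

open Classical in
theorem card_nbr (h : Γ.IsSRGWith 100 22 0 6) (u : V) :
    (univ.filter fun z => Γ.Adj u z).card = 22 := by
  have := h.regular.degree_eq u
  rw [← this, ← SimpleGraph.card_neighborFinset_eq_degree]
  congr 1
  ext z
  simp

open Classical in
theorem card_common (h : Γ.IsSRGWith 100 22 0 6) {u v : V} (hne : u ≠ v) (huv : ¬ Γ.Adj u v) :
    (univ.filter fun z => Γ.Adj u z ∧ Γ.Adj v z).card = 6 := by
  have h0 := h.of_not_adj hne huv
  rw [← h0, Fintype.card_subtype]
  congr 1

open Classical in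
/-- Three distinct pairwise non-adjacent vertices have exactly two common neighbours. -/
theorem card_common_three (h : Γ.IsSRGWith 100 22 0 6) {x y z : V} (hxy : x ≠ y) (hxz : x ≠ z)
    (hyz : y ≠ z) (axy : ¬ Γ.Adj x y) (axz : ¬ Γ.Adj x z) (ayz : ¬ Γ.Adj y z) :
    (univ.filter fun p => Γ.Adj x p ∧ Γ.Adj y p ∧ Γ.Adj z p).card = 2 := by
  set P : Finset V := univ.filter fun p => Γ.Adj x p ∧ Γ.Adj y p with hP
  have hPmem : ∀ p, p ∈ P ↔ Γ.Adj x p ∧ Γ.Adj y p := by intro p; simp [hP]
  have hPcard : P.card = 6 := card_common h hxy axy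
  set T : Finset V := univ.filter fun w => w ≠ x ∧ w ≠ y ∧ ¬ Γ.Adj x w ∧ ¬ Γ.Adj y w with hT
  have hTmem : ∀ w, w ∈ T ↔ w ≠ x ∧ w ≠ y ∧ ¬ Γ.Adj x w ∧ ¬ Γ.Adj y w := by
    intro w; simp [hT]
  -- the number of vertices of `T`
  have hTcard : T.card = 60 := by
    set A : Finset V := univ.filter fun w => Γ.Adj x w with hA
    set C : Finset V := univ.filter fun w => Γ.Adj y w with hC
    have hAC : (A ∩ C) = P := by ext p; simp [hA, hC, hP]
    have h1 : (A ∪ C).card + (A ∩ C).card = A.card + C.card := Finset.card_union_add_card_inter A C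
    rw [hAC, hPcard, card_nbr h x, card_nbr h y] at h1
    have h2 : T = univ \ (insert x (insert y (A ∪ C))) := by
      ext w
      simp only [hTmem, mem_sdiff, mem_univ, true_and, mem_insert, mem_union, hA, hC,
        mem_filter]
      tauto
    have hyn : y ∉ A ∪ C := by
      simp [hA, hC, axy]
    have hxn : x ∉ insert y (A ∪ C) := by
      have : ¬ Γ.Adj y x := fun hh => axy hh.symm
      simp [hA, hC, hxy, this]
    rw [h2, Finset.card_sdiff_of_subset (Finset.subset_univ _), Finset.card_univ, h.card,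
      Finset.card_insert_of_notMem hxn, Finset.card_insert_of_notMem hyn]
    omega
  -- indicator function
  let a : V → V → ℤ := fun p w => if Γ.Adj p w then 1 else 0
  let n : V → ℤ := fun w => ∑ p ∈ P, a p w
  have hcount : ∀ (Q : V → Prop) [DecidablePred Q], ∑ w ∈ T, (if Q w then (1 : ℤ) else 0) =
      (T.filter Q).card := by
    intro Q _
    rw [Finset.card_filter]
    push_cast
    rfl
  -- first moment
  have hrow : ∀ p ∈ P, ∑ w ∈ T, a p w = 20 := by
    intro p hp
    obtain ⟨hxp, hyp⟩ := (hPmem p).1 hp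
    have hfil : T.filter (fun w => Γ.Adj p w) =
        ((univ.filter fun w => Γ.Adj p w).erase x).erase y := by
      ext w
      simp only [mem_filter, hTmem, mem_erase, mem_univ, true_and]
      constructor
      · rintro ⟨⟨h1, h2, h3, h4⟩, h5⟩; exact ⟨h2, h1, h5⟩
      · rintro ⟨h2, h1, h5⟩
        exact ⟨⟨h1, h2, fun h3 => no_triangle h hxp h3 h5,
          fun h3 => no_triangle h hyp h3 h5⟩, h5⟩
    show ∑ w ∈ T, (if Γ.Adj p w then (1 : ℤ) else 0) = 20
    rw [hcount, hfil, Finset.card_erase_of_mem, Finset.card_erase_of_mem, card_nbr h p]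
    · norm_num
    · simp [hxp.symm]
    · simp [hyp.symm, hxy.symm]
  -- second moment
  have hrow2 : ∀ p ∈ P, ∀ q ∈ P, p ≠ q → ∑ w ∈ T, a p w * a q w = 4 := by
    intro p hp q hq hpq
    obtain ⟨hxp, hyp⟩ := (hPmem p).1 hp
    obtain ⟨hxq, hyq⟩ := (hPmem q).1 hq
    have hnpq : ¬ Γ.Adj p q := fun hh => no_triangle h hxp hxq hh
    have hfil : T.filter (fun w => Γ.Adj p w ∧ Γ.Adj q w) =
        ((univ.filter fun w => Γ.Adj p w ∧ Γ.Adj q w).erase x).erase y := by
      ext w
      simp only [mem_filter, hTmem, mem_erase, mem_univ, true_and]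
      constructor
      · rintro ⟨⟨h1, h2, h3, h4⟩, h5⟩; exact ⟨h2, h1, h5⟩
      · rintro ⟨h2, h1, h5⟩
        exact ⟨⟨h1, h2, fun h3 => no_triangle h hxp h3 h5.1,
          fun h3 => no_triangle h hyp h3 h5.1⟩, h5⟩
    have hmul : ∀ w, a p w * a q w = if Γ.Adj p w ∧ Γ.Adj q w then (1 : ℤ) else 0 := by
      intro w
      show (if Γ.Adj p w then (1 : ℤ) else 0) * (if Γ.Adj q w then (1 : ℤ) else 0) = _
      by_cases h1 : Γ.Adj p w <;> by_cases h2 : Γ.Adj q w <;> simp [h1, h2]
    rw [Finset.sum_congr rfl fun w _ => hmul w, hcount, hfil, Finset.card_erase_of_mem,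
      Finset.card_erase_of_mem, card_common h hpq hnpq]
    · norm_num
    · simp [hxp.symm, hxq.symm]
    · simp [hyp.symm, hyq.symm, hxy.symm]
  have hsum1 : ∑ w ∈ T, n w = 120 := by
    show ∑ w ∈ T, ∑ p ∈ P, a p w = 120
    rw [Finset.sum_comm, Finset.sum_congr rfl hrow, Finset.sum_const, hPcard]
    norm_num
  have hsq : ∀ p w, a p w * a p w = a p w := by
    intro p w
    show (if Γ.Adj p w then (1 : ℤ) else 0) * (if Γ.Adj p w then (1 : ℤ) else 0) = _
    by_cases h1 : Γ.Adj p w <;> simp [h1, a]
  have hsum2 : ∑ w ∈ T, n w * n w = 240 := by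
    have h1 : ∀ w, n w * n w = ∑ p ∈ P, ∑ q ∈ P, a p w * a q w := by
      intro w
      show (∑ p ∈ P, a p w) * (∑ q ∈ P, a q w) = _
      rw [Finset.sum_mul_sum]
    rw [Finset.sum_congr rfl fun w _ => h1 w, Finset.sum_comm]
    have h2 : ∀ p ∈ P, ∑ w ∈ T, ∑ q ∈ P, a p w * a q w = 40 := by
      intro p hp
      rw [Finset.sum_comm, ← Finset.add_sum_erase P _ hp]
      have h3 : ∑ q ∈ P.erase p, ∑ w ∈ T, a p w * a q w = ∑ q ∈ P.erase p, 4 :=
        Finset.sum_congr rfl fun q hq =>
          hrow2 p hp q (Finset.mem_of_mem_erase hq) (Finset.ne_of_mem_erase hq).symm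
      rw [h3, Finset.sum_const, Finset.card_erase_of_mem hp, hPcard,
        Finset.sum_congr rfl fun w _ => hsq p w, hrow p hp]
      norm_num
    rw [Finset.sum_congr rfl h2, Finset.sum_const, hPcard]
    norm_num
  have hvar : ∑ w ∈ T, (n w - 2) ^ 2 = 0 := by
    have h1 : ∀ w ∈ T, (n w - 2) ^ 2 = n w * n w - 4 * n w + 4 := by intro w _; ring
    rw [Finset.sum_congr rfl h1, Finset.sum_add_distrib, Finset.sum_sub_distrib,
      ← Finset.mul_sum, hsum1, hsum2, Finset.sum_const, hTcard]
    norm_num
  have hz : z ∈ T := (hTmem z).2 ⟨hxz.symm, hyz.symm, axz, ayz⟩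
  have hnz : n z = 2 := by
    have h1 := (Finset.sum_eq_zero_iff_of_nonneg (fun w _ => sq_nonneg (n w - 2))).1 hvar z hz
    have h2 : n z - 2 = 0 := by
      exact pow_eq_zero_iff (two_ne_zero) |>.1 h1
    linarith
  have hfin : ((univ.filter fun p => Γ.Adj x p ∧ Γ.Adj y p ∧ Γ.Adj z p).card : ℤ) = n z := by
    show _ = ∑ p ∈ P, (if Γ.Adj p z then (1 : ℤ) else 0)
    rw [← Finset.sum_filter, Finset.sum_const, nsmul_eq_mul, mul_one]
    congr 2
    ext p
    simp only [mem_filter, hPmem, mem_univ, true_and, SimpleGraph.adj_comm Γ p z]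
    tauto
  have : ((univ.filter fun p => Γ.Adj x p ∧ Γ.Adj y p ∧ Γ.Adj z p).card : ℤ) = 2 := by
    rw [hfin, hnz]
  exact_mod_cast this

open Classical in
/-- The neighbours of `y` among the neighbours of `x`. -/
noncomputable def blk (Γ : SimpleGraph V) [DecidableRel Γ.Adj] (x y : V) :
    Finset (Γ.neighborSet x) :=
  univ.filter fun p => Γ.Adj y (p : V)

theorem mem_blk {x y : V} {p : Γ.neighborSet x} : p ∈ blk Γ x y ↔ Γ.Adj y (p : V) := by
  simp [blk]

/-- The blocks attached to a vertex `x`. -/
def blks (Γ : SimpleGraph V) [DecidableRel Γ.Adj] (x : V) : Set (Finset (Γ.neighborSet x)) :=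
  {b | ∃ y, y ≠ x ∧ ¬ Γ.Adj x y ∧ blk Γ x y = b}

open Classical in
theorem card_blk (h : Γ.IsSRGWith 100 22 0 6) {x y : V} (hne : y ≠ x) (hxy : ¬ Γ.Adj x y) :
    (blk Γ x y).card = 6 := by
  rw [← card_common h hne.symm hxy, ← Finset.card_map (Function.Embedding.subtype _)]
  congr 1
  ext p
  simp only [mem_map, mem_blk, Function.Embedding.subtype_apply, Subtype.exists, mem_filter,
    mem_univ, true_and]
  constructor
  · rintro ⟨q, hq, hyq, rfl⟩; exact ⟨hq, hyq⟩
  · rintro ⟨h1, h2⟩; exact ⟨p, h1, h2, rfl⟩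

open Classical in
/-- Two vertices `y ≠ z` not adjacent to `x` have at most two common neighbours among the
neighbours of `x`. -/
theorem card_blk_inter_le (h : Γ.IsSRGWith 100 22 0 6) {x y z : V} (hy : y ≠ x)
    (hz : z ≠ x) (hyz : y ≠ z) (hxy : ¬ Γ.Adj x y) (hxz : ¬ Γ.Adj x z) :
    (blk Γ x y ∩ blk Γ x z).card ≤ 2 := by
  by_cases hadj : Γ.Adj y z
  · have : blk Γ x y ∩ blk Γ x z = ∅ := by
      ext p
      simp only [mem_inter, mem_blk, notMem_empty, iff_false]
      rintro ⟨h1, h2⟩
      exact no_triangle h hadj h1 h2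
    rw [this]; simp
  · rw [← card_common_three h hy.symm hz.symm hyz hxy hxz hadj,
      ← Finset.card_map (Function.Embedding.subtype _)]
    apply Finset.card_le_card
    intro p
    simp only [mem_map, mem_inter, mem_blk, Function.Embedding.subtype_apply, Subtype.exists,
      mem_filter, mem_univ, true_and]
    rintro ⟨q, hq, ⟨hyq, hzq⟩, rfl⟩
    exact ⟨hq, hyq, hzq⟩

open Classical in
theorem blk_injective (h : Γ.IsSRGWith 100 22 0 6) {x y z : V} (hy : y ≠ x)
    (hz : z ≠ x) (hxy : ¬ Γ.Adj x y) (hxz : ¬ Γ.Adj x z) (he : blk Γ x y = blk Γ x z) :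
    y = z := by
  by_contra hyz
  have h1 := card_blk_inter_le h hy hz hyz hxy hxz
  rw [← he, Finset.inter_self, card_blk h hy hxy] at h1
  omega

open Classical in
theorem isSteinerSystem_blks (h : Γ.IsSRGWith 100 22 0 6) (x : V) :
    Cfsg.IsSteinerSystem 3 6 (blks Γ x) := by
  have hcardN : Fintype.card (Γ.neighborSet x) = 22 := by
    rw [SimpleGraph.card_neighborSet_eq_degree, h.regular.degree_eq x]
  set S : Finset V := univ.filter fun y => y ≠ x ∧ ¬ Γ.Adj x y with hS
  have hSmem : ∀ y, y ∈ S ↔ y ≠ x ∧ ¬ Γ.Adj x y := by intro y; simp [hS]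
  have hScard : S.card = 77 := by
    have h2 : S = univ \ (insert x (univ.filter fun w => Γ.Adj x w)) := by
      ext w
      simp only [hSmem, mem_sdiff, mem_univ, true_and, mem_insert, mem_filter]
      tauto
    rw [h2, Finset.card_sdiff_of_subset (Finset.subset_univ _), Finset.card_univ, h.card,
      Finset.card_insert_of_notMem (by simp), card_nbr h x]
  refine ⟨?_, ?_⟩
  · rintro b ⟨y, hy, hxy, rfl⟩
    exact card_blk h hy hxy
  · -- uniqueness by the intersection bound, existence by counting
    have huniq : ∀ s : Finset (Γ.neighborSet x), s.card = 3 → ∀ y z, y ∈ S → z ∈ S →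
        s ⊆ blk Γ x y → s ⊆ blk Γ x z → y = z := by
      intro s hs y z hy hz hsy hsz
      by_contra hyz
      have h1 := card_blk_inter_le h ((hSmem y).1 hy).1 ((hSmem z).1 hz).1 hyz
        ((hSmem y).1 hy).2 ((hSmem z).1 hz).2
      have h2 := Finset.card_le_card (Finset.subset_inter hsy hsz)
      omega
    have hU : S.biUnion (fun y => (blk Γ x y).powersetCard 3) =
        (univ : Finset (Γ.neighborSet x)).powersetCard 3 := by
      apply Finset.eq_of_subset_of_card_le
      · intro s hs
        rw [mem_biUnion] at hs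
        obtain ⟨y, -, hs⟩ := hs
        exact Finset.powersetCard_mono (Finset.subset_univ _) hs
      · rw [Finset.card_powersetCard, Finset.card_univ, hcardN, Finset.card_biUnion]
        · have h1 : ∀ y ∈ S, ((blk Γ x y).powersetCard 3).card = 20 := by
            intro y hy
            rw [Finset.card_powersetCard, card_blk h ((hSmem y).1 hy).1 ((hSmem y).1 hy).2]
            rfl
          rw [Finset.sum_congr rfl h1, Finset.sum_const, hScard]
          decide
        · intro y hy z hz hyz
          show Disjoint ((blk Γ x y).powersetCard 3) ((blk Γ x z).powersetCard 3)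
          rw [Finset.disjoint_left]
          intro s hsy hsz
          rw [Finset.mem_powersetCard] at hsy hsz
          exact hyz (huniq s hsy.2 y z hy hz hsy.1 hsz.1)
    intro s hs
    have hsU : s ∈ S.biUnion (fun y => (blk Γ x y).powersetCard 3) := by
      rw [hU, Finset.mem_powersetCard]
      exact ⟨Finset.subset_univ _, hs⟩
    rw [mem_biUnion] at hsU
    obtain ⟨y, hy, hsy⟩ := hsU
    rw [Finset.mem_powersetCard] at hsy
    refine ⟨blk Γ x y, ⟨⟨y, ((hSmem y).1 hy).1, ((hSmem y).1 hy).2, rfl⟩, hsy.1⟩, ?_⟩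
    rintro b ⟨⟨z, hz, hxz, rfl⟩, hsz⟩
    rw [huniq s hs y z hy ((hSmem z).2 ⟨hz, hxz⟩) hsy.1 hsz]

open Classical in
/-- The vertex map onto the point-block graph. -/
noncomputable def toPB (Γ : SimpleGraph V) [DecidableRel Γ.Adj] (x v : V) :
    Option (Γ.neighborSet x ⊕ blks Γ x) :=
  if hx : v = x then none
  else if hv : Γ.Adj x v then some (Sum.inl ⟨v, hv⟩)
  else some (Sum.inr ⟨blk Γ x v, ⟨v, hx, hv, rfl⟩⟩)

theorem toPB_self (x : V) : toPB Γ x x = none := by
  simp [toPB]

theorem toPB_nbr {x v : V} (hv : Γ.Adj x v) : toPB Γ x v = some (Sum.inl ⟨v, hv⟩) := by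
  have : v ≠ x := hv.ne'
  simp [toPB, this, hv]

theorem toPB_non {x v : V} (hx : v ≠ x) (hv : ¬ Γ.Adj x v) :
    toPB Γ x v = some (Sum.inr ⟨blk Γ x v, ⟨v, hx, hv, rfl⟩⟩) := by
  simp [toPB, hx, hv]

open Classical in
theorem toPB_bijective (h : Γ.IsSRGWith 100 22 0 6) (x : V) :
    Function.Bijective (toPB Γ x) := by
  constructor
  · intro v w hvw
    by_cases hv : v = x
    · subst hv
      by_cases hw : w = v
      · exact hw.symm
      · by_cases hw' : Γ.Adj v w
        · rw [toPB_self, toPB_nbr hw'] at hvw; simp at hvw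
        · rw [toPB_self, toPB_non hw hw'] at hvw; simp at hvw
    · by_cases hw : w = x
      · subst hw
        by_cases hv' : Γ.Adj w v
        · rw [toPB_self, toPB_nbr hv'] at hvw; simp at hvw
        · rw [toPB_self, toPB_non hv hv'] at hvw; simp at hvw
      · by_cases hv' : Γ.Adj x v <;> by_cases hw' : Γ.Adj x w
        · rw [toPB_nbr hv', toPB_nbr hw'] at hvw
          exact congrArg Subtype.val (Sum.inl_injective (Option.some_injective _ hvw))
        · rw [toPB_nbr hv', toPB_non hw hw'] at hvw
          simp at hvw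
        · rw [toPB_non hv hv', toPB_nbr hw'] at hvw
          simp at hvw
        · rw [toPB_non hv hv', toPB_non hw hw'] at hvw
          have h1 : blk Γ x v = blk Γ x w :=
            congrArg Subtype.val (Sum.inr_injective (Option.some_injective _ hvw))
          exact blk_injective h hv hw hv' hw' h1
  · rintro (_ | p | ⟨b, y, hy, hxy, rfl⟩)
    · exact ⟨x, toPB_self x⟩
    · exact ⟨p, toPB_nbr p.2⟩
    · exact ⟨y, toPB_non hy hxy⟩

open Classical in
theorem toPB_adj (h : Γ.IsSRGWith 100 22 0 6) (x v w : V) :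
    (pointBlockGraph (blks Γ x)).Adj (toPB Γ x v) (toPB Γ x w) ↔ Γ.Adj v w := by
  by_cases hv : v = x
  · subst hv
    rw [toPB_self]
    by_cases hw : w = v
    · subst hw
      rw [toPB_self]
      exact iff_of_false (SimpleGraph.irrefl _) (SimpleGraph.irrefl _)
    · by_cases hw' : Γ.Adj v w
      · rw [toPB_nbr hw']
        exact iff_of_true (adj_none_inl _) hw'
      · rw [toPB_non hw hw']
        exact iff_of_false (not_adj_none_inr _) hw'
  · by_cases hw : w = x
    · subst hw
      rw [toPB_self]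
      by_cases hv' : Γ.Adj w v
      · rw [toPB_nbr hv']
        exact iff_of_true (adj_inl_none _) hv'.symm
      · rw [toPB_non hv hv']
        exact iff_of_false (not_adj_inr_none _) (fun hh => hv' hh.symm)
    · by_cases hv' : Γ.Adj x v <;> by_cases hw' : Γ.Adj x w
      · rw [toPB_nbr hv', toPB_nbr hw']
        exact iff_of_false (not_adj_inl_inl _ _) (fun hh => no_triangle h hv' hw' hh)
      · rw [toPB_nbr hv', toPB_non hw hw', adj_inl_inr]
        exact mem_blk.trans (SimpleGraph.adj_comm Γ _ _)
      · rw [toPB_non hv hv', toPB_nbr hw', adj_inr_inl]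
        exact mem_blk
      · rw [toPB_non hv hv', toPB_non hw hw', adj_inr_inr]
        constructor
        · rintro ⟨hne, hdisj⟩
          have hvw : v ≠ w := by
            rintro rfl; exact hne rfl
          by_contra hadj
          have h2 := card_common_three h (Ne.symm hv) (Ne.symm hw) hvw hv' hw' hadj
          have h3 : (univ.filter fun p => Γ.Adj x p ∧ Γ.Adj v p ∧ Γ.Adj w p).Nonempty := by
            rw [← Finset.card_pos, h2]; norm_num
          obtain ⟨p, hp⟩ := h3
          simp only [mem_filter, mem_univ, true_and] at hp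
          have h4 : (⟨p, hp.1⟩ : Γ.neighborSet x) ∈ blk Γ x v := mem_blk.2 hp.2.1
          have h5 : (⟨p, hp.1⟩ : Γ.neighborSet x) ∈ blk Γ x w := mem_blk.2 hp.2.2
          exact Finset.disjoint_left.1 hdisj h4 h5
        · intro hadj
          refine ⟨?_, ?_⟩
          · intro heq
            have h1 : blk Γ x v = blk Γ x w := congrArg Subtype.val heq
            exact hadj.ne (blk_injective h hv hw hv' hw' h1)
          · show Disjoint (blk Γ x v) (blk Γ x w)
            rw [Finset.disjoint_left]
            intro p hp hp'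
            exact no_triangle h hadj (mem_blk.1 hp) (mem_blk.1 hp')

/-- Every vertex `x` of a strongly regular graph with parameters (100, 22, 0, 6) gives a Steiner
system S(3, 6, 22) on the neighbours of `x` and an isomorphism onto its point-block graph. -/
theorem exists_steiner_of_srg (h : Γ.IsSRGWith 100 22 0 6) (x : V) :
    ∃ B : Set (Finset (Γ.neighborSet x)), Cfsg.IsSteinerSystem 3 6 B ∧
      ∃ e : Γ ≃g Cfsg.pointBlockGraph B, e x = none :=
  ⟨blks Γ x, isSteinerSystem_blks h x,
    { toEquiv := Equiv.ofBijective (toPB Γ x) (toPB_bijective h x)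
      map_rel_iff' := by
        intro v w
        exact toPB_adj h x v w }, toPB_self x⟩

end SRG

end Cfsg.Agent.SporadicStructure.SRGSteiner
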