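import Mathlib
set_option linter.all false

/-!
# Recognition of the symmetric group of degree five from its Coxeter generators
-/

set_option autoImplicit false
set_option maxHeartbeats 400000
set_option maxRecDepth 10000
set_option linter.unusedSimpArgs false

namespace Cfsg.Agent.SporadicStructure.PermFive

open Equiv

variable {G : Type*} [Group G]

/-- Coxeter relations of type `A_4`. -/
structure Cox (x y b a : G) : Prop where
  xx : x * x = 1
  yy : y * y = 1
  bb : b * b = 1
  aa : a * a = 1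
  bx : b * x = x * b
  ax : a * x = x * a
  ay : a * y = y * a
  yxy : y * x * y = x * y * x
  byb : b * y * b = y * b * y
  aba : a * b * a = b * a * b

namespace Cox

variable {x y b a : G} (h : Cox x y b a)

include h

theorem xx' (w : G) : x * (x * w) = w := by rw [← mul_assoc, h.xx, one_mul]
theorem yy' (w : G) : y * (y * w) = w := by rw [← mul_assoc, h.yy, one_mul]
theorem bb' (w : G) : b * (b * w) = w := by rw [← mul_assoc, h.bb, one_mul]
theorem aa' (w : G) : a * (a * w) = w := by rw [← mul_assoc, h.aa, one_mul]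
theorem bx' (w : G) : b * (x * w) = x * (b * w) := by rw [← mul_assoc, h.bx, mul_assoc]
theorem ax' (w : G) : a * (x * w) = x * (a * w) := by rw [← mul_assoc, h.ax, mul_assoc]
theorem ay' (w : G) : a * (y * w) = y * (a * w) := by rw [← mul_assoc, h.ay, mul_assoc]
theorem yxy1 : y * (x * y) = x * (y * x) := by simpa only [mul_assoc] using h.yxy
theorem byb1 : b * (y * b) = y * (b * y) := by simpa only [mul_assoc] using h.byb
theorem aba1 : a * (b * a) = b * (a * b) := by simpa only [mul_assoc] using h.aba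
theorem yxy' (w : G) : y * (x * (y * w)) = x * (y * (x * w)) := by
  have := congrArg (· * w) h.yxy
  simpa only [mul_assoc] using this
theorem byb' (w : G) : b * (y * (b * w)) = y * (b * (y * w)) := by
  have := congrArg (· * w) h.byb
  simpa only [mul_assoc] using this
theorem aba' (w : G) : a * (b * (a * w)) = b * (a * (b * w)) := by
  have := congrArg (· * w) h.aba
  simpa only [mul_assoc] using this
theorem byxb1 : b * (y * (x * b)) = y * (b * (y * x)) := by
  rw [← h.bx, h.byb']
theorem byxb' (w : G) : b * (y * (x * (b * w))) = y * (b * (y * (x * w))) := by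
  rw [← h.bx', h.byb']
theorem abya1 : a * (b * (y * a)) = b * (a * (b * y)) := by
  rw [← h.ay, h.aba']
theorem abya' (w : G) : a * (b * (y * (a * w))) = b * (a * (b * (y * w))) := by
  rw [← h.ay', h.aba']
theorem abyxa1 : a * (b * (y * (x * a))) = b * (a * (b * (y * x))) := by
  rw [← h.ax, ← h.ay', h.aba']
theorem abyxa' (w : G) : a * (b * (y * (x * (a * w)))) = b * (a * (b * (y * (x * w)))) := by
  rw [← h.ax', ← h.ay', h.aba']

end Cox

/-- the ten transpositions -/
def tr (x y b a : G) : Fin 5 → Fin 5 → G :=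
  ![![1, x, x * y * x, x * y * b * y * x, x * y * b * a * b * y * x],
    ![x, 1, y, y * b * y, y * b * a * b * y],
    ![x * y * x, y, 1, b, b * a * b],
    ![x * y * b * y * x, y * b * y, b, 1, a],
    ![x * y * b * a * b * y * x, y * b * a * b * y, b * a * b, a, 1]]

/-- `g` permutes the transpositions as `σ` -/
def Acts (x y b a g : G) (σ : Perm (Fin 5)) : Prop :=
  ∀ i j, i ≠ j → g * tr x y b a i j = tr x y b a (σ i) (σ j) * g

section

variable {x y b a : G}

theorem Acts.mul {g k : G} {σ τ : Perm (Fin 5)} (hg : Acts x y b a g σ) (hk : Acts x y b a k τ) :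
    Acts x y b a (g * k) (σ * τ) := by
  intro i j hij
  rw [mul_assoc, hk i j hij, ← mul_assoc, hg _ _ (fun h1 => hij (τ.injective h1)), mul_assoc]
  rfl

theorem Acts.inv {g : G} {σ : Perm (Fin 5)} (hg : Acts x y b a g σ) : Acts x y b a g⁻¹ σ⁻¹ := by
  intro i j hij
  have h1 := hg (σ⁻¹ i) (σ⁻¹ j) (fun h1 => hij (σ⁻¹.injective h1))
  have e : ∀ k, σ (σ⁻¹ k) = k := fun k => σ.apply_symm_apply k
  rw [e, e] at h1
  rw [eq_mul_inv_iff_mul_eq, mul_assoc, ← h1, inv_mul_cancel_left]

theorem Acts.one : Acts x y b a 1 1 := by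
  intro i j _
  rw [one_mul, mul_one]; rfl

theorem tr_symm (i j : Fin 5) : tr x y b a i j = tr x y b a j i := by
  fin_cases i <;> fin_cases j <;> rfl

variable (h : Cox x y b a)

include h

theorem acts_x : Acts x y b a x (swap 0 1) := by
  intro i j hij
  fin_cases i <;> fin_cases j <;>
    first
    | exact absurd rfl hij
    | (simp only [tr]
       simp [swap_apply_def, mul_assoc, h.xx, h.yy, h.bb, h.aa, h.bx, h.ax, h.ay, h.xx', h.yy', h.bb', h.aa', h.bx',
        h.ax', h.ay', h.yxy1, h.yxy', h.byb1, h.byb', h.aba1, h.aba', h.byxb1, h.byxb', h.abya1, h.abya',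
        h.abyxa1, h.abyxa'])

theorem acts_y : Acts x y b a y (swap 1 2) := by
  intro i j hij
  fin_cases i <;> fin_cases j <;>
    first
    | exact absurd rfl hij
    | (simp only [tr]
       simp [swap_apply_def, mul_assoc, h.xx, h.yy, h.bb, h.aa, h.bx, h.ax, h.ay, h.xx', h.yy', h.bb', h.aa', h.bx',
        h.ax', h.ay', h.yxy1, h.yxy', h.byb1, h.byb', h.aba1, h.aba', h.byxb1, h.byxb', h.abya1, h.abya',
        h.abyxa1, h.abyxa'])

theorem acts_b : Acts x y b a b (swap 2 3) := by
  intro i j hij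
  fin_cases i <;> fin_cases j <;>
    first
    | exact absurd rfl hij
    | (simp only [tr]
       simp [swap_apply_def, mul_assoc, h.xx, h.yy, h.bb, h.aa, h.bx, h.ax, h.ay, h.xx', h.yy', h.bb', h.aa', h.bx',
        h.ax', h.ay', h.yxy1, h.yxy', h.byb1, h.byb', h.aba1, h.aba', h.byxb1, h.byxb', h.abya1, h.abya',
        h.abyxa1, h.abyxa'])

theorem acts_a : Acts x y b a a (swap 3 4) := by
  intro i j hij
  fin_cases i <;> fin_cases j <;>
    first
    | exact absurd rfl hij
    | (simp only [tr]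
       simp [swap_apply_def, mul_assoc, h.xx, h.yy, h.bb, h.aa, h.bx, h.ax, h.ay, h.xx', h.yy', h.bb', h.aa', h.bx',
        h.ax', h.ay', h.yxy1, h.yxy', h.byb1, h.byb', h.aba1, h.aba', h.byxb1, h.byxb', h.abya1, h.abya',
        h.abyxa1, h.abyxa'])

/-- every element of the group acts as a permutation -/
theorem exists_perm (hgen : Subgroup.closure {x, y, b, a} = (⊤ : Subgroup G)) (g : G) :
    ∃ σ, Acts x y b a g σ := by
  have hg : g ∈ Subgroup.closure {x, y, b, a} := by rw [hgen]; trivial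
  induction hg using Subgroup.closure_induction with
  | mem z hz =>
    rcases hz with rfl | rfl | rfl | rfl
    · exact ⟨_, acts_x h⟩
    · exact ⟨_, acts_y h⟩
    · exact ⟨_, acts_b h⟩
    · exact ⟨_, acts_a h⟩
  | one => exact ⟨1, Acts.one⟩
  | mul u v _ _ hu hv =>
    obtain ⟨σ, hσ⟩ := hu
    obtain ⟨τ, hτ⟩ := hv
    exact ⟨_, hσ.mul hτ⟩
  | inv u _ hu =>
    obtain ⟨σ, hσ⟩ := hu
    exact ⟨_, hσ.inv⟩

/-- every permutation is realised -/
theorem exists_elt (σ : Perm (Fin 5)) : ∃ g, Acts x y b a g σ := by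
  have hσ : σ ∈ Submonoid.closure (Set.range fun i : Fin 4 ↦ swap i.castSucc i.succ) := by
    rw [Perm.mclosure_swap_castSucc_succ]; trivial
  induction hσ using Submonoid.closure_induction with
  | mem z hz =>
    obtain ⟨i, rfl⟩ := hz
    fin_cases i
    · exact ⟨_, acts_x h⟩
    · exact ⟨_, acts_y h⟩
    · exact ⟨_, acts_b h⟩
    · exact ⟨_, acts_a h⟩
  | one => exact ⟨1, Acts.one⟩
  | mul u v _ _ hu hv =>
    obtain ⟨σ, hσ⟩ := hu
    obtain ⟨τ, hτ⟩ := hv
    exact ⟨_, hσ.mul hτ⟩

theorem commute_tr {i j k l : Fin 5} (hik : i ≠ k) (hil : i ≠ l) (hjk : j ≠ k) (hjl : j ≠ l)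
    (hij : i ≠ j) (hkl : k ≠ l) : tr x y b a i j * tr x y b a k l = tr x y b a k l * tr x y b a i j := by
  -- move to `(0 1), (3 4)`
  obtain ⟨σ, h0, h1, h3, h4⟩ : ∃ σ : Perm (Fin 5), σ 0 = i ∧ σ 1 = j ∧ σ 3 = k ∧ σ 4 = l := by
    obtain ⟨m, h1, h2, h3, h4⟩ : ∃ m : Fin 5, m ≠ i ∧ m ≠ j ∧ m ≠ k ∧ m ≠ l := by
      clear hik hil hjk hjl hij hkl
      revert i j k l; decide
    have hf : Function.Injective ![i, j, m, k, l] := by
      intro u v huv
      fin_cases u <;> fin_cases v <;> simp_all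
    exact ⟨Equiv.ofBijective _ (Finite.injective_iff_bijective.mp hf), rfl, rfl, rfl, rfl⟩
  obtain ⟨g, hg⟩ := exists_elt h σ
  have e1 := hg 0 1 (by decide)
  have e2 := hg 3 4 (by decide)
  rw [h0, h1] at e1
  rw [h3, h4] at e2
  have hax : a * x = x * a := h.ax
  have e1' : tr x y b a i j = g * x * g⁻¹ := by
    rw [eq_mul_inv_iff_mul_eq, ← e1]; rfl
  have e2' : tr x y b a k l = g * a * g⁻¹ := by
    rw [eq_mul_inv_iff_mul_eq, ← e2]; rfl
  rw [e1', e2']
  calc g * x * g⁻¹ * (g * a * g⁻¹) = g * (x * a) * g⁻¹ := by group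
    _ = g * (a * x) * g⁻¹ := by rw [hax]
    _ = g * a * g⁻¹ * (g * x * g⁻¹) := by group

theorem not_commute_tr (hne : x * y ≠ y * x) {i j k : Fin 5} (hij : i ≠ j) (hjk : j ≠ k) (hik : i ≠ k) :
    tr x y b a i j * tr x y b a j k ≠ tr x y b a j k * tr x y b a i j := by
  obtain ⟨σ, h0, h1, h2⟩ : ∃ σ : Perm (Fin 5), σ 0 = i ∧ σ 1 = j ∧ σ 2 = k := by
    obtain ⟨m, n, h1, h2, h3, h4, h5, h6, h7⟩ : ∃ m n : Fin 5, m ≠ i ∧ m ≠ j ∧ m ≠ k ∧ n ≠ i ∧
        n ≠ j ∧ n ≠ k ∧ m ≠ n := by
      clear hij hik hjk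
      revert i j k; decide
    have hf : Function.Injective ![i, j, k, m, n] := by
      intro u v huv
      fin_cases u <;> fin_cases v <;> simp_all
    exact ⟨Equiv.ofBijective _ (Finite.injective_iff_bijective.mp hf), rfl, rfl, rfl⟩
  obtain ⟨g, hg⟩ := exists_elt h σ
  have e1 := hg 0 1 (by decide)
  have e2 := hg 1 2 (by decide)
  rw [h0, h1] at e1
  rw [h1, h2] at e2
  have e1' : tr x y b a i j = g * x * g⁻¹ := by
    rw [eq_mul_inv_iff_mul_eq, ← e1]; rfl
  have e2' : tr x y b a j k = g * y * g⁻¹ := by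
    rw [eq_mul_inv_iff_mul_eq, ← e2]; rfl
  rw [e1', e2']
  intro hc
  apply hne
  have h3 : g * (x * y) * g⁻¹ = g * (y * x) * g⁻¹ := by
    calc g * (x * y) * g⁻¹ = g * x * g⁻¹ * (g * y * g⁻¹) := by group
      _ = g * y * g⁻¹ * (g * x * g⁻¹) := hc
      _ = g * (y * x) * g⁻¹ := by group
  exact mul_left_cancel (mul_right_cancel h3)

theorem tr_ne (hne : x * y ≠ y * x) {i j k l : Fin 5} (hij : i ≠ j) (hkl : k ≠ l)
    (heq : tr x y b a i j = tr x y b a k l) : (i = k ∧ j = l) ∨ (i = l ∧ j = k) := by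
  by_contra hcon
  obtain ⟨u, v, huv, h1⟩ : ∃ u v : Fin 5, u ≠ v ∧ ((u ≠ k ∧ u ≠ l ∧ v ≠ k ∧ v ≠ l) ∧
      ((u = j ∧ v ≠ i) ∨ (u = i ∧ v ≠ j))) := by
    clear heq hne h
    revert i j k l; decide
  obtain ⟨⟨h1, h2, h3, h4⟩, h5⟩ := h1
  have hc := commute_tr h (i := k) (j := l) (k := u) (l := v) (Ne.symm h1) (Ne.symm h3) (Ne.symm h2)
    (Ne.symm h4) hkl huv
  rw [← heq] at hc
  rcases h5 with ⟨rfl, h5⟩ | ⟨rfl, h5⟩
  · exact not_commute_tr h hne hij huv (Ne.symm h5) hc
  · rw [tr_symm u j] at hc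
    exact not_commute_tr h hne (Ne.symm hij) huv (Ne.symm h5) hc

theorem acts_unique (hne : x * y ≠ y * x) {g : G} {σ τ : Perm (Fin 5)} (h1 : Acts x y b a g σ)
    (h2 : Acts x y b a g τ) : σ = τ := by
  have key : ∀ i j, i ≠ j → (σ i = τ i ∧ σ j = τ j) ∨ (σ i = τ j ∧ σ j = τ i) := by
    intro i j hij
    have h3 := h1 i j hij
    rw [h2 i j hij] at h3
    exact tr_ne h hne (fun h4 => hij (σ.injective h4)) (fun h4 => hij (τ.injective h4))
      (mul_right_cancel h3).symm
  ext1 i
  obtain ⟨j, k, hij, hik, hjk⟩ : ∃ j k : Fin 5, i ≠ j ∧ i ≠ k ∧ j ≠ k := by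
    revert i; decide
  rcases key i j hij with h3 | h3
  · exact h3.1
  · rcases key i k hik with h4 | h4
    · exact h4.1
    · exact absurd (τ.injective (h3.1.symm.trans h4.1)) hjk

/-- Recognition of `S_5`. -/
theorem equiv_perm (hne : x * y ≠ y * x) (hgen : Subgroup.closure {x, y, b, a} = (⊤ : Subgroup G))
    (hZ : Subgroup.center G = ⊥) : Nonempty (G ≃* Perm (Fin 5)) := by
  choose f hf using exists_perm h hgen
  let F : G →* Perm (Fin 5) :=
    { toFun := f
      map_one' := acts_unique h hne (hf 1) Acts.one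
      map_mul' := fun u v => acts_unique h hne (hf (u * v)) ((hf u).mul (hf v)) }
  refine ⟨MulEquiv.ofBijective F ⟨?_, ?_⟩⟩
  · rw [injective_iff_map_eq_one]
    intro g hg
    have h1 : Acts x y b a g 1 := by
      have : f g = 1 := hg
      rw [← this]; exact hf g
    have hc : ∀ i j, i ≠ j → g * tr x y b a i j = tr x y b a i j * g := h1
    have h2 : g ∈ Subgroup.center G := by
      rw [Subgroup.mem_center_iff]
      have hle : Subgroup.closure {x, y, b, a} ≤ Subgroup.centralizer {g} := by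
        rw [Subgroup.closure_le]
        rintro z hz
        rw [SetLike.mem_coe, Subgroup.mem_centralizer_iff]
        rintro w hw
        rw [Set.mem_singleton_iff] at hw
        rw [hw]
        rcases hz with rfl | rfl | rfl | rfl
        · exact hc 0 1 (by decide)
        · exact hc 1 2 (by decide)
        · exact hc 2 3 (by decide)
        · exact hc 3 4 (by decide)
      intro w
      have hw : w ∈ Subgroup.centralizer {g} := hle (by rw [hgen]; trivial)
      exact ((Subgroup.mem_centralizer_iff.mp hw) g rfl).symm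
    rw [hZ, Subgroup.mem_bot] at h2
    exact h2
  · intro σ
    obtain ⟨g, hg⟩ := exists_elt h σ
    exact ⟨g, acts_unique h hne (hf g) hg⟩

end

end Cfsg.Agent.SporadicStructure.PermFive
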