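import Mathlib
import Cfsg.Agent.SporadicStructure.FischerRank3
import Cfsg.Agent.Lib.Cores
import Cfsg.Prelude.Def_CaseTheorems
set_option linter.all false

-- part: SporadicStructure/FSolBase
section
set_option autoImplicit false

/-!
# 3-transposition groups: conjugation calculus, lines, one-or-all (for S1614)
-/

namespace Cfsg.Agent.SporadicStructure.FSolBase

open Cfsg Cfsg.Agent.SporadicStructure.FischerSpace Cfsg.Agent.SporadicStructure.FischerPrimitive
open Cfsg.Agent.SporadicStructure.FischerRank3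

variable {G : Type*} [Group G] {D : Set G}

/-- conjugation -/
def cc (g z : G) : G := g * z * g⁻¹

theorem cc_def (g z : G) : cc g z = g * z * g⁻¹ := rfl

theorem cc_mul (g k z : G) : cc (g * k) z = cc g (cc k z) := by
  simp only [cc_def, mul_inv_rev, mul_assoc]

theorem cc_one (z : G) : cc 1 z = z := by simp [cc_def]

theorem cc_one_right (g : G) : cc g 1 = 1 := by simp [cc_def]

theorem cc_map_mul (g z w : G) : cc g (z * w) = cc g z * cc g w := by
  simp only [cc_def]; group

theorem cc_inv_cc (g z : G) : cc g⁻¹ (cc g z) = z := by simp only [cc_def]; group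

theorem cc_cc_inv (g z : G) : cc g (cc g⁻¹ z) = z := by simp only [cc_def]; group

theorem cc_self (g : G) : cc g g = g := by simp [cc_def]

theorem cc_inj {g z w : G} : cc g z = cc g w ↔ z = w := by
  constructor
  · intro h
    have := congrArg (cc g⁻¹) h
    rwa [cc_inv_cc, cc_inv_cc] at this
  · rintro rfl; rfl

theorem cc_eq_iff {g z : G} : cc g z = z ↔ Commute g z := by
  rw [cc_def, mul_inv_eq_iff_eq_mul]
  rfl

theorem cc_of_commute {g z : G} (h : Commute g z) : cc g z = z := cc_eq_iff.2 h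

theorem cc_commute (g z w : G) : Commute (cc g z) (cc g w) ↔ Commute z w :=
  FData.commute_conj_gen g z w

theorem cc_cc (g k z : G) : cc (cc g k) (cc g z) = cc g (cc k z) := by
  simp only [cc_def]; group

theorem commute_cc_comm {g z w : G} : Commute z (cc g w) ↔ Commute (cc g⁻¹ z) w := by
  rw [← cc_commute g (cc g⁻¹ z) w, cc_cc_inv]

theorem PR_iff {x u y v : G} : PR x u y v ↔ ∃ g : G, cc g x = y ∧ cc g u = v := Iff.rfl

section F

variable (h : FData D)

include h

theorem inv_eq {a : G} (ha : a ∈ D) : a⁻¹ = a := h.inv_eq ha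

theorem sq {a : G} (ha : a ∈ D) : a * a = 1 := h.sq a ha

theorem ccm (g : G) {a : G} (ha : a ∈ D) : cc g a ∈ D := h.conj g a ha

theorem ccm_iff (g a : G) : cc g a ∈ D ↔ a ∈ D := by
  constructor
  · intro h1
    have := ccm h g⁻¹ h1
    rwa [cc_inv_cc] at this
  · exact ccm h g

theorem cc_cc_self {a : G} (ha : a ∈ D) (z : G) : cc a (cc a z) = z := by
  rw [← cc_mul, sq h ha, cc_one]

/-- the third point of a noncommuting pair -/
theorem third {a b : G} (ha : a ∈ D) (hb : b ∈ D) (hab : ¬ Commute a b) : cc a b = cc b a := by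
  rw [cc_def, cc_def, inv_eq h ha, inv_eq h hb, h.braid a ha b hb hab]

theorem third_cc {a b : G} (ha : a ∈ D) (hb : b ∈ D) (hab : ¬ Commute a b) :
    cc (cc a b) a = b := by
  have h1 := third h ha hb hab
  have h2 : cc (cc b a) (cc b b) = cc b (cc a b) := cc_cc b a b
  rw [cc_self, h1, cc_cc_self h hb] at h2
  -- h2 : cc (cc b a) b = a
  have h3 : cc (cc a b) (cc (cc a b) b) = cc (cc a b) a := by rw [h1, h2]
  rw [cc_cc_self h (ccm h a hb)] at h3
  exact h3.symm

omit h in
theorem third_not_commute {a b : G} (hab : ¬ Commute a b) :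
    ¬ Commute a (cc a b) := by
  intro h1
  apply hab
  have : Commute (cc a a) (cc a b) := by rwa [cc_self]
  rwa [cc_commute] at this

theorem cc_commute_left {a : G} (ha : a ∈ D) (z w : G) : Commute (cc a z) w ↔ Commute z (cc a w) := by
  rw [← cc_commute a, cc_cc_self h ha]

omit h in
/-- something commuting with `a, b` commutes with `cc a b` -/
theorem commute_cc_of {d a b : G} (h1 : Commute d a) (h2 : Commute d b) : Commute d (cc a b) := by
  rw [cc_def]
  exact (h1.mul_right h2).mul_right h1.inv_right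

/-- if `d` commutes with `a` but not with `b` then not with `cc a b` -/
theorem not_commute_cc {d a b : G} (ha : a ∈ D) (h1 : Commute d a) (h2 : ¬ Commute d b) :
    ¬ Commute d (cc a b) := by
  intro h3
  apply h2
  have := commute_cc_of h1 h3
  rwa [cc_cc_self h ha] at this

/-- the symmetric group of degree four: `u` joined to the commuting `c, z`. -/
theorem s4' {u c z : G} (hu : u ∈ D) (hc : c ∈ D) (hz : z ∈ D) (hcz : Commute c z)
    (huc : ¬ Commute u c) (huz : ¬ Commute u z) :
    cc c (cc z u) ∈ D ∧ Commute (cc c (cc z u)) u ∧ cc (u * cc c (cc z u)) c = z := by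
  have hf : cc c (cc z u) ∈ D := ccm h c (ccm h z hu)
  have hcf : Commute (cc c (cc z u)) u := by
    rw [cc_commute_left h hc, ← third h hu hz huz, ← third h hu hc huc, cc_commute]
    exact hcz.symm
  refine ⟨hf, hcf, ?_⟩
  rw [cc_mul]
  have e : cc (cc c (cc z u)) c = cc z u := by
    have h1 : cc (cc c (cc z u)) (cc c c) = cc c (cc (cc z u) c) := cc_cc _ _ _
    rw [cc_self] at h1
    have h2 : cc (cc z u) c = cc c (cc z u) := by
      apply third h (ccm h z hu) hc
      rw [cc_commute_left h hz, cc_of_commute hcz.symm]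
      exact huc
    rw [h1, h2, cc_cc_self h hc]
  rw [e, ← third h hu hz huz, cc_cc_self h hu]

end F

/-- common perp of `a, b` in `D` -/
def T (D : Set G) (a b : G) : Set G := {d | d ∈ D ∧ Commute d a ∧ Commute d b}

theorem mem_T {D : Set G} {a b d : G} : d ∈ T D a b ↔ d ∈ D ∧ Commute d a ∧ Commute d b := Iff.rfl

theorem T_comm (D : Set G) (a b : G) : T D a b = T D b a := by
  ext d; simp only [mem_T]; tauto

theorem ncard_T_eq [Finite G] (h : FData D) {a b a' b' : G} (hP : PR a b a' b') :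
    (T D a b).ncard = (T D a' b').ncard := by
  obtain ⟨g, rfl, rfl⟩ := hP
  apply ncard_eq_of_conj _ _ g
  intro w
  show (w ∈ D ∧ Commute w a ∧ Commute w b) ↔ (g * w * g⁻¹ ∈ D ∧ Commute (g * w * g⁻¹) (g * a * g⁻¹)
    ∧ Commute (g * w * g⁻¹) (g * b * g⁻¹))
  rw [FData.commute_conj_gen, FData.commute_conj_gen, ← mem_conj_iff h]

section Main

variable [Finite G] (h : FData D)
  (hsol : ∀ N : Subgroup G, N.Normal → Group.IsSolvable ↥N → N = ⊥)
  (hperf : ⁅commutator G, commutator G⁆ = commutator G)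

include h hsol hperf

/-- `G` is transitive on ordered commuting pairs -/
theorem PR_perp {a b a' b' : G} (ha : a ∈ D) (hb : b ∈ D) (ha' : a' ∈ D) (hb' : b' ∈ D)
    (hab : Commute a b) (hne : b ≠ a) (hab' : Commute a' b') (hne' : b' ≠ a') : PR a b a' b' := by
  obtain ⟨g, hg⟩ := h.single a ha a' ha'
  have h5 : PR a b a' (g * b * g⁻¹) := ⟨g, hg, rfl⟩
  refine h5.trans (perp_trans h hsol hperf ha' (h.conj g b hb) hb' ?_ hne' ?_ hab')
  · intro h6
    rw [← hg] at h6
    exact hne (mul_left_cancel (mul_right_cancel h6))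
  · rw [← hg, FData.commute_conj_gen]; exact hab

/-- `G` is transitive on ordered noncommuting pairs -/
theorem PR_col {a b a' b' : G} (ha : a ∈ D) (hb : b ∈ D) (ha' : a' ∈ D) (hb' : b' ∈ D)
    (hab : ¬ Commute a b) (hab' : ¬ Commute a' b') : PR a b a' b' := by
  obtain ⟨g, hg⟩ := h.single a ha a' ha'
  have h5 : PR a b a' (g * b * g⁻¹) := ⟨g, hg, rfl⟩
  refine h5.trans (col_trans h hsol hperf ha' (h.conj g b hb) hb' ?_ hab')
  rw [← hg, FData.commute_conj_gen]; exact hab

theorem T_eq_perp {a b a' b' : G} (ha : a ∈ D) (hb : b ∈ D) (ha' : a' ∈ D) (hb' : b' ∈ D)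
    (hab : Commute a b) (hne : b ≠ a) (hab' : Commute a' b') (hne' : b' ≠ a')
    (hs : T D a b ⊆ T D a' b') : T D a b = T D a' b' :=
  Set.eq_of_subset_of_ncard_le hs
    (ncard_T_eq h (PR_perp h hsol hperf ha hb ha' hb' hab hne hab' hne')).ge (Set.toFinite _)

theorem T_eq_col {a b a' b' : G} (ha : a ∈ D) (hb : b ∈ D) (ha' : a' ∈ D) (hb' : b' ∈ D)
    (hab : ¬ Commute a b) (hab' : ¬ Commute a' b')
    (hs : T D a b ⊆ T D a' b') : T D a b = T D a' b' :=
  Set.eq_of_subset_of_ncard_le hs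
    (ncard_T_eq h (PR_col h hsol hperf ha hb ha' hb' hab hab')).ge (Set.toFinite _)

end Main

end Cfsg.Agent.SporadicStructure.FSolBase
end

-- part: SporadicStructure/FSolLines
section
set_option autoImplicit false

/-!
# 3-transposition groups: lines and the one-or-all property (for S1614)
-/

namespace Cfsg.Agent.SporadicStructure.FSolLines

open Cfsg Cfsg.Agent.SporadicStructure.FischerSpace Cfsg.Agent.SporadicStructure.FischerPrimitive
open Cfsg.Agent.SporadicStructure.FischerRank3 Cfsg.Agent.SporadicStructure.FSolBase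

variable {G : Type*} [Group G] {D : Set G}

/-- `a ∈ D_x` -/
def In (D : Set G) (x a : G) : Prop := a ∈ D ∧ a ≠ x ∧ Commute x a

theorem In.symm {x a : G} (hx : x ∈ D) (ha : In D x a) : In D a x := ⟨hx, ha.2.1.symm, ha.2.2.symm⟩

/-- the `τ_x`-class of `a` -/
def V (D : Set G) (x a : G) : Set G := {b | In D x b ∧ T D x a = T D x b}

/-- the line through `x` and `a` -/
def Ln (D : Set G) (x a : G) : Set G := {z | z ∈ D ∧ ∀ d ∈ T D x a, Commute d z}

theorem mem_V {x a b : G} : b ∈ V D x a ↔ In D x b ∧ T D x a = T D x b := Iff.rfl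

theorem mem_Ln {x a z : G} : z ∈ Ln D x a ↔ z ∈ D ∧ ∀ d ∈ T D x a, Commute d z := Iff.rfl

theorem Ln_comm (D : Set G) (x a : G) : Ln D x a = Ln D a x := by
  ext z; rw [mem_Ln, mem_Ln, T_comm]

theorem self_mem_V {x a : G} (ha : In D x a) : a ∈ V D x a := ⟨ha, rfl⟩

theorem V_eq_of_mem {x a b : G} (hb : b ∈ V D x a) : V D x a = V D x b := by
  ext z; rw [mem_V, mem_V, hb.2]

theorem mem_V_symm {x a b : G} (ha : In D x a) (hb : b ∈ V D x a) : a ∈ V D x b := ⟨ha, hb.2.symm⟩

/-- members of a class commute with the same members of `D_x` -/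
theorem V_commute {x a b d : G} (hb : b ∈ V D x a) (hd : d ∈ D) (hdx : Commute d x) :
    Commute d a ↔ Commute d b := by
  have h1 : d ∈ T D x a ↔ d ∈ T D x b := by rw [hb.2]
  rw [mem_T, mem_T] at h1
  constructor
  · intro h2; exact (h1.1 ⟨hd, hdx, h2⟩).2.2
  · intro h2; exact (h1.2 ⟨hd, hdx, h2⟩).2.2

theorem V_comm_V {x a b c : G} (hb : b ∈ V D x a) (hc : c ∈ V D x a) : Commute b c := by
  have h1 : b ∈ V D x b := self_mem_V hb.1
  have h2 : c ∈ V D x b := by rw [← V_eq_of_mem hb]; exact hc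
  exact (V_commute h2 hb.1.1 hb.1.2.2.symm).1 (Commute.refl b)

theorem V_ne {x a b : G} (hb : b ∈ V D x a) : b ≠ x := hb.1.2.1

section F

variable (h : FData D)

include h

theorem In_cc (g : G) {x a : G} : In D (cc g x) (cc g a) ↔ In D x a := by
  unfold In
  rw [ccm_iff h, cc_commute, Ne, cc_inj]

theorem T_cc (g : G) {x a d : G} : cc g d ∈ T D (cc g x) (cc g a) ↔ d ∈ T D x a := by
  rw [mem_T, mem_T, ccm_iff h, cc_commute, cc_commute]

theorem T_cc_eq (g : G) {x a b : G} :
    T D (cc g x) (cc g a) = T D (cc g x) (cc g b) ↔ T D x a = T D x b := by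
  constructor
  · intro h1
    ext d
    rw [← T_cc h g, h1, T_cc h g]
  · intro h1
    ext d
    rw [← cc_cc_inv g d, T_cc h g, T_cc h g, h1]

theorem V_cc (g : G) {x a b : G} : cc g b ∈ V D (cc g x) (cc g a) ↔ b ∈ V D x a := by
  rw [mem_V, mem_V, In_cc h, T_cc_eq h]

theorem Ln_cc (g : G) {x a b : G} : cc g b ∈ Ln D (cc g x) (cc g a) ↔ b ∈ Ln D x a := by
  rw [mem_Ln, mem_Ln, ccm_iff h]
  constructor
  · rintro ⟨h1, h2⟩
    refine ⟨h1, fun d hd => ?_⟩
    have := h2 (cc g d) ((T_cc h g).2 hd)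
    rwa [cc_commute] at this
  · rintro ⟨h1, h2⟩
    refine ⟨h1, fun d hd => ?_⟩
    rw [← cc_cc_inv g d, T_cc h g] at hd
    have := h2 _ hd
    rw [← cc_commute g, cc_cc_inv] at this
    exact this

/-- `V` under conjugation by an element commuting with `x` -/
theorem V_cc' {g : G} {x : G} (hg : Commute g x) {a b : G} :
    cc g b ∈ V D x (cc g a) ↔ b ∈ V D x a := by
  have := V_cc h g (x := x) (a := a) (b := b)
  rwa [cc_of_commute hg] at this

/-- products of two members of a class preserve all classes -/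
theorem cc_mem_V {x a b c : G} (ha : In D x a) (hb : b ∈ V D x a) (hc : In D x c) :
    cc (a * b) c ∈ V D x c := by
  rw [cc_mul]
  by_cases hca : Commute a c
  · have hcb : Commute b c := ((V_commute hb hc.1 hc.2.2.symm).1 hca.symm).symm
    rw [cc_of_commute hcb, cc_of_commute hca]
    exact self_mem_V hc
  · have hcb : ¬ Commute b c := fun h1 => hca (((V_commute hb hc.1 hc.2.2.symm).2 h1.symm).symm)
    rw [third h hb.1.1 hc.1 hcb]
    have h1 : cc c b ∈ V D x (cc c a) := (V_cc' h hc.2.2.symm).2 hb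
    have h2 := (V_cc' h ha.2.2.symm).2 h1
    rwa [← third h ha.1 hc.1 hca, cc_cc_self h ha.1] at h2

/-- a product of two members of a class moves each noncommuting member of `D_x` -/
theorem eq_of_cc_fix {a b c : G} (ha : a ∈ D) (hb : b ∈ D) (hc : c ∈ D) (hca : ¬ Commute a c)
    (hcb : ¬ Commute b c) (hfix : cc (a * b) c = c) : a = b := by
  rw [cc_mul] at hfix
  have h1 : cc a (cc a (cc b c)) = cc a c := by rw [hfix]
  rw [cc_cc_self h ha, third h hb hc hcb, third h ha hc hca, cc_inj] at h1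
  exact h1.symm

end F

omit [Group G] in
theorem even_of_invol {S : Set G} (hS : S.Finite) (f : G → G) (hf : ∀ z ∈ S, f z ∈ S)
    (hff : ∀ z ∈ S, f (f z) = z) (hne : ∀ z ∈ S, f z ≠ z) : Even S.ncard := by
  classical
  rw [Set.ncard_eq_toFinset_card S hS]
  have h1 : ∑ z ∈ hS.toFinset, (1 : ZMod 2) = 0 := by
    apply Finset.sum_involution (fun z _ => f z)
    · intro z hz; decide
    · intro z hz _; exact hne z (by simpa using hz)
    · intro z hz; simpa using hf z (by simpa using hz)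
    · intro z hz; exact hff z (by simpa using hz)
  rw [Finset.sum_const, nsmul_eq_mul, mul_one] at h1
  exact (ZMod.natCast_eq_zero_iff_even).1 h1

section Main

variable [Finite G] (h : FData D)
  (hsol : ∀ N : Subgroup G, N.Normal → Group.IsSolvable ↥N → N = ⊥)
  (hperf : ⁅commutator G, commutator G⁆ = commutator G)

include h hsol hperf

theorem mem_V_of_Ln {x a z : G} (hx : x ∈ D) (ha : In D x a) (hz : z ∈ Ln D x a) (hzx : z ≠ x) :
    z ∈ V D x a := by
  have hxz : Commute x z := hz.2 x ⟨hx, Commute.refl x, ha.2.2⟩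
  refine ⟨⟨hz.1, hzx, hxz⟩, ?_⟩
  apply T_eq_perp h hsol hperf hx ha.1 hx hz.1 ha.2.2 ha.2.1 hxz hzx
  intro d hd
  exact ⟨hd.1, hd.2.1, hz.2 d hd⟩

omit [Finite G] h hsol hperf in
theorem V_sub_Ln {x a z : G} (hz : z ∈ V D x a) : z ∈ Ln D x a :=
  ⟨hz.1.1, fun _ hd => (V_commute hz hd.1 hd.2.1).1 hd.2.2⟩

omit [Finite G] h hsol hperf in
theorem self_mem_Ln {x a : G} (hx : x ∈ D) : x ∈ Ln D x a := ⟨hx, fun _ hd => hd.2.1⟩

theorem Ln_eq {x a : G} (hx : x ∈ D) (ha : In D x a) : Ln D x a = insert x (V D x a) := by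
  ext z
  rw [Set.mem_insert_iff]
  constructor
  · intro hz
    by_cases hzx : z = x
    · exact Or.inl hzx
    · exact Or.inr (mem_V_of_Ln h hsol hperf hx ha hz hzx)
  · rintro (rfl | hz)
    · exact self_mem_Ln hx
    · exact V_sub_Ln hz

/-- two points of a line determine it -/
theorem T_eq_of_Ln {x a u v : G} (hx : x ∈ D) (ha : In D x a) (hu : u ∈ Ln D x a)
    (hv : v ∈ Ln D x a) (huv : u ≠ v) : T D u v = T D x a := by
  by_cases hux : u = x
  · subst hux
    exact (mem_V_of_Ln h hsol hperf hx ha hv huv.symm).2.symm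
  by_cases hvx : v = x
  · subst hvx
    rw [T_comm]
    exact (mem_V_of_Ln h hsol hperf hx ha hu huv).2.symm
  have hu' := mem_V_of_Ln h hsol hperf hx ha hu hux
  have hv' := mem_V_of_Ln h hsol hperf hx ha hv hvx
  have huv' : Commute u v := V_comm_V hu' hv'
  rw [hu'.2]
  symm
  apply T_eq_perp h hsol hperf hx hu'.1.1 hu'.1.1 hv'.1.1 hu'.1.2.2 hu'.1.2.1 huv' huv.symm
  intro d hd
  refine ⟨hd.1, hd.2.2, ?_⟩
  rw [← hu'.2] at hd
  exact hv.2 d hd

theorem Ln_eq_of_mem {x a u v : G} (hx : x ∈ D) (ha : In D x a) (hu : u ∈ Ln D x a)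
    (hv : v ∈ Ln D x a) (huv : u ≠ v) : Ln D u v = Ln D x a := by
  ext z; rw [mem_Ln, mem_Ln, T_eq_of_Ln h hsol hperf hx ha hu hv huv]

/-- commuting with two points of a line: commuting with the whole line -/
theorem all_of_two {x a u v p z : G} (hx : x ∈ D) (ha : In D x a) (hu : u ∈ Ln D x a)
    (hv : v ∈ Ln D x a) (huv : u ≠ v) (hp : p ∈ D) (hpu : Commute p u) (hpv : Commute p v)
    (hz : z ∈ Ln D x a) : Commute p z := by
  have h1 : p ∈ T D u v := ⟨hp, hpu, hpv⟩
  rw [T_eq_of_Ln h hsol hperf hx ha hu hv huv] at h1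
  exact hz.2 p h1

/-- every member of `D_x` has a noncommuting partner in `D_x` -/
theorem exists_nc {x a : G} (hx : x ∈ D) (ha : In D x a) :
    ∃ w, In D x w ∧ ¬ Commute a w := by
  by_contra hno
  push Not at hno
  apply ha.2.1
  symm
  obtain ⟨g, hg⟩ := h.single x hx a ha.1
  have hcard : ({w | w ∈ D ∧ Commute w x} : Set G).ncard = ({w | w ∈ D ∧ Commute w a} : Set G).ncard := by
    apply ncard_eq_of_conj _ _ g
    intro w
    show (w ∈ D ∧ Commute w x) ↔ (g * w * g⁻¹ ∈ D ∧ Commute (g * w * g⁻¹) a)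
    rw [← hg, FData.commute_conj_gen, ← mem_conj_iff h]
  have heq : ({w | w ∈ D ∧ Commute w x} : Set G) = {w | w ∈ D ∧ Commute w a} := by
    refine Set.eq_of_subset_of_ncard_le (fun w hw => ⟨hw.1, ?_⟩) hcard.ge (Set.toFinite _)
    by_cases hwx : w = x
    · rw [hwx]; exact ha.2.2
    · exact (hno w ⟨hw.1, hwx, hw.2.symm⟩).symm
  apply eq_of_commute_iff h hsol hperf hx ha.1
  intro w hw
  have h1 : w ∈ ({w | w ∈ D ∧ Commute w x} : Set G) ↔ w ∈ ({w | w ∈ D ∧ Commute w a} : Set G) := by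
    rw [heq]
  simp only [Set.mem_ofPred_eq, hw, true_and] at h1
  exact h1

/-- `hτ`: some class is nontrivial; then all are -/
theorem exists_ne {x a : G} (hτ : ∃ x a b : G, x ∈ D ∧ In D x a ∧ b ∈ V D x a ∧ b ≠ a)
    (hx : x ∈ D) (ha : In D x a) : ∃ b ∈ V D x a, b ≠ a := by
  obtain ⟨x', a', b', hx', ha', hb', hne'⟩ := hτ
  obtain ⟨g, hg1, hg2⟩ := PR_perp h hsol hperf hx' ha'.1 hx ha.1 ha'.2.2 ha'.2.1 ha.2.2 ha.2.1
  have h1 : cc g b' ∈ V D (cc g x') (cc g a') := (V_cc h g).2 hb'
  have e1 : cc g x' = x := hg1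
  have e2 : cc g a' = a := hg2
  rw [e1, e2] at h1
  refine ⟨cc g b', h1, ?_⟩
  rw [← e2, Ne, cc_inj]
  exact hne'

variable (hτ : ∃ x a b : G, x ∈ D ∧ In D x a ∧ b ∈ V D x a ∧ b ≠ a)

include hτ

/-- the classes have even size -/
theorem even_V {x a : G} (hx : x ∈ D) (ha : In D x a) : Even (V D x a).ncard := by
  obtain ⟨b, hb, hba⟩ := exists_ne h hsol hperf hτ hx ha
  obtain ⟨w, hw, haw⟩ := exists_nc h hsol hperf hx ha
  have hbw : ¬ Commute b w := fun h1 => haw ((V_commute hb hw.1 hw.2.2.symm).2 h1.symm).symm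
  have hab : Commute a b := V_comm_V (self_mem_V ha) hb
  have hab2 : (a * b) * (a * b) = 1 := by
    rw [mul_assoc, ← mul_assoc b a b, ← hab.eq, mul_assoc, sq h hb.1.1, mul_one, sq h ha.1]
  apply even_of_invol (Set.toFinite _) (fun d => cc w (cc (a * b) (cc w d)))
  · intro d hd
    have h1 : In D x (cc w d) := by
      have := (In_cc h w (x := x) (a := d)).2 hd.1
      rwa [cc_of_commute hw.2.2.symm] at this
    have h2 := cc_mem_V h ha hb h1
    have h3 := (V_cc' h hw.2.2.symm).2 h2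
    rw [cc_cc_self h hw.1, ← V_eq_of_mem hd] at h3
    exact h3
  · intro d hd
    rw [cc_cc_self h hw.1, ← cc_mul (a * b), hab2, cc_one, cc_cc_self h hw.1]
  · intro d hd h1
    have h2 : cc w (cc w (cc (a * b) (cc w d))) = cc w d := by rw [h1]
    rw [cc_cc_self h hw.1] at h2
    have hdw : ¬ Commute w d := fun h1 => haw ((V_commute hd hw.1 hw.2.2.symm).2 h1).symm
    rw [third h hw.1 hd.1.1 hdw] at h2
    have hda : Commute d a := V_comm_V hd (self_mem_V ha)
    have hdb : Commute d b := V_comm_V hd hb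
    have h3 : cc (a * b) (cc d w) = cc d (cc (a * b) w) := by
      rw [← cc_mul, ← cc_mul, (hda.mul_right hdb).eq]
    rw [h3, cc_inj] at h2
    exact hba (eq_of_cc_fix h ha.1 hb.1.1 hw.1 haw hbw h2).symm

/-- **one or all**, first half -/
theorem exists_perp {x a p : G} (hx : x ∈ D) (ha : In D x a) (hp : p ∈ D) :
    ∃ z ∈ Ln D x a, Commute p z := by
  by_contra hno
  push Not at hno
  have hxL : x ∈ Ln D x a := self_mem_Ln hx
  have haL : a ∈ Ln D x a := V_sub_Ln (self_mem_V ha)
  have hpx := hno x hxL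
  have hpa := hno a haL
  have hab2 : (x * a) * (x * a) = 1 := by
    rw [mul_assoc, ← mul_assoc a x a, ← ha.2.2.eq, mul_assoc, sq h ha.1, mul_one, sq h hx]
  have hev : Even (Ln D x a).ncard := by
    apply even_of_invol (Set.toFinite _) (fun d => cc p (cc (x * a) (cc p d)))
    · intro d hd
      have h1 := (Ln_cc h p).2 hd
      have h2 := (Ln_cc h (x * a)).2 h1
      have e1 : cc (x * a) (cc p x) = cc p a := by
        rw [third h hp hx hpx, third h hp ha.1 hpa, ha.2.2.eq, cc_mul, cc_cc_self h hx]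
      have e2 : cc (x * a) (cc p a) = cc p x := by
        rw [third h hp hx hpx, third h hp ha.1 hpa, cc_mul, cc_cc_self h ha.1]
      rw [e1, e2, Ln_comm] at h2
      have h3 := (Ln_cc h p).2 h2
      rwa [cc_cc_self h hp, cc_cc_self h hp] at h3
    · intro d hd
      rw [cc_cc_self h hp, ← cc_mul (x * a), hab2, cc_one, cc_cc_self h hp]
    · intro d hd h1
      have h2 : cc p (cc p (cc (x * a) (cc p d))) = cc p d := by rw [h1]
      rw [cc_cc_self h hp] at h2
      have hdp : ¬ Commute p d := hno d hd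
      rw [third h hp hd.1 hdp] at h2
      have hdx : Commute d x := (hd.2 x ⟨hx, Commute.refl x, ha.2.2⟩).symm
      have hda : Commute d a := (hd.2 a ⟨ha.1, ha.2.2.symm, Commute.refl a⟩).symm
      have h3 : cc (x * a) (cc d p) = cc d (cc (x * a) p) := by
        rw [← cc_mul, ← cc_mul, (hdx.mul_right hda).eq]
      rw [h3, cc_inj] at h2
      exact ha.2.1 (eq_of_cc_fix h hx ha.1 hp (fun h4 => hpx h4.symm) (fun h4 => hpa h4.symm) h2).symm
  rw [Ln_eq h hsol hperf hx ha, Set.ncard_insert_of_notMem (fun h1 => V_ne h1 rfl) (Set.toFinite _)] at hev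
  have hV := even_V h hsol hperf hτ hx ha
  rcases hV with ⟨k, hk⟩
  rcases hev with ⟨l, hl⟩
  omega

/-- `y` not commuting with `x` commutes with some member of each class of `D_x` -/
theorem exists_perp_V {x a y : G} (hx : x ∈ D) (ha : In D x a) (hy : y ∈ D) (hxy : ¬ Commute x y) :
    ∃ z ∈ V D x a, Commute y z := by
  obtain ⟨z, hz, hyz⟩ := exists_perp h hsol hperf hτ hx ha hy
  refine ⟨z, mem_V_of_Ln h hsol hperf hx ha hz ?_, hyz⟩
  rintro rfl
  exact hxy hyz.symm

omit hτ in
/-- ... and with only one -/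
theorem perp_V_unique {x a y z z' : G} (hx : x ∈ D) (ha : In D x a) (hy : y ∈ D) (hxy : ¬ Commute x y)
    (hz : z ∈ V D x a) (hz' : z' ∈ V D x a) (hyz : Commute y z) (hyz' : Commute y z') : z = z' := by
  by_contra hne
  exact hxy (all_of_two h hsol hperf hx ha (V_sub_Ln hz) (V_sub_Ln hz') hne hy hyz hyz'
    (self_mem_Ln hx)).symm

end Main

end Cfsg.Agent.SporadicStructure.FSolLines
end

-- part: SporadicStructure/FSolPlane
section
set_option autoImplicit false

/-!
# 3-transposition groups: a line has three or five points (for S1614)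
-/

namespace Cfsg.Agent.SporadicStructure.FSolPlane

open Cfsg Cfsg.Agent.SporadicStructure.FischerSpace Cfsg.Agent.SporadicStructure.FischerPrimitive
open Cfsg.Agent.SporadicStructure.FischerRank3 Cfsg.Agent.SporadicStructure.FSolBase
open Cfsg.Agent.SporadicStructure.FSolLines

variable {G : Type*} [Group G] {D : Set G}

section F

variable (h : FData D)

include h

omit h in
theorem not_commute_V {x a b w : G} (hb : b ∈ V D x a) (hw : In D x w) (haw : ¬ Commute a w) :
    ¬ Commute b w := fun h1 => haw ((V_commute hb hw.1 hw.2.2.symm).2 h1.symm).symm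

omit h in
theorem not_commute_VV {x a b w w' : G} (hb : b ∈ V D x a) (hw' : w' ∈ V D x w)
    (ha : In D x a) (haw : ¬ Commute a w) : ¬ Commute b w' := by
  have h1 : ¬ Commute a w' := fun h2 => haw ((V_commute hw' ha.1 ha.2.2.symm).2 h2)
  exact not_commute_V hb hw'.1 h1

theorem cc_inj_right {x a c d d' w : G} (hd : d ∈ V D x a) (hd' : d' ∈ V D x a)
    (hw : In D x w) (haw : ¬ Commute a w) (he : cc (c * d) w = cc (c * d') w) : d = d' := by
  rw [cc_mul, cc_mul, cc_inj] at he
  rw [third h hd.1.1 hw.1 (not_commute_V hd hw haw),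
    third h hd'.1.1 hw.1 (not_commute_V hd' hw haw), cc_inj] at he
  exact he

theorem ncard_V_eq [Finite G] {x a x' a' : G} (hP : PR x a x' a') :
    (V D x a).ncard = (V D x' a').ncard := by
  obtain ⟨g, rfl, rfl⟩ := hP
  apply ncard_eq_of_conj _ _ g
  intro w
  exact (V_cc h g).symm

end F

section Main

variable [Finite G] (h : FData D)
  (hsol : ∀ N : Subgroup G, N.Normal → Group.IsSolvable ↥N → N = ⊥)
  (hperf : ⁅commutator G, commutator G⁆ = commutator G)

include h hsol hperf

theorem card_V {x a x' a' : G} (hx : x ∈ D) (ha : In D x a) (hx' : x' ∈ D) (ha' : In D x' a') :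
    (V D x a).ncard = (V D x' a').ncard :=
  ncard_V_eq h (PR_perp h hsol hperf hx ha.1 hx' ha'.1 ha.2.2 ha.2.1 ha'.2.2 ha'.2.1)

/-- products of two members of a class are transitive on every other noncommuting class -/
theorem exists_move {x a c w w' : G} (hx : x ∈ D) (ha : In D x a) (hc : c ∈ V D x a)
    (hw : In D x w) (haw : ¬ Commute a w) (hw' : w' ∈ V D x w) :
    ∃ d ∈ V D x a, cc (c * d) w = w' := by
  have hsub : (fun d => cc (c * d) w) '' (V D x a) ⊆ V D x w := by
    rintro _ ⟨d, hd, rfl⟩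
    have : d ∈ V D x c := by rw [← V_eq_of_mem hc]; exact hd
    exact cc_mem_V h hc.1 this hw
  have hinj : Set.InjOn (fun d => cc (c * d) w) (V D x a) := fun d hd d' hd' he =>
    cc_inj_right h hd hd' hw haw he
  have heq : (fun d => cc (c * d) w) '' (V D x a) = V D x w := by
    apply Set.eq_of_subset_of_ncard_le hsub _ (Set.toFinite _)
    rw [hinj.ncard_image, card_V h hsol hperf hx ha hx hw]
  rw [← heq] at hw'
  obtain ⟨d, hd, rfl⟩ := hw'
  exact ⟨d, hd, rfl⟩

/-- elements of `G` commuting with all members that do not commute with `x` are trivial -/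
theorem eq_one_of_commute_col {x u : G} (hx : x ∈ D) (hu : ∀ y ∈ D, ¬ Commute x y → Commute u y) :
    u = 1 := by
  have hux : Commute u x := by
    obtain ⟨y, hy, hxy⟩ : ∃ y ∈ D, ¬ Commute x y := by
      obtain ⟨y, hy, h1, -⟩ := exists_not_commute_both h hsol hperf hx hx (Commute.refl x)
      exact ⟨y, hy, fun h2 => h1 h2.symm⟩
    have h1 := hu y hy hxy
    have h2 := hu (cc x y) (ccm h x hy) (third_not_commute hxy)
    have h3 := commute_cc_of h1 h2
    rw [third h hx hy hxy, cc_cc_self h hy] at h3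
    exact h3
  have hall : ∀ d ∈ D, Commute u d := by
    intro d hd
    by_cases hdx : Commute x d
    · obtain ⟨y, hy, h1, h2⟩ := exists_not_commute_both h hsol hperf hx hd hdx
      have h1' : ¬ Commute x y := fun h3 => h1 h3.symm
      have h2' : ¬ Commute d y := fun h3 => h2 h3.symm
      have h3 := hu y hy h1'
      have h4 : ¬ Commute x (cc d y) := by
        rw [Commute.symm_iff, cc_commute_left h hd, cc_of_commute hdx.symm, Commute.symm_iff]
        exact h1'
      have h5 := commute_cc_of h3 (hu (cc d y) (ccm h d hy) h4)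
      rw [third h hd hy h2', cc_cc_self h hy] at h5
      exact h5
    · exact hu d hd hdx
  have := h.mem_center_of_forall_commute hall
  rw [center_eq_bot hsol, Subgroup.mem_bot] at this
  exact this

variable (hτ : ∃ x a b : G, x ∈ D ∧ In D x a ∧ b ∈ V D x a ∧ b ≠ a)

include hτ

omit hτ in
/-- the W(D₄) argument -/
theorem cc_eq_of_perp {x a b c d y w : G} (hx : x ∈ D) (ha : In D x a) (hb : b ∈ V D x a)
    (hc : c ∈ V D x a) (hd : d ∈ V D x a) (hab : a ≠ b) (hac : a ≠ c) (had : a ≠ d)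
    (hbc : b ≠ c) (hy : y ∈ D) (hxy : ¬ Commute x y) (hya : Commute y a)
    (hw : In D x w) (haw : ¬ Commute a w) (hwy : Commute w y)
    (hz : Commute (a * b * c * d) w) : cc (a * b * c * d) y = cc x y := by
  have haV := self_mem_V ha
  have hyb : ¬ Commute y b := fun h1 =>
    hab (perp_V_unique h hsol hperf hx ha hy hxy haV hb hya h1)
  have hyc : ¬ Commute y c := fun h1 =>
    hac (perp_V_unique h hsol hperf hx ha hy hxy haV hc hya h1)
  have hyd : ¬ Commute y d := fun h1 =>
    had (perp_V_unique h hsol hperf hx ha hy hxy haV hd hya h1)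
  have kab := V_comm_V haV hb
  have kac := V_comm_V haV hc
  have kad := V_comm_V haV hd
  have kbc := V_comm_V hb hc
  have kbd := V_comm_V hb hd
  have kcd := V_comm_V hc hd
  have e0 : a * b * c * d = b * c * d * a := by
    have : Commute a (b * c * d) := (kab.mul_right kac).mul_right kad
    rw [← this.eq]; simp only [mul_assoc]
  set p := cc (b * c * d) y with hp
  have ep : cc (a * b * c * d) y = p := by
    rw [e0, cc_mul, cc_of_commute hya.symm]
  rw [ep]
  -- the map `H = cc y ∘ cc (b * c) ∘ cc y`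
  have Hb : cc y (cc (b * c) (cc y b)) = c := by
    rw [third h hy hb.1.1 hyb, kbc.eq, cc_mul, cc_cc_self h hb.1.1, ← third h hy hc.1.1 hyc,
      cc_cc_self h hy]
  have Hc : cc y (cc (b * c) (cc y c)) = b := by
    rw [third h hy hc.1.1 hyc, cc_mul, cc_cc_self h hc.1.1, ← third h hy hb.1.1 hyb,
      cc_cc_self h hy]
  have Hd : cc y (cc (b * c) (cc y d)) = cc y p := by
    rw [third h hy hd.1.1 hyd, ← cc_mul (b * c)]
  have hbL : b ∈ Ln D x a := V_sub_Ln hb
  have hcL : c ∈ Ln D x a := V_sub_Ln hc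
  have hdL : d ∈ Ln D x a := V_sub_Ln hd
  have hLbc := Ln_eq_of_mem h hsol hperf hx ha hbL hcL hbc
  have hdL' : d ∈ Ln D b c := by rw [hLbc]; exact hdL
  have hg : cc y p ∈ Ln D x a := by
    have h1 := (Ln_cc h y).2 ((Ln_cc h (b * c)).2 ((Ln_cc h y).2 hdL'))
    rw [Hb, Hc, Hd, Ln_comm, hLbc] at h1
    exact h1
  have hpw : Commute w p := by
    have h1 := (cc_commute (a * b * c * d) w y).2 hwy
    rwa [cc_of_commute hz, ep] at h1
  have hgw : Commute w (cc y p) := commute_cc_of hwy hpw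
  have hgx : cc y p = x := by
    by_contra hne
    have hgV := mem_V_of_Ln h hsol hperf hx ha hg hne
    exact not_commute_V hgV hw haw hgw.symm
  have : cc y (cc y p) = cc y x := by rw [hgx]
  rw [cc_cc_self h hy, ← third h hx hy hxy] at this
  exact this

/-- three different members of a class determine a fourth one with product `x` -/
theorem prod_four {x v a b c : G} (hx : x ∈ D) (ha : a ∈ V D x v) (hb : b ∈ V D x v)
    (hc : c ∈ V D x v) (hab : a ≠ b) (hac : a ≠ c) (hbc : b ≠ c) :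
    ∃ d ∈ V D x v, d ≠ a ∧ d ≠ b ∧ d ≠ c ∧ a * b * c * d = x := by
  have haI := ha.1
  have hVa : V D x v = V D x a := V_eq_of_mem ha
  rw [hVa] at ha hb hc ⊢
  clear hVa v
  obtain ⟨w, hw, haw⟩ := exists_nc h hsol hperf hx haI
  have kab := V_comm_V ha hb
  have kac := V_comm_V ha hc
  have kbc := V_comm_V hb hc
  have hw1 : cc (a * b) w ∈ V D x w := cc_mem_V h haI hb hw
  obtain ⟨d, hd, hdw⟩ := exists_move h hsol hperf hx haI hc hw haw hw1
  have kad := V_comm_V ha hd
  have kbd := V_comm_V hb hd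
  have kcd := V_comm_V hc hd
  have hda : d ≠ a := by
    rintro rfl
    rw [kac.symm.eq] at hdw
    exact hbc (cc_inj_right h hc hb hw haw hdw).symm
  have hdb : d ≠ b := by
    rintro rfl
    rw [kbc.symm.eq, kab.eq] at hdw
    exact hac (cc_inj_right h hc ha hw haw hdw).symm
  have hdc : d ≠ c := by
    rintro rfl
    rw [sq h hd.1.1, cc_one] at hdw
    exact hab (eq_of_cc_fix h ha.1.1 hb.1.1 hw.1 haw (not_commute_V hb hw haw) hdw.symm)
  have hzw : Commute (a * b * c * d) w := by
    rw [← cc_eq_iff]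
    have e : a * b * c * d = (a * b) * (c * d) := by simp only [mul_assoc]
    rw [e, cc_mul, hdw, ← cc_mul]
    have : (a * b) * (a * b) = 1 := by
      rw [mul_assoc, ← mul_assoc b a b, ← kab.eq, mul_assoc, sq h hb.1.1, mul_one, sq h ha.1.1]
    rw [this, cc_one]
  -- `z` commutes with the whole class of `w`
  have hzW : ∀ w' ∈ V D x w, Commute (a * b * c * d) w' := by
    intro w' hw'
    obtain ⟨d', hd', rfl⟩ := exists_move h hsol hperf hx haI hc hw haw hw'
    have k1 : Commute (c * d') (a * b * c * d) := by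
      have l1 : Commute c (a * b * c * d) :=
        (((kac.symm.mul_right kbc.symm).mul_right (Commute.refl c)).mul_right kcd)
      have l2 : Commute d' (a * b * c * d) :=
        ((((V_comm_V hd' ha).mul_right (V_comm_V hd' hb)).mul_right (V_comm_V hd' hc)).mul_right
          (V_comm_V hd' hd))
      exact l1.mul_left l2
    have := (cc_commute (c * d') (a * b * c * d) w).2 hzw
    rwa [cc_of_commute k1] at this
  have hall : ∀ y ∈ D, ¬ Commute x y → cc (a * b * c * d) y = cc x y := by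
    intro y hy hxy
    obtain ⟨a', ha', hya'⟩ := exists_perp_V h hsol hperf hτ hx haI hy hxy
    have hwa : ¬ Commute w a' := fun h1 => not_commute_V ha' hw haw h1.symm
    have haa' : a ∈ V D x a' := by rw [← V_eq_of_mem ha']; exact ha
    obtain ⟨w'', hw'', hr⟩ := exists_move h hsol hperf hx hw (self_mem_V hw) ha'.1 hwa haa'
    set r := w * w'' with hrdef
    have hrx : Commute r x := hw.2.2.symm.mul_left hw''.1.2.2.symm
    have hrz : Commute r (a * b * c * d) :=
      ((hzW w (self_mem_V hw)).symm).mul_left (hzW w'' hw'').symm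
    have hxy' : ¬ Commute x (cc r y) := by
      have : cc r x = x := cc_of_commute hrx
      rw [← this, cc_commute]
      exact hxy
    have hya : Commute (cc r y) a := by
      rw [← hr, cc_commute]; exact hya'
    obtain ⟨w', hw', hyw'⟩ := exists_perp_V h hsol hperf hτ hx hw (ccm h r hy) hxy'
    have haw' : ¬ Commute a w' := not_commute_VV ha hw' haI haw
    have h1 := cc_eq_of_perp h hsol hperf hx haI hb hc hd hab hac hda.symm hbc (ccm h r hy) hxy'
      hya hw'.1 haw' hyw'.symm (hzW w' hw')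
    have e1 : cc (a * b * c * d) (cc r y) = cc r (cc (a * b * c * d) y) := by
      rw [← cc_mul, ← hrz.eq, cc_mul]
    have e2 : cc x (cc r y) = cc r (cc x y) := by
      rw [← cc_mul, ← hrx.eq, cc_mul]
    rw [e1, e2, cc_inj] at h1
    exact h1
  refine ⟨d, hd, hda, hdb, hdc, ?_⟩
  have h1 : x * (a * b * c * d) = 1 := by
    apply eq_one_of_commute_col h hsol hperf hx
    intro y hy hxy
    rw [← cc_eq_iff, cc_mul, hall y hy hxy, cc_cc_self h hx]
  have h2 : a * b * c * d = x⁻¹ := (eq_inv_of_mul_eq_one_right h1)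
  rw [h2, inv_eq h hx]

theorem ncard_V_le {x a : G} (hx : x ∈ D) (ha : In D x a) : (V D x a).ncard ≤ 4 := by
  by_contra hgt
  push Not at hgt
  obtain ⟨b, hb, hba⟩ := exists_ne h hsol hperf hτ hx ha
  have haV := self_mem_V ha
  have h2 : ({a, b} : Set G).ncard ≤ 2 := Set.ncard_insert_le _ _ |>.trans (by simp)
  obtain ⟨c, hc, hcn⟩ : ∃ c ∈ V D x a, c ∉ ({a, b} : Set G) := by
    apply Set.exists_mem_notMem_of_ncard_lt_ncard (by omega) (Set.toFinite _)
  simp only [Set.mem_insert_iff, Set.mem_singleton_iff, not_or] at hcn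
  obtain ⟨d, hd, hda, hdb, hdc, hprod⟩ := prod_four h hsol hperf hτ hx haV hb hc hba.symm
    (Ne.symm hcn.1) (Ne.symm hcn.2)
  have h4 : ({a, b, c, d} : Set G).ncard ≤ 4 := by
    have := Set.ncard_insert_le a ({b, c, d} : Set G)
    have := Set.ncard_insert_le b ({c, d} : Set G)
    have := Set.ncard_insert_le c ({d} : Set G)
    have := Set.ncard_singleton d
    omega
  obtain ⟨e, he, hen⟩ : ∃ e ∈ V D x a, e ∉ ({a, b, c, d} : Set G) := by
    apply Set.exists_mem_notMem_of_ncard_lt_ncard (by omega) (Set.toFinite _)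
  simp only [Set.mem_insert_iff, Set.mem_singleton_iff, not_or] at hen
  obtain ⟨d', hd', hda', hdb', hde', hprod'⟩ := prod_four h hsol hperf hτ hx haV hb he hba.symm
    (Ne.symm hen.1) (Ne.symm hen.2.1)
  obtain ⟨f, hf, hfc, hfd, hfe, hprod''⟩ := prod_four h hsol hperf hτ hx hc hd he hdc.symm
    (Ne.symm hen.2.2.1) (Ne.symm hen.2.2.2)
  -- `f * d' = x`
  have kxe : Commute x e := he.1.2.2
  have e1 : c * d = a * b * x := by
    have kab := V_comm_V haV hb
    have h5 : (a * b) * (a * b) = 1 := by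
      rw [mul_assoc, ← mul_assoc b a b, ← kab.eq, mul_assoc, sq h hb.1.1, mul_one, sq h ha.1]
    calc c * d = (a * b) * (a * b) * (c * d) := by rw [h5, one_mul]
      _ = a * b * (a * b * c * d) := by simp only [mul_assoc]
      _ = a * b * x := by rw [hprod]
  have hxabe : Commute x (a * b * e) := (ha.2.2.mul_right hb.1.2.2).mul_right kxe
  have e2 : a * b * e * f = 1 := by
    have h5 : x * (a * b * e * f) = x := by
      calc x * (a * b * e * f) = (x * (a * b * e)) * f := by simp only [mul_assoc]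
        _ = (a * b * e * x) * f := by rw [hxabe.eq]
        _ = a * b * (e * x) * f := by simp only [mul_assoc]
        _ = a * b * (x * e) * f := by rw [kxe.eq]
        _ = (a * b * x) * e * f := by simp only [mul_assoc]
        _ = c * d * e * f := by rw [e1]
        _ = x := hprod''
    exact mul_left_cancel (h5.trans (mul_one x).symm)
  have e3 : d' = f * x := by
    have h5 : a * b * e = f := by
      have := eq_inv_of_mul_eq_one_left e2
      rwa [inv_eq h hf.1.1] at this
    rw [h5] at hprod'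
    rw [← hprod', ← mul_assoc, sq h hf.1.1, one_mul]
  obtain ⟨w, hw, haw⟩ := exists_nc h hsol hperf hx ha
  have hfw := not_commute_V hf hw haw
  have hdw := not_commute_V hd' hw haw
  have e4 : cc d' w = cc f w := by
    rw [e3, cc_mul, cc_of_commute hw.2.2]
  rw [third h hd'.1.1 hw.1 hdw, third h hf.1.1 hw.1 hfw, cc_inj] at e4
  rw [e4] at e3
  have : x = 1 := by
    have h5 : f * x = f * 1 := by rw [← e3, mul_one]
    exact mul_left_cancel h5
  exact h.ne_one x hx this

/-- a class has two or four members -/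
theorem ncard_V {x a : G} (hx : x ∈ D) (ha : In D x a) :
    (V D x a).ncard = 2 ∨ (V D x a).ncard = 4 := by
  have h1 := ncard_V_le h hsol hperf hτ hx ha
  obtain ⟨k, hk⟩ := even_V h hsol hperf hτ hx ha
  obtain ⟨b, hb, hba⟩ := exists_ne h hsol hperf hτ hx ha
  have h2 : 1 < (V D x a).ncard := by
    rw [Set.one_lt_ncard (Set.toFinite _)]
    exact ⟨b, hb, a, self_mem_V ha, hba⟩
  omega

end Main

end Cfsg.Agent.SporadicStructure.FSolPlane
end

-- part: SporadicStructure/FSolTrans
section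
set_option autoImplicit false

/-!
# 3-transposition groups: the group generated by `x^⊥` is transitive on `A_x` (for S1614)
-/

namespace Cfsg.Agent.SporadicStructure.FSolTrans

open Cfsg Cfsg.Agent.SporadicStructure.FischerSpace Cfsg.Agent.SporadicStructure.FischerPrimitive
open Cfsg.Agent.SporadicStructure.FischerRank3 Cfsg.Agent.SporadicStructure.FSolBase
open Cfsg.Agent.SporadicStructure.FSolLines Cfsg.Agent.SporadicStructure.FSolPlane

variable {G : Type*} [Group G] {D : Set G}

/-- the subgroup generated by the members of `D` commuting with `x` -/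
def L (D : Set G) (x : G) : Subgroup G := Subgroup.closure {d | d ∈ D ∧ Commute d x}

theorem commute_of_mem_L {x g : G} (hg : g ∈ L D x) : Commute g x := by
  have hle : L D x ≤ Subgroup.centralizer {x} := by
    unfold L
    rw [Subgroup.closure_le]
    intro d hd
    rw [SetLike.mem_coe, Subgroup.mem_centralizer_singleton_iff]
    exact hd.2.eq
  have := hle hg
  rw [Subgroup.mem_centralizer_singleton_iff] at this
  exact this

section Main

variable [Finite G] (h : FData D)
  (hsol : ∀ N : Subgroup G, N.Normal → Group.IsSolvable ↥N → N = ⊥)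
  (hperf : ⁅commutator G, commutator G⁆ = commutator G)

include h hsol hperf

theorem L_trans' {x u v : G} (hx : x ∈ D) (hu : u ∈ D) (hv : v ∈ D) (hxu : ¬ Commute x u)
    (hxv : ¬ Commute x v) (hne : (T D x u).Nonempty) : ∃ g ∈ L D x, cc g u = v := by
  have hcomm : ∀ a b, a ∈ D → b ∈ D → ¬ Commute x a → ¬ Commute x b → Commute a b →
      ∃ g ∈ L D x, cc g a = b := by
    intro a b ha hb hxa hxb hab
    obtain ⟨h1, h2, h3⟩ := s4' h hx ha hb hab hxa hxb
    refine ⟨x * cc a (cc b x), mul_mem (Subgroup.subset_closure ⟨hx, Commute.refl x⟩)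
      (Subgroup.subset_closure ⟨h1, h2⟩), h3⟩
  have hsymm : ∀ a b, (∃ g ∈ L D x, cc g a = b) → ∃ g ∈ L D x, cc g b = a := by
    rintro a b ⟨g, hg, rfl⟩
    exact ⟨g⁻¹, inv_mem hg, cc_inv_cc g a⟩
  have htrans : ∀ a b c, (∃ g ∈ L D x, cc g a = b) → (∃ g ∈ L D x, cc g b = c) →
      ∃ g ∈ L D x, cc g a = c := by
    rintro a b c ⟨g, hg, rfl⟩ ⟨k, hk, rfl⟩
    exact ⟨k * g, mul_mem hk hg, cc_mul k g a⟩
  have hT : ∀ a b, a ∈ D → b ∈ D → ¬ Commute x a → ¬ Commute x b →
      (¬ ∃ g ∈ L D x, cc g a = b) → T D x a = T D x b := by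
    intro a b ha hb hxa hxb hno
    have hnab : ¬ Commute a b := fun h1 => hno (hcomm a b ha hb hxa hxb h1)
    have key : ∀ d ∈ T D a b, Commute d x := by
      intro d hd
      by_contra hdx
      have hxd : ¬ Commute x d := fun h1 => hdx h1.symm
      exact hno (htrans a d b (hcomm a d ha hd.1 hxa hxd hd.2.1.symm)
        (hcomm d b hd.1 hb hxd hxb hd.2.2))
    have h1 : T D a b = T D x a := T_eq_col h hsol hperf ha hb hx ha hnab hxa
      (fun d hd => ⟨hd.1, key d hd, hd.2.1⟩)
    have h2 : T D a b = T D x b := T_eq_col h hsol hperf ha hb hx hb hnab hxb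
      (fun d hd => ⟨hd.1, key d hd, hd.2.2⟩)
    rw [← h1, ← h2]
  by_contra hno
  have h0 := hT u v hu hv hxu hxv hno
  have hconst : ∀ y ∈ D, ¬ Commute x y → T D x y = T D x u := by
    intro y hy hxy
    by_cases hyu : ∃ g ∈ L D x, cc g y = u
    · rw [h0]
      apply hT y v hy hv hxy hxv
      intro h1
      exact hno (htrans u y v (hsymm y u hyu) h1)
    · exact hT y u hy hu hxy hxu hyu
  obtain ⟨c, hc⟩ := hne
  have h1 : c = 1 := by
    apply eq_one_of_commute_col h hsol hperf hx
    intro y hy hxy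
    have : c ∈ T D x y := by rw [hconst y hy hxy]; exact hc
    exact this.2.2
  exact h.ne_one c hc.1 h1

variable (hτ : ∃ x a b : G, x ∈ D ∧ In D x a ∧ b ∈ V D x a ∧ b ≠ a)

include hτ

omit [Finite G] hsol hperf in
theorem exists_In {x : G} (hx : x ∈ D) : ∃ a, In D x a := by
  obtain ⟨x', a', -, hx', ha', -⟩ := hτ
  obtain ⟨g, hg⟩ := h.single x' hx' x hx
  refine ⟨cc g a', ?_⟩
  have : cc g x' = x := hg
  rw [← this, In_cc h]
  exact ha'

theorem T_nonempty {x y : G} (hx : x ∈ D) (hy : y ∈ D) (hxy : ¬ Commute x y) :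
    (T D x y).Nonempty := by
  obtain ⟨a, ha⟩ := exists_In h hτ hx
  obtain ⟨z, hz, hyz⟩ := exists_perp_V h hsol hperf hτ hx ha hy hxy
  exact ⟨z, hz.1.1, hz.1.2.2.symm, hyz.symm⟩

/-- the subgroup generated by the members of `D` commuting with `x` is transitive on the others -/
theorem L_trans {x u v : G} (hx : x ∈ D) (hu : u ∈ D) (hv : v ∈ D) (hxu : ¬ Commute x u)
    (hxv : ¬ Commute x v) : ∃ g ∈ L D x, cc g u = v :=
  L_trans' h hsol hperf hx hu hv hxu hxv (T_nonempty h hsol hperf hτ hx hu hxu)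

end Main

end Cfsg.Agent.SporadicStructure.FSolTrans
end

-- part: SporadicStructure/FSolSolv
section
set_option autoImplicit false

/-!
# Solvable groups generated by 3-transpositions (for S1614)
-/

namespace Cfsg.Agent.SporadicStructure.FSolSolv

variable {X : Type*} [Group X]

/-- the normal Sylow subgroup of a normal nilpotent subgroup -/
theorem exists_sylow [Finite X] (K : Subgroup X) [hK : K.Normal] (hn : Group.IsNilpotent K) (p : ℕ)
    [Fact p.Prime] : ∃ P : Subgroup X, P.Normal ∧ IsPGroup p P ∧ P ≤ K ∧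
      ∀ k ∈ K, (∃ n, k ^ p ^ n = 1) → k ∈ P := by
  obtain ⟨Q⟩ : Nonempty (Sylow p K) := inferInstance
  have hQn : (Q : Subgroup K).Normal := by
    have h1 := (Group.isNilpotent_of_finite_tfae (G := K)).out 0 3
    exact (h1.1 hn) p inferInstance Q
  have hQc : (Q : Subgroup K).Characteristic := Q.characteristic_of_normal hQn
  refine ⟨(Q : Subgroup K).map K.subtype, ?_, ?_, ?_, ?_⟩
  · exact ConjAct.normal_of_characteristic_of_normal
  · exact Q.2.map K.subtype
  · exact Subgroup.map_subtype_le _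
  · rintro k hk ⟨n, hkn⟩
    have h1 : IsPGroup p (Subgroup.zpowers (⟨k, hk⟩ : K)) := by
      rw [IsPGroup.iff_card]
      have h2 : orderOf (⟨k, hk⟩ : K) ∣ p ^ n := by
        apply orderOf_dvd_of_pow_eq_one
        apply Subtype.ext
        simpa using hkn
      obtain ⟨m, -, hm⟩ := (Nat.dvd_prime_pow (Fact.out : p.Prime)).1 h2
      exact ⟨m, by rw [Nat.card_zpowers, hm]⟩
    obtain ⟨Q', hQ'⟩ := h1.exists_le_sylow
    have : Q' = Q := by
      have := Sylow.unique_of_normal Q hQn
      exact Subsingleton.elim _ _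
    rw [this] at hQ'
    exact ⟨⟨k, hk⟩, hQ' (Subgroup.mem_zpowers _), rfl⟩

theorem exists_class_two (hX : Group.IsSolvable X) {a b : X} (hab : ¬ Commute a b) :
    ∃ K : Subgroup X, K.Normal ∧ ¬ K ≤ Subgroup.center X ∧ ⁅K, K⁆ ≤ Subgroup.center X := by
  classical
  have hex : ∃ n, derivedSeries X n ≤ Subgroup.center X := by
    obtain ⟨n, hn⟩ := hX.solvable
    exact ⟨n, by rw [hn]; exact bot_le⟩
  have h0 : ¬ derivedSeries X 0 ≤ Subgroup.center X := by
    intro h1
    have : a ∈ Subgroup.center X := h1 (by simp)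
    exact hab ((Subgroup.mem_center_iff.1 this b).symm)
  set n := Nat.find hex with hn
  have hn0 : n ≠ 0 := by
    intro h1
    apply h0
    have := Nat.find_spec hex
    rw [← hn, h1] at this
    exact this
  obtain ⟨m, hm⟩ := Nat.exists_eq_succ_of_ne_zero hn0
  refine ⟨derivedSeries X m, inferInstance, ?_, ?_⟩
  · exact Nat.find_min hex (by omega)
  · have := Nat.find_spec hex
    rw [← hn, hm, Nat.succ_eq_add_one, derivedSeries_succ] at this
    exact this

theorem nilpotent_of_class_two (K : Subgroup X) (hK : ⁅K, K⁆ ≤ Subgroup.center X) :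
    Group.IsNilpotent K := by
  have h1 : (Abelianization.of (G := K)).ker ≤ Subgroup.center K := by
    rw [Abelianization.ker_of]
    intro k hk
    rw [Subgroup.mem_center_iff]
    intro g
    have h2 : (k : X) ∈ ⁅K, K⁆ := by
      have h3 : (commutator K).map K.subtype = ⁅K, K⁆ := by
        exact Subgroup.map_subtype_commutator K
      rw [← h3]
      exact ⟨k, hk, rfl⟩
    apply Subtype.ext
    exact Subgroup.mem_center_iff.1 (hK h2) g
  exact Subgroup.isNilpotent_of_ker_le_center _ h1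

/-- **Solvable groups generated by 3-transpositions.** -/
theorem dichotomy [Finite X] (hX : Group.IsSolvable X) {S : Set X} (hsq : ∀ a ∈ S, a * a = 1)
    (hconj : ∀ g : X, ∀ a ∈ S, g * a * g⁻¹ ∈ S)
    (hbr : ∀ a ∈ S, ∀ b ∈ S, ¬ Commute a b → a * b * a = b * a * b)
    (hgen : Subgroup.closure S = ⊤) (hnc : ∃ a ∈ S, ∃ b ∈ S, ¬ Commute a b) :
    (∃ a ∈ S, ∃ b ∈ S, a ≠ b ∧ Commute a b ∧ ∀ c ∈ S, Commute c a ↔ Commute c b) ∨
    (∃ a ∈ S, ∃ b ∈ S, ¬ Commute a b ∧ (∀ c ∈ S, c ≠ a → Commute c a → Commute c b) ∧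
      ∃ P : Subgroup X, P.Normal ∧ IsPGroup 3 P ∧ a * b ∈ P) := by
  obtain ⟨a0, -, b0, -, hab0⟩ := hnc
  obtain ⟨K, hKn, hKc, hKK⟩ := exists_class_two hX hab0
  have hnil := nilpotent_of_class_two K hKK
  have : Fact (Nat.Prime 2) := ⟨Nat.prime_two⟩
  have : Fact (Nat.Prime 3) := ⟨Nat.prime_three⟩
  have hex : ∃ a ∈ S, ∃ n ∈ K, ¬ Commute n a := by
    by_contra hno
    push Not at hno
    apply hKc
    intro n hn
    rw [Subgroup.mem_center_iff]
    intro g
    have hle : Subgroup.closure S ≤ Subgroup.centralizer {n} := by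
      rw [Subgroup.closure_le]
      intro a ha
      rw [SetLike.mem_coe, Subgroup.mem_centralizer_singleton_iff]
      exact (hno a ha n hn).symm.eq
    have hg : g ∈ Subgroup.centralizer {n} := hle (by rw [hgen]; trivial)
    exact Subgroup.mem_centralizer_singleton_iff.1 hg
  obtain ⟨a, ha, n, hn, hna⟩ := hex
  set b := n * a * n⁻¹ with hb
  have hbS : b ∈ S := hconj n a ha
  have hab : a ≠ b := by
    intro h1
    apply hna
    rw [hb, eq_mul_inv_iff_mul_eq] at h1
    exact h1.symm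
  have hainv : a⁻¹ = a := inv_eq_of_mul_eq_one_left (hsq a ha)
  have habK : a * b ∈ K := by
    have h1 : a * n * a⁻¹ ∈ K := hKn.conj_mem n hn a
    have h2 : a * b = (a * n * a⁻¹) * n⁻¹ := by rw [hb, hainv]; simp only [mul_assoc]
    rw [h2]
    exact mul_mem h1 (inv_mem hn)
  -- the key computation
  have key : ∀ P : Subgroup X, P.Normal → ∀ a ∈ S, ∀ b ∈ S, ∀ c ∈ S, a * b ∈ P → Commute c a →
      ¬ Commute c b → c * b ∈ P := by
    intro P hP a ha b hb c hc habP hca hcb
    have hbb := hsq b hb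
    have hcc := hsq c hc
    have haa := hsq a ha
    have hci : c⁻¹ = c := inv_eq_of_mul_eq_one_left hcc
    have h1 : c * (a * b) * c⁻¹ ∈ P := hP.conj_mem _ habP c
    have h2 : (a * b)⁻¹ * (c * (a * b) * c⁻¹) ∈ P := mul_mem (inv_mem habP) h1
    have hai : a⁻¹ = a := inv_eq_of_mul_eq_one_left haa
    have hbi : b⁻¹ = b := inv_eq_of_mul_eq_one_left hbb
    have h3 : (a * b)⁻¹ * (c * (a * b) * c⁻¹) = c * b := by
      rw [mul_inv_rev, hci, hai, hbi]
      calc b * a * (c * (a * b) * c) = b * a * ((c * a) * b * c) := by simp only [mul_assoc]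
        _ = b * a * ((a * c) * b * c) := by rw [hca.eq]
        _ = b * (a * a) * (c * b * c) := by simp only [mul_assoc]
        _ = b * (b * c * b) := by rw [haa, mul_one, hbr c hc b hb hcb]
        _ = (b * b) * c * b := by simp only [mul_assoc]
        _ = c * b := by rw [hbb, one_mul]
    rwa [h3] at h2
  have cube : ∀ a ∈ S, ∀ b ∈ S, ¬ Commute a b → (a * b) ^ 3 = 1 := by
    intro a ha b hb hab
    calc (a * b) ^ 3 = (a * b * a) * (b * a * b) := by
          simp only [pow_succ, pow_zero, one_mul, mul_assoc]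
      _ = (a * b * a) * (a * b * a) := by rw [hbr a ha b hb hab]
      _ = a * b * (a * a) * b * a := by simp only [mul_assoc]
      _ = a * (b * b) * a := by rw [hsq a ha]; simp only [mul_assoc, mul_one]
      _ = 1 := by rw [hsq b hb, mul_one, hsq a ha]
  have square : ∀ a ∈ S, ∀ b ∈ S, Commute a b → (a * b) ^ 2 = 1 := by
    intro a ha b hb hab
    rw [hab.mul_pow, pow_two, pow_two, hsq a ha, hsq b hb, one_mul]
  by_cases hcab : Commute a b
  · left
    obtain ⟨P, hPn, hP2, hPK, hPm⟩ := exists_sylow K hnil 2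
    have habP : a * b ∈ P := hPm _ habK ⟨1, by rw [pow_one]; exact square a ha b hbS hcab⟩
    have two : ∀ a ∈ S, ∀ b ∈ S, a * b ∈ P → ¬ ¬ Commute a b := by
      intro a ha b hb habP hn
      obtain ⟨k, hk⟩ := hP2 ⟨a * b, habP⟩
      have hk' : (a * b) ^ 2 ^ k = 1 := by
        have := congrArg Subtype.val hk
        simpa using this
      have h3 := cube a ha b hb hn
      have hco : Nat.Coprime (2 ^ k) 3 := by
        apply Nat.Coprime.pow_left; decide
      have h1 : a * b = 1 := by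
        have h4 : orderOf (a * b) ∣ 1 := by
          rw [← hco]
          exact Nat.dvd_gcd (orderOf_dvd_of_pow_eq_one hk') (orderOf_dvd_of_pow_eq_one h3)
        rwa [Nat.dvd_one, orderOf_eq_one_iff] at h4
      apply hn
      have h2 : b = a := by
        have := eq_inv_of_mul_eq_one_right h1
        rw [this]
        exact inv_eq_of_mul_eq_one_left (hsq a ha)
      rw [h2]
    refine ⟨a, ha, b, hbS, hab, hcab, fun c hc => ⟨fun h1 => ?_, fun h1 => ?_⟩⟩
    · by_contra h2
      exact two c hc b hbS (key P hPn a ha b hbS c hc habP h1 h2) h2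
    · by_contra h2
      have hbaP : b * a ∈ P := by rw [← hcab.eq]; exact habP
      exact two c hc a ha (key P hPn b hbS a ha c hc hbaP h1 h2) h2
  · right
    obtain ⟨P, hPn, hP3, hPK, hPm⟩ := exists_sylow K hnil 3
    have habP : a * b ∈ P := hPm _ habK ⟨1, by rw [pow_one]; exact cube a ha b hbS hcab⟩
    refine ⟨a, ha, b, hbS, hcab, ?_, P, hPn, hP3, habP⟩
    intro c hc hca h1
    by_contra h2
    have h3 := key P hPn a ha b hbS c hc habP h1 h2
    have hbi : b⁻¹ = b := inv_eq_of_mul_eq_one_left (hsq b hbS)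
    have h4 : c * a ∈ P := by
      have h5 : (c * b) * (a * b)⁻¹ = c * a := by
        rw [mul_inv_rev, hainv, hbi]
        calc c * b * (b * a) = c * (b * b) * a := by simp only [mul_assoc]
          _ = c * a := by rw [hsq b hbS, mul_one]
      rw [← h5]
      exact mul_mem h3 (inv_mem habP)
    obtain ⟨k, hk⟩ := hP3 ⟨c * a, h4⟩
    have hk' : (c * a) ^ 3 ^ k = 1 := by
      have := congrArg Subtype.val hk
      simpa using this
    have h5 := square c hc a ha h1
    have hco : Nat.Coprime (3 ^ k) 2 := by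
      apply Nat.Coprime.pow_left; decide
    have h6 : c * a = 1 := by
      have h7 : orderOf (c * a) ∣ 1 := by
        rw [← hco]
        exact Nat.dvd_gcd (orderOf_dvd_of_pow_eq_one hk') (orderOf_dvd_of_pow_eq_one h5)
      rwa [Nat.dvd_one, orderOf_eq_one_iff] at h7
    apply hca
    rw [eq_inv_of_mul_eq_one_left h6, hainv]

end Cfsg.Agent.SporadicStructure.FSolSolv
end

-- part: SporadicStructure/FSolReduce
section
set_option autoImplicit false

/-!
# 3-transposition groups with solvable `⟨D_x⟩`: reduction to rank one (for S1614)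
-/

namespace Cfsg.Agent.SporadicStructure.FSolReduce

open Cfsg Cfsg.Agent.SporadicStructure.FischerSpace Cfsg.Agent.SporadicStructure.FischerPrimitive
open Cfsg.Agent.SporadicStructure.FischerRank3 Cfsg.Agent.SporadicStructure.FSolBase
open Cfsg.Agent.SporadicStructure.FSolLines Cfsg.Agent.SporadicStructure.FSolPlane
open Cfsg.Agent.SporadicStructure.FSolTrans Cfsg.Agent.SporadicStructure.FSolSolv

variable {G : Type*} [Group G] {D : Set G}

/-- the subgroup generated by `D_x` -/
abbrev H (D : Set G) (x : G) : Subgroup G := Subgroup.closure {y : G | y ∈ D ∧ y ≠ x ∧ Commute x y}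

theorem commute_of_mem_H {x g : G} (hg : g ∈ H D x) : Commute g x := by
  have hle : H D x ≤ Subgroup.centralizer {x} := by
    rw [Subgroup.closure_le]
    intro d hd
    rw [SetLike.mem_coe, Subgroup.mem_centralizer_singleton_iff]
    exact hd.2.2.symm.eq
  have := hle hg
  rw [Subgroup.mem_centralizer_singleton_iff] at this
  exact this

/-- the generating set inside `H` -/
def S1 (D : Set G) (x : G) : Set (H D x) := {a | In D x (a : G)}

theorem closure_S1 (x : G) : Subgroup.closure (S1 D x) = ⊤ :=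
  Subgroup.closure_closure_coe_preimage (k := {y : G | y ∈ D ∧ y ≠ x ∧ Commute x y})

theorem In_mem_H {x a : G} (ha : In D x a) : a ∈ H D x := Subgroup.subset_closure ha

section F

variable (h : FData D)

include h

theorem In_cc_H {x a g : G} (hg : g ∈ H D x) : In D x (cc g a) ↔ In D x a := by
  have := In_cc h g (x := x) (a := a)
  rwa [cc_of_commute (commute_of_mem_H hg)] at this

theorem V_cc_H {x a b g : G} (hg : g ∈ H D x) : cc g b ∈ V D x (cc g a) ↔ b ∈ V D x a :=
  V_cc' h (commute_of_mem_H hg)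

/-- the kernel of the action of `H` on the set of classes -/
def Kn (x : G) : Subgroup (H D x) where
  carrier := {g | ∀ a, In D x a → cc (g : G) a ∈ V D x a}
  one_mem' := by
    intro a ha
    rw [Subgroup.coe_one, cc_one]
    exact self_mem_V ha
  mul_mem' := by
    intro g k hg hk a ha
    rw [Subgroup.coe_mul, cc_mul]
    have h1 := hk a ha
    have h2 := hg _ h1.1
    rwa [← V_eq_of_mem h1] at h2
  inv_mem' := by
    intro g hg a ha
    rw [Subgroup.coe_inv]
    have h1 : In D x (cc (g : G)⁻¹ a) := (In_cc_H h (inv_mem g.2)).2 ha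
    have h2 := hg _ h1
    rw [cc_cc_inv] at h2
    exact mem_V_symm h1 h2

theorem mem_Kn {x : G} {g : H D x} : g ∈ Kn h x ↔ ∀ a, In D x a → cc (g : G) a ∈ V D x a := Iff.rfl

theorem Kn_normal (x : G) : (Kn h x).Normal := by
  constructor
  intro n hn g a ha
  rw [Subgroup.coe_mul, Subgroup.coe_mul, Subgroup.coe_inv, cc_mul, cc_mul]
  have h1 : In D x (cc (g : G)⁻¹ a) := (In_cc_H h (inv_mem g.2)).2 ha
  have h2 := hn _ h1
  have h3 := (V_cc_H h g.2).2 h2
  rwa [cc_cc_inv] at h3

theorem mem_Kn_of_V {x a b : G} (ha : In D x a) (hb : b ∈ V D x a) :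
    (⟨a, In_mem_H ha⟩ * ⟨b, In_mem_H hb.1⟩ : H D x) ∈ Kn h x := by
  intro c hc
  exact cc_mem_V h ha hb hc

theorem V_of_mem_Kn {x a b : G} (ha : In D x a) (hb : In D x b)
    (hab : (⟨a, In_mem_H ha⟩ * ⟨b, In_mem_H hb⟩ : H D x) ∈ Kn h x) : b ∈ V D x a := by
  have h0 : ∀ c, In D x c → cc (a * b) c ∈ V D x c := fun c hc => hab c hc
  have hcom : Commute a b := by
    by_contra hn
    have h1 := h0 a ha
    rw [cc_mul, ← third h ha.1 hb.1 hn, cc_cc_self h ha.1] at h1
    exact hn (V_comm_V (self_mem_V ha) h1)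
  have half : ∀ a b : G, In D x a → In D x b → Commute a b →
      (∀ c, In D x c → cc (a * b) c ∈ V D x c) → ∀ c ∈ D, Commute c x → Commute c a →
      Commute c b := by
    intro a b ha hb hcom h0 c hc hcx hca
    by_cases hcx' : c = x
    · rw [hcx']; exact hb.2.2
    · have hcI : In D x c := ⟨hc, hcx', hcx.symm⟩
      by_contra hn
      have h1 := h0 c hcI
      rw [hcom.eq, cc_mul, cc_of_commute hca.symm, ← third h hc hb.1 hn] at h1
      exact third_not_commute hn (V_comm_V (self_mem_V hcI) h1)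
  refine ⟨hb, ?_⟩
  ext d
  rw [mem_T, mem_T]
  constructor
  · rintro ⟨h1, h2, h3⟩
    exact ⟨h1, h2, half a b ha hb hcom h0 d h1 h2 h3⟩
  · rintro ⟨h1, h2, h3⟩
    refine ⟨h1, h2, half b a hb ha hcom.symm ?_ d h1 h2 h3⟩
    intro c hc
    rw [hcom.symm.eq]
    exact h0 c hc

end F

section Main

variable [Finite G] (h : FData D)
  (hsol : ∀ N : Subgroup G, N.Normal → Group.IsSolvable ↥N → N = ⊥)
  (hperf : ⁅commutator G, commutator G⁆ = commutator G)

include h hsol hperf

/-- a solvable `⟨D_x⟩` has noncentral odd core, or some class is nontrivial -/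
theorem tau_or_core {x : G} (hx : x ∈ D) (hs : Group.IsSolvable ↥(H D x)) :
    (∃ x a b : G, x ∈ D ∧ In D x a ∧ b ∈ V D x a ∧ b ≠ a) ∨
      ¬ Cfsg.oddCore ↥(H D x) ≤ Subgroup.center ↥(H D x) := by
  obtain ⟨a0, ha0, ha0x, hxa0⟩ := exists_perp h hsol hperf x hx
  obtain ⟨w0, hw0, haw0⟩ := exists_nc h hsol hperf hx (a := a0) ⟨ha0, ha0x, hxa0⟩
  have hd := dichotomy hs (S := S1 D x) ?_ ?_ ?_ (closure_S1 x) ?_
  rotate_left
  · intro a ha
    apply Subtype.ext
    exact sq h ha.1
  · intro g a ha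
    exact (In_cc_H h g.2).2 ha
  · intro a ha b hb hab
    apply Subtype.ext
    apply h.braid a ha.1 b hb.1
    intro h1
    exact hab (Subtype.ext h1)
  · refine ⟨⟨a0, In_mem_H ⟨ha0, ha0x, hxa0⟩⟩, ⟨ha0, ha0x, hxa0⟩, ⟨w0, In_mem_H hw0⟩, hw0, ?_⟩
    intro h1
    exact haw0 (congrArg Subtype.val h1)
  rcases hd with ⟨a, ha, b, hb, hne, hab, hc⟩ | ⟨a, ha, b, hb, hab, hc, P, hPn, hP3, habP⟩
  · left
    refine ⟨x, a, b, hx, ha, ⟨hb, ?_⟩, fun h1 => hne (Subtype.ext h1.symm)⟩
    ext d
    rw [mem_T, mem_T]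
    by_cases hdx : d = x
    · subst hdx
      exact ⟨fun h1 => ⟨h1.1, h1.2.1, hb.2.2⟩, fun h1 => ⟨h1.1, h1.2.1, ha.2.2⟩⟩
    have key : ∀ (hd : d ∈ D) (hdx' : Commute d x), Commute d (a : G) ↔ Commute d (b : G) := by
      intro hd hdx'
      have hdI : In D x d := ⟨hd, hdx, hdx'.symm⟩
      have h1 := hc ⟨d, In_mem_H hdI⟩ hdI
      constructor
      · intro h2
        exact congrArg Subtype.val (h1.1 (Subtype.ext h2))
      · intro h2
        exact congrArg Subtype.val (h1.2 (Subtype.ext h2))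
    constructor
    · rintro ⟨h1, h2, h3⟩
      exact ⟨h1, h2, (key h1 h2).1 h3⟩
    · rintro ⟨h1, h2, h3⟩
      exact ⟨h1, h2, (key h1 h2).2 h3⟩
  · right
    intro hle
    have hco : (Nat.card P).Coprime 2 := by
      obtain ⟨n, hn⟩ := (IsPGroup.iff_card (p := 3)).1 hP3
      rw [hn]
      apply Nat.Coprime.pow_left; decide
    have h1 : P ≤ Cfsg.oddCore ↥(H D x) := Cfsg.Agent.Lib.Cores.le_pPrimeCore hPn hco
    have h2 : a * b ∈ Subgroup.center ↥(H D x) := hle (h1 habP)
    rw [Subgroup.mem_center_iff] at h2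
    apply hab
    have h3 := h2 a
    have h4 : a * a = 1 := Subtype.ext (sq h ha.1)
    rw [← mul_assoc, h4, one_mul] at h3
    have h5 : a * b = b * a := by
      calc a * b = a * (a * b * a) := by rw [← h3]
        _ = (a * a) * b * a := by simp only [mul_assoc]
        _ = b * a := by rw [h4, one_mul]
    exact h5

variable (hτ : ∃ x a b : G, x ∈ D ∧ In D x a ∧ b ∈ V D x a ∧ b ≠ a)

include hτ

/-- if `⟨D_x⟩` is solvable, then different commuting classes do not exist -/
theorem rank_one {x0 : G} (hx0 : x0 ∈ D) (hs : Group.IsSolvable ↥(H D x0)) {x a b : G} (hx : x ∈ D)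
    (ha : In D x a) (hb : In D x b) (hab : Commute a b) : b ∈ V D x a := by
  -- it is enough to find one pair
  suffices hone : ∃ a0, In D x0 a0 ∧ ∀ w, In D x0 w → Commute w a0 → w ∈ V D x0 a0 by
    obtain ⟨a0, ha0, hall⟩ := hone
    obtain ⟨g, hg1, hg2⟩ := PR_perp h hsol hperf hx0 ha0.1 hx ha.1 ha0.2.2 ha0.2.1 ha.2.2 ha.2.1
    have e1 : cc g x0 = x := hg1
    have e2 : cc g a0 = a := hg2
    have h1 : In D x0 (cc g⁻¹ b) := by
      rw [← In_cc h g, cc_cc_inv, e1]; exact hb
    have h2 : Commute (cc g⁻¹ b) a0 := by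
      rw [← cc_commute g, cc_cc_inv, e2]; exact hab.symm
    have h3 := hall _ h1 h2
    rw [← V_cc h g, cc_cc_inv, e1, e2] at h3
    exact h3
  clear hab hb ha hx b a x
  obtain ⟨a0, ha0⟩ := exists_In h hτ hx0
  obtain ⟨w0, hw0, haw0⟩ := exists_nc h hsol hperf hx0 ha0
  have hKn : (Kn h x0).Normal := Kn_normal h x0
  -- classes of elements in the quotient
  have q1 : ∀ {a b : G} (ha : In D x0 a) (hb : In D x0 b),
      (QuotientGroup.mk (⟨a, In_mem_H ha⟩ : H D x0) : H D x0 ⧸ Kn h x0) =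
        QuotientGroup.mk (⟨b, In_mem_H hb⟩ : H D x0) ↔ b ∈ V D x0 a := by
    intro a b ha hb
    rw [QuotientGroup.eq]
    have e : (⟨a, In_mem_H ha⟩ : H D x0)⁻¹ = ⟨a, In_mem_H ha⟩ := Subtype.ext (inv_eq h ha.1)
    rw [e]
    exact ⟨V_of_mem_Kn h ha hb, mem_Kn_of_V h ha⟩
  have hbraid : ∀ {a b : G}, In D x0 a → In D x0 b → ¬ Commute a b → a * b * a = b * a * b :=
    fun ha hb hab => h.braid _ ha.1 _ hb.1 hab
  have q2 : ∀ {a b : G} (ha : In D x0 a) (hb : In D x0 b),
      Commute (QuotientGroup.mk (⟨a, In_mem_H ha⟩ : H D x0) : H D x0 ⧸ Kn h x0)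
        (QuotientGroup.mk (⟨b, In_mem_H hb⟩ : H D x0)) ↔ Commute a b := by
    intro a b ha hb
    constructor
    · intro h1
      by_contra hn
      apply hn
      have h2 : (⟨a, In_mem_H ha⟩ * ⟨b, In_mem_H hb⟩ * ⟨a, In_mem_H ha⟩ : H D x0) =
          ⟨b, In_mem_H hb⟩ * ⟨a, In_mem_H ha⟩ * ⟨b, In_mem_H hb⟩ := Subtype.ext (hbraid ha hb hn)
      have h3 := congrArg (QuotientGroup.mk : H D x0 → H D x0 ⧸ Kn h x0) h2
      rw [QuotientGroup.mk_mul, QuotientGroup.mk_mul, QuotientGroup.mk_mul, QuotientGroup.mk_mul] at h3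
      have h4 : (QuotientGroup.mk (⟨a, In_mem_H ha⟩ : H D x0) : H D x0 ⧸ Kn h x0) =
        QuotientGroup.mk (⟨b, In_mem_H hb⟩ : H D x0) := by
        rw [h1.eq] at h3
        exact mul_left_cancel h3
      have h5 := (q1 ha hb).1 h4
      exact V_comm_V (self_mem_V ha) h5
    · intro h1
      have h2 : (⟨a, In_mem_H ha⟩ * ⟨b, In_mem_H hb⟩ : H D x0) = ⟨b, In_mem_H hb⟩ * ⟨a, In_mem_H ha⟩ :=
        Subtype.ext h1
      show _ * _ = _ * _
      rw [← QuotientGroup.mk_mul, ← QuotientGroup.mk_mul, h2]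
  have hsX : Group.IsSolvable (H D x0 ⧸ Kn h x0) := inferInstance
  have hd := dichotomy hsX (S := (QuotientGroup.mk : H D x0 → H D x0 ⧸ Kn h x0) '' (S1 D x0)) ?_ ?_ ?_ ?_ ?_
  rotate_left
  · rintro _ ⟨a, ha, rfl⟩
    rw [← QuotientGroup.mk_mul]
    have : a * a = 1 := Subtype.ext (sq h ha.1)
    rw [this]; rfl
  · rintro g _ ⟨a, ha, rfl⟩
    obtain ⟨g, rfl⟩ := QuotientGroup.mk_surjective g
    exact ⟨g * a * g⁻¹, (In_cc_H h g.2).2 ha, rfl⟩
  · rintro _ ⟨a, ha, rfl⟩ _ ⟨b, hb, rfl⟩ hab
    have hab' : ¬ Commute (a : G) b := fun h1 => hab ((q2 ha hb).2 h1)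
    have h2 : a * b * a = b * a * b := Subtype.ext (hbraid ha hb hab')
    rw [← QuotientGroup.mk_mul, ← QuotientGroup.mk_mul, ← QuotientGroup.mk_mul, ← QuotientGroup.mk_mul,
      h2]
  · have h1 := MonoidHom.map_closure (QuotientGroup.mk' (Kn h x0)) (S1 D x0)
    rw [closure_S1, ← MonoidHom.range_eq_map, QuotientGroup.range_mk'] at h1
    exact h1.symm
  · exact ⟨_, ⟨⟨a0, In_mem_H ha0⟩, ha0, rfl⟩, _, ⟨⟨w0, In_mem_H hw0⟩, hw0, rfl⟩, fun h1 =>
      haw0 ((q2 ha0 hw0).1 h1)⟩
  rcases hd with ⟨_, ⟨⟨a, haH⟩, ha, rfl⟩, _, ⟨⟨b, hbH⟩, hb, rfl⟩, hne, hab, hc⟩ |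
    ⟨_, ⟨⟨a, haH⟩, ha, rfl⟩, _, ⟨⟨b, hbH⟩, hb, rfl⟩, hab, hc, -⟩
  · exfalso
    change In D x0 a at ha
    change In D x0 b at hb
    apply hne
    apply (q1 ha hb).2
    refine ⟨hb, ?_⟩
    have key : ∀ d, d ∈ D → Commute d x0 → (Commute d a ↔ Commute d b) := by
      intro d hd hdx'
      by_cases hdx : d = x0
      · subst hdx
        exact ⟨fun _ => hb.2.2, fun _ => ha.2.2⟩
      have hdI : In D x0 d := ⟨hd, hdx, hdx'.symm⟩
      have h1 := hc _ ⟨⟨d, In_mem_H hdI⟩, hdI, rfl⟩
      exact ((q2 hdI ha).symm.trans h1).trans (q2 hdI hb)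
    ext d
    rw [mem_T, mem_T]
    constructor
    · rintro ⟨h1, h2, h3⟩
      exact ⟨h1, h2, (key d h1 h2).1 h3⟩
    · rintro ⟨h1, h2, h3⟩
      exact ⟨h1, h2, (key d h1 h2).2 h3⟩
  · change In D x0 a at ha
    change In D x0 b at hb
    have hab' : ¬ Commute a b := fun h1 => hab ((q2 ha hb).2 h1)
    have hcb : ∀ c, In D x0 c → c ∉ V D x0 a → Commute c a → Commute c b := by
      intro c hcI hcV hca
      have h1 := hc _ ⟨⟨c, In_mem_H hcI⟩, hcI, rfl⟩ ?_ ((q2 hcI ha).2 hca)
      · exact (q2 hcI hb).1 h1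
      · intro h2
        exact hcV ((q1 ha hcI).1 h2.symm)
    refine ⟨a, ha, fun w hw hwa => ?_⟩
    by_contra hwV
    have hwb := hcb w hw hwV hwa
    have hwI : In D a w := by
      refine ⟨hw.1, ?_, hwa.symm⟩
      rintro rfl
      exact hwV (self_mem_V ha)
    obtain ⟨u, hu, huw⟩ := exists_ne h hsol hperf hτ ha.1 hwI
    have hwL : w ∈ Ln D a w := V_sub_Ln (self_mem_V hwI)
    have haL : a ∈ Ln D a w := self_mem_Ln ha.1
    have huL : u ∈ Ln D a w := V_sub_Ln hu
    have hua : u ≠ a := hu.1.2.1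
    have hxw : w ∉ Ln D x0 a := fun h1 => hwV (mem_V_of_Ln h hsol hperf hx0 ha h1 hw.2.1)
    have hux : Commute x0 u := huL.2 x0 ⟨hx0, ha.2.2, hw.2.2⟩
    have hux' : u ≠ x0 := by
      rintro rfl
      apply hxw
      rw [← Ln_eq_of_mem h hsol hperf ha.1 hwI huL haL hua] at hwL
      exact hwL
    have huI : In D x0 u := ⟨hu.1.1, hux', hux⟩
    have huV : u ∉ V D x0 a := by
      intro h1
      apply hxw
      have h2 := Ln_eq_of_mem h hsol hperf hx0 ha (V_sub_Ln (self_mem_V ha)) (V_sub_Ln h1) hua.symm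
      have h3 := Ln_eq_of_mem h hsol hperf ha.1 hwI haL huL hua.symm
      rw [← h2, h3]
      exact hwL
    have hub := hcb u huI huV hu.1.2.2.symm
    apply hab'
    exact (all_of_two h hsol hperf ha.1 hwI huL hwL huw hb.1 hub.symm hwb.symm haL).symm

end Main

end Cfsg.Agent.SporadicStructure.FSolReduce
end
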