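import Cfsg.Agent.SporadicStructure.M23Index253
set_option linter.all false

/-!
# A 2-group transitive on the complement of an octad

From the Steiner property, the even intersections of octads and the order 16 of the pointwise
stabiliser of an octad we get `LocalInput`.
-/

set_option autoImplicit false
open scoped Pointwise
open Cfsg MulAction

namespace Cfsg.Agent.SporadicStructure.M23LocalInput

open Cfsg.Agent.SporadicStructure.M23Index253

/-- An element of `M24` fixing five points of an octad fixes the octad. -/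
theorem smul_octad_eq (hS : IsSteinerSystem 5 8 octads) (g : M24) {B : Finset GolayPt}
    (hB : B ∈ octads) (s : Finset GolayPt) (hs : 5 ≤ s.card) (hsB : s ⊆ B)
    (hfix : ∀ p ∈ s, g • p = p) : g • B = B := by
  obtain ⟨t, ht, ht5⟩ := Finset.exists_subset_card_eq hs
  refine (hS.2 t ht5).unique ⟨smul_mem_octads g hB, ?_⟩ ⟨hB, ht.trans hsB⟩
  intro p hp
  rw [← hfix p (ht hp)]
  exact Finset.smul_mem_smul_finset (hsB (ht hp))

theorem exists_octad (hS : IsSteinerSystem 5 8 octads) {o : Finset GolayPt}
    (g : M24) (hint : ∀ b ∈ octads, (b ∩ o).card = 3 → False)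
    (hfix : ∀ p ∈ o, g • p = p) {p q a b c : GolayPt} (hp : p ∉ o) (hq : q ∉ o)
    (hpq : p ≠ q) (hgp : g • p = p) (ha : a ∈ o) (hb : b ∈ o) (hc : c ∈ o)
    (hab : a ≠ b) (hac : a ≠ c) (hbc : b ≠ c) :
    ∃ B ∈ octads, p ∈ B ∧ q ∈ B ∧ a ∈ B ∧ b ∈ B ∧ c ∈ B ∧ g • B = B := by
  classical
  have hpa : p ≠ a := by rintro rfl; exact hp ha
  have hpb : p ≠ b := by rintro rfl; exact hp hb
  have hpc : p ≠ c := by rintro rfl; exact hp hc
  have hqa : q ≠ a := by rintro rfl; exact hq ha
  have hqb : q ≠ b := by rintro rfl; exact hq hb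
  have hqc : q ≠ c := by rintro rfl; exact hq hc
  have h5 : ({p, q, a, b, c} : Finset GolayPt).card = 5 := by
    rw [Finset.card_insert_of_notMem (by simp [*]), Finset.card_insert_of_notMem (by simp [*]),
      Finset.card_insert_of_notMem (by simp [*]), Finset.card_insert_of_notMem (by simp [*]),
      Finset.card_singleton]
  obtain ⟨B, ⟨hB, hsub⟩, -⟩ := hS.2 _ h5
  have hm : ∀ y ∈ ({p, q, a, b, c} : Finset GolayPt), y ∈ B := fun y hy => hsub hy
  have hpB := hm p (by simp)
  have hqB := hm q (by simp)
  have haB := hm a (by simp)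
  have hbB := hm b (by simp)
  have hcB := hm c (by simp)
  refine ⟨B, hB, hpB, hqB, haB, hbB, hcB, ?_⟩
  have h3 : ({a, b, c} : Finset GolayPt) ⊆ B ∩ o := by
    intro y hy
    simp only [Finset.mem_insert, Finset.mem_singleton] at hy
    rcases hy with rfl | rfl | rfl <;> simp [*]
  have h3c : ({a, b, c} : Finset GolayPt).card = 3 := by
    rw [Finset.card_insert_of_notMem (by simp [*]), Finset.card_insert_of_notMem (by simp [*]),
      Finset.card_singleton]
  have h4 : 4 ≤ (B ∩ o).card := by
    have h1 := Finset.card_le_card h3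
    rw [h3c] at h1
    rcases Nat.lt_or_ge 3 (B ∩ o).card with h2 | h2
    · exact h2
    · exact (hint B hB (le_antisymm h2 h1)).elim
  apply smul_octad_eq hS g hB (insert p (B ∩ o))
  · rw [Finset.card_insert_of_notMem (by simp [hp])]
    omega
  · intro y hy
    rw [Finset.mem_insert, Finset.mem_inter] at hy
    rcases hy with rfl | ⟨hy, -⟩
    · exact hpB
    · exact hy
  · intro y hy
    rw [Finset.mem_insert, Finset.mem_inter] at hy
    rcases hy with rfl | ⟨-, hy⟩
    · exact hgp
    · exact hfix y hy

/-- An element of `M24` fixing all points of an octad and a point outside is trivial. -/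
theorem eq_one_of_fix (hS : IsSteinerSystem 5 8 octads)
    (hint : ∀ b ∈ octads, ∀ c ∈ octads, (b ∩ c).card = 3 → False) {o : Finset GolayPt}
    (ho : o ∈ octads) (g : M24) (hfix : ∀ p ∈ o, g • p = p) {p : GolayPt} (hp : p ∉ o)
    (hgp : g • p = p) : g = 1 := by
  classical
  obtain ⟨s, hs, hs3⟩ := Finset.exists_subset_card_eq (s := o) (n := 3) (by rw [ho.2]; norm_num)
  obtain ⟨a, b, c, hab, hac, hbc, rfl⟩ := Finset.card_eq_three.mp hs3
  have ha : a ∈ o := hs (by simp)
  have hb : b ∈ o := hs (by simp)
  have hc : c ∈ o := hs (by simp)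
  have hint' : ∀ b ∈ octads, (b ∩ o).card = 3 → False := fun b hb => hint b hb o ho
  have key : ∀ q : GolayPt, g • q = q := by
    intro q
    by_cases hq : q ∈ o
    · exact hfix q hq
    by_cases hpq : p = q
    · rw [← hpq]; exact hgp
    obtain ⟨B₁, hB₁, hp1, hq1, ha1, hb1, hc1, hg1⟩ :=
      exists_octad hS g hint' hfix hp hq hpq hgp ha hb hc hab hac hbc
    have hne : ¬ o ⊆ B₁ := by
      intro hsub
      have h1 : o = B₁ := Finset.eq_of_subset_of_card_le hsub (by rw [ho.2, hB₁.2])
      rw [h1] at hp
      exact hp hp1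
    obtain ⟨f, hf, hf1⟩ := Finset.not_subset.mp hne
    have haf : a ≠ f := by rintro rfl; exact hf1 ha1
    have hbf : b ≠ f := by rintro rfl; exact hf1 hb1
    obtain ⟨B₂, hB₂, hp2, hq2, ha2, hb2, hf2, hg2⟩ :=
      exists_octad hS g hint' hfix hp hq hpq hgp ha hb hf hab haf hbf
    have hB : B₁ ≠ B₂ := by rintro rfl; exact hf1 hf2
    have h5 := SporadicA.SteinerCount.card_inter_lt hS hB₁ hB₂ hB
    have hpa : p ≠ a := by rintro rfl; exact hp ha
    have hpb : p ≠ b := by rintro rfl; exact hp hb
    have hqa : q ≠ a := by rintro rfl; exact hq ha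
    have hqb : q ≠ b := by rintro rfl; exact hq hb
    have h4 : ({p, q, a, b} : Finset GolayPt).card = 4 := by
      rw [Finset.card_insert_of_notMem (by simp [*]), Finset.card_insert_of_notMem (by simp [*]),
        Finset.card_insert_of_notMem (by simp [*]), Finset.card_singleton]
    have hsub : ({p, q, a, b} : Finset GolayPt) ⊆ B₁ ∩ B₂ := by
      intro y hy
      simp only [Finset.mem_insert, Finset.mem_singleton] at hy
      rcases hy with rfl | rfl | rfl | rfl <;> simp [*]
    have heq : ({p, q, a, b} : Finset GolayPt) = B₁ ∩ B₂ :=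
      Finset.eq_of_subset_of_card_le hsub (by omega)
    have hgq : g • q ∈ B₁ ∩ B₂ := by
      rw [Finset.mem_inter]
      constructor
      · have := Finset.smul_mem_smul_finset (a := g) hq1
        rwa [hg1] at this
      · have := Finset.smul_mem_smul_finset (a := g) hq2
        rwa [hg2] at this
    rw [← heq] at hgq
    simp only [Finset.mem_insert, Finset.mem_singleton] at hgq
    rcases hgq with h | h | h | h
    · exact absurd (MulAction.injective g (h.trans hgp.symm)) (Ne.symm hpq)
    · exact h
    · exact absurd (MulAction.injective g (h.trans (hfix a ha).symm)) hqa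
    · exact absurd (MulAction.injective g (h.trans (hfix b hb).symm)) hqb
  apply Subtype.ext
  apply Equiv.ext
  intro q
  exact key q

theorem localInput (hS : IsSteinerSystem 5 8 octads)
    (hint : ∀ b ∈ octads, ∀ c ∈ octads, (b ∩ c).card = 3 → False)
    (h16 : ∀ o ∈ octads, Nat.card ↥(M24 ⊓ fixingSubgroup (Equiv.Perm GolayPt)
      (o : Set GolayPt)) = 16) (x : GolayPt) : LocalInput x := by
  classical
  -- an octad through `x`
  obtain ⟨o, ho, hx⟩ : ∃ o ∈ octads, x ∈ o := by
    obtain ⟨s, hs, -, hs5⟩ := Finset.exists_subsuperset_card_eq (s := {x})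
      (t := (Finset.univ : Finset GolayPt)) (n := 5) (by simp) (by simp) (by simp)
    obtain ⟨o, ⟨ho, hso⟩, -⟩ := hS.2 s hs5
    exact ⟨o, ho, hso (hs (by simp))⟩
  refine ⟨o, ho, hx, fixingSubgroup (stabilizer M24 x) (o : Set GolayPt), ?_, ?_⟩
  all_goals
    have hcard : Nat.card (fixingSubgroup (stabilizer M24 x) (o : Set GolayPt)) = 16 := by
      rw [← h16 o ho]
      refine Nat.card_congr
        { toFun := fun r => ⟨((r : stabilizer M24 x) : M24), (r : stabilizer M24 x).1.2, ?_⟩
          invFun := fun r => ⟨⟨⟨r.1, r.2.1⟩, ?_⟩, ?_⟩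
          left_inv := fun r => rfl
          right_inv := fun r => rfl }
      · intro p
        exact r.2 p
      · exact r.2.2 ⟨x, hx⟩
      · intro p
        exact r.2.2 p
  · exact IsPGroup.of_card (n := 4) (by rw [hcard]; norm_num)
  · intro p hp
    have hinj : Function.Injective
        (fun r : fixingSubgroup (stabilizer M24 x) (o : Set GolayPt) =>
          (⟨r • p, by
            intro h
            apply hp
            have h2 : (r : stabilizer M24 x)⁻¹ • (r : stabilizer M24 x) • p =
              (r : stabilizer M24 x) • p := by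
              have := (fixingSubgroup (stabilizer M24 x) (o : Set GolayPt)).inv_mem r.2
              exact this ⟨_, h⟩
            rw [inv_smul_smul] at h2
            rw [h2]
            exact h⟩ : {q : GolayPt // q ∉ o})) := by
      intro r r' hrr
      have h1 : r • p = r' • p := congrArg Subtype.val hrr
      have h2 : (r'⁻¹ * r) • p = p := by rw [mul_smul, h1, inv_smul_smul]
      have h3 := eq_one_of_fix hS hint ho
        (((r'⁻¹ * r : fixingSubgroup (stabilizer M24 x) (o : Set GolayPt)) :
          stabilizer M24 x) : M24) (fun q hq => (r'⁻¹ * r).2 ⟨q, hq⟩) hp h2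
      have h4 : r'⁻¹ * r = 1 := by
        apply Subtype.ext
        apply Subtype.ext
        exact h3
      exact (inv_mul_eq_one.mp h4).symm
    have hsurj := ((Nat.bijective_iff_injective_and_card _).mpr ⟨hinj, by
      rw [hcard, Nat.card_eq_fintype_card, Fintype.card_subtype_compl, Fintype.card_coe, ho.2]
      simp⟩).2
    intro q hq
    obtain ⟨r, hr⟩ := hsurj ⟨q, hq⟩
    exact ⟨r.1, r.2, congrArg Subtype.val hr⟩

end Cfsg.Agent.SporadicStructure.M23LocalInput
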