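import Mathlib
import Cfsg.Prelude.Def_SporadicB
set_option linter.all false

/-!
# Sylow arguments for commuting sets of 3-transpositions

A commuting set `E` of 3-transpositions of maximum size is `S ∩ D` for every Sylow 2-subgroup `S` containing it,
and any two of them inside a subgroup `C` are conjugate in `C`.
-/

set_option autoImplicit false

namespace Cfsg.Agent.SporadicStructure.ThreeTransSylow

open Cfsg

variable {G : Type*} [Group G]

theorem mul_self_of_orderOf_two {d : G} (h : orderOf d = 2) : d * d = 1 := by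
  rw [← sq, ← h, pow_orderOf_eq_one]

theorem commute_of_sq {a b : G} (ha : a * a = 1) (hb : b * b = 1) (h : (a * b) ^ 2 = 1) :
    Commute a b := by
  have h1 : a * b * (a * b) = 1 := by rw [← sq, h]
  have ha' : a⁻¹ = a := inv_eq_of_mul_eq_one_left ha
  have hb' : b⁻¹ = b := inv_eq_of_mul_eq_one_left hb
  have h2 : a * b = (a * b)⁻¹ := eq_inv_of_mul_eq_one_left h1
  rw [mul_inv_rev, ha', hb'] at h2
  exact h2

theorem closure_mul_self {E : Set G} (hinv : ∀ e ∈ E, e * e = 1)
    (hc : ∀ a ∈ E, ∀ b ∈ E, Commute a b) : ∀ x ∈ Subgroup.closure E, x * x = 1 := by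
  have hcomm : ∀ x ∈ Subgroup.closure E, ∀ y ∈ Subgroup.closure E, Commute x y := by
    intro x hx y hy
    have h1 : Subgroup.closure E ≤ Subgroup.centralizer E := by
      rw [Subgroup.closure_le]
      intro a ha
      rw [SetLike.mem_coe, Subgroup.mem_centralizer_iff]
      intro b hb
      exact hc b hb a ha
    have h2 : E ⊆ (Subgroup.centralizer (Subgroup.closure E : Set G) : Set G) := by
      intro a ha
      rw [SetLike.mem_coe, Subgroup.mem_centralizer_iff]
      intro z hz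
      have := Subgroup.mem_centralizer_iff.1 (h1 hz) a ha
      exact this.symm
    have h3 : Subgroup.closure E ≤ Subgroup.centralizer (Subgroup.closure E : Set G) := by
      rw [Subgroup.closure_le]; exact h2
    exact (Subgroup.mem_centralizer_iff.1 (h3 hx) y hy).symm
  intro x hx
  induction hx using Subgroup.closure_induction with
  | mem x hx => exact hinv x hx
  | one => exact one_mul 1
  | mul x y hx hy ihx ihy =>
    have h := hcomm x hx y hy
    calc x * y * (x * y) = x * (y * x) * y := by group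
      _ = x * (x * y) * y := by rw [h.eq]
      _ = (x * x) * (y * y) := by group
      _ = 1 := by rw [ihx, ihy, one_mul]
  | inv x hx ih =>
    have : x⁻¹ = x := inv_eq_of_mul_eq_one_left ih
    rw [this, ih]

theorem isPGroup_closure {E : Set G} (hinv : ∀ e ∈ E, e * e = 1)
    (hc : ∀ a ∈ E, ∀ b ∈ E, Commute a b) : IsPGroup 2 (Subgroup.closure E) := by
  rintro ⟨x, hx⟩
  refine ⟨1, ?_⟩
  rw [pow_one]
  apply Subtype.ext
  show x ^ 2 = 1
  rw [sq]
  exact closure_mul_self hinv hc x hx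

/-- the members of a set of 3-transpositions in a 2-subgroup commute -/
theorem commute_of_mem_two_group {D : Set G} (hD : IsThreeTranspositionSet D) {T : Subgroup G}
    (hT : IsPGroup 2 T) {a b : G} (ha : a ∈ D) (hb : b ∈ D) (haT : a ∈ T) (hbT : b ∈ T) :
    Commute a b := by
  have ha2 := mul_self_of_orderOf_two (hD.1 a ha)
  have hb2 := mul_self_of_orderOf_two (hD.1 b hb)
  rcases hD.2 a ha b hb with h | h
  · exact commute_of_sq ha2 hb2 h
  · obtain ⟨k, hk⟩ := hT ⟨a * b, mul_mem haT hbT⟩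
    have hk' : (a * b) ^ 2 ^ k = 1 := congrArg Subtype.val hk
    have h1 : orderOf (a * b) ∣ 3 := orderOf_dvd_of_pow_eq_one h
    have h2 : orderOf (a * b) ∣ 2 ^ k := orderOf_dvd_of_pow_eq_one hk'
    have h3 : Nat.Coprime 3 (2 ^ k) := Nat.Coprime.pow_right _ (by norm_num)
    have h4 : orderOf (a * b) = 1 := Nat.dvd_one.1 (h3 ▸ Nat.dvd_gcd h1 h2)
    have h5 : a * b = 1 := orderOf_eq_one_iff.1 h4
    apply commute_of_sq ha2 hb2
    rw [h5, one_pow]

theorem set_eq_of_sylow [Finite G] {D : Set G} (hD : IsThreeTranspositionSet D) {E : Set G} (hE : E ⊆ D)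
    (hmax : ∀ E' : Set G, E' ⊆ D → (∀ a ∈ E', ∀ b ∈ E', Commute a b) → E'.ncard ≤ E.ncard)
    {T : Subgroup G} (hT : IsPGroup 2 T) (hET : E ⊆ T) : E = (T : Set G) ∩ D := by
  apply Set.eq_of_subset_of_ncard_le (Set.subset_inter hET hE) _ (Set.toFinite _)
  apply hmax _ Set.inter_subset_right
  rintro a ⟨haT, ha⟩ b ⟨hbT, hb⟩
  exact commute_of_mem_two_group hD hT ha hb haT hbT

/-- two commuting sets of 3-transpositions of maximum size inside a subgroup `C` are conjugate in `C` -/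
theorem exists_conj [Finite G] {D : Set G} (hD : IsThreeTranspositionSet D)
    (hDc : ∀ g : G, ∀ d ∈ D, g * d * g⁻¹ ∈ D) {E E' : Set G} (hE : E ⊆ D) (hE' : E' ⊆ D)
    (hc : ∀ a ∈ E, ∀ b ∈ E, Commute a b) (hc' : ∀ a ∈ E', ∀ b ∈ E', Commute a b)
    (hmax : ∀ E' : Set G, E' ⊆ D → (∀ a ∈ E', ∀ b ∈ E', Commute a b) → E'.ncard ≤ E.ncard)
    (hcard : E'.ncard = E.ncard) (C : Subgroup G) (hEC : E ⊆ C) (hEC' : E' ⊆ C) :
    ∃ h ∈ C, ∀ x, x ∈ E ↔ h * x * h⁻¹ ∈ E' := by
  have : Fact (Nat.Prime 2) := ⟨Nat.prime_two⟩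
  have key : ∀ F : Set G, F ⊆ D → (∀ a ∈ F, ∀ b ∈ F, Commute a b) → F.ncard = E.ncard → F ⊆ C →
      ∃ S : Sylow 2 C, F = (((S : Subgroup C).map C.subtype : Subgroup G) : Set G) ∩ D := by
    intro F hF hcF hcardF hFC
    have h1 : IsPGroup 2 (Subgroup.closure F) :=
      isPGroup_closure (fun e he => mul_self_of_orderOf_two (hD.1 e (hF he))) hcF
    have h2 : Subgroup.closure F ≤ C := (Subgroup.closure_le C).2 hFC
    have h3 : IsPGroup 2 ((Subgroup.closure F).subgroupOf C) :=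
      h1.comap_of_injective C.subtype C.subtype_injective
    obtain ⟨S, hS⟩ := h3.exists_le_sylow
    refine ⟨S, ?_⟩
    have h4 : IsPGroup 2 ((S : Subgroup C).map C.subtype : Subgroup G) := S.isPGroup'.map C.subtype
    apply set_eq_of_sylow hD hF (fun E'' h h' => (hmax E'' h h').trans hcardF.ge) h4
    intro x hx
    have hxC : x ∈ C := hFC hx
    rw [SetLike.mem_coe, Subgroup.mem_map]
    exact ⟨⟨x, hxC⟩, hS (Subgroup.mem_subgroupOf.2 (Subgroup.subset_closure hx)), rfl⟩
  obtain ⟨S, hS⟩ := key E hE hc rfl hEC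
  obtain ⟨S', hS'⟩ := key E' hE' hc' hcard hEC'
  obtain ⟨h, hh⟩ := MulAction.exists_smul_eq C S S'
  refine ⟨h, h.2, ?_⟩
  intro x
  have hmem : ∀ x : G, x ∈ ((S : Subgroup C).map C.subtype : Subgroup G) ↔
      (h : G) * x * (h : G)⁻¹ ∈ ((S' : Subgroup C).map C.subtype : Subgroup G) := by
    intro x
    rw [← hh]
    constructor
    · rintro ⟨y, hy, rfl⟩
      refine ⟨h * y * h⁻¹, ?_, rfl⟩
      exact ⟨y, hy, rfl⟩
    · rintro ⟨y, hy, hyx⟩
      obtain ⟨z, hz, hzy⟩ := hy
      refine ⟨z, hz, ?_⟩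
      have h1 : (h : G) * (z : G) * (h : G)⁻¹ = (h : G) * x * (h : G)⁻¹ := by
        rw [← hyx, ← hzy]
        rfl
      exact mul_left_cancel (mul_right_cancel h1)
  have hmemD : x ∈ D ↔ (h : G) * x * (h : G)⁻¹ ∈ D := by
    constructor
    · exact hDc _ x
    · intro hx
      have := hDc (h : G)⁻¹ _ hx
      rwa [show (h : G)⁻¹ * ((h : G) * x * (h : G)⁻¹) * (h : G)⁻¹⁻¹ = x by group] at this
  rw [hS, hS']
  show (x ∈ _ ∧ x ∈ D) ↔ (_ ∈ _ ∧ _ ∈ D)
  rw [← hmemD]
  exact and_congr_left fun _ => hmem x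

end Cfsg.Agent.SporadicStructure.ThreeTransSylow
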