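import Mathlib
set_option linter.all false

/-!
Kernel-fast lower bounds for the order of a permutation group on `Fin m` generated by explicit permutations.

Permutations are given by packed tables: `look w t x = (t >>> (w * x)) % 2 ^ w` is the image of `x`.
The stabiliser chain is given by explicit words in the generators; orbits are computed as bit masks.
-/

set_option autoImplicit false

namespace Cfsg.Agent.SporadicStructure.PermChain

/-- One step of a stabiliser chain. -/
theorem card_step {X : Type*} [Finite X] (K K' : Subgroup (Equiv.Perm X)) (b : X)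
    (hK' : K' ≤ K) (hb : ∀ g ∈ K', g b = b) (O : Set X)
    (hO : ∀ y ∈ O, ∃ g ∈ K, g b = y) : O.ncard * Nat.card K' ≤ Nat.card K := by
  classical
  have h1 : Nat.card (MulAction.orbit K b) * Nat.card (MulAction.stabilizer K b) = Nat.card K := by
    have := Nat.card_congr (MulAction.orbitProdStabilizerEquivGroup K b)
    rw [Nat.card_prod] at this
    exact this
  have h2 : O ⊆ MulAction.orbit K b := by
    intro y hy
    obtain ⟨g, hg, rfl⟩ := hO y hy
    exact ⟨⟨g, hg⟩, rfl⟩
  have h3 : O.ncard ≤ Nat.card (MulAction.orbit K b) := by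
    rw [Nat.card_coe_set_eq]
    exact Set.ncard_le_ncard h2 (Set.toFinite _)
  have h4 : Nat.card K' ≤ Nat.card (MulAction.stabilizer K b) := by
    let f : K' → MulAction.stabilizer K b := fun g =>
      ⟨⟨g.1, hK' g.2⟩, hb g.1 g.2⟩
    apply Nat.card_le_card_of_injective f
    intro x y hxy
    have h5 : ((f x : K) : Equiv.Perm X) = ((f y : K) : Equiv.Perm X) :=
      congrArg (fun z : MulAction.stabilizer K b => ((z : K) : Equiv.Perm X)) hxy
    exact Subtype.ext h5
  calc O.ncard * Nat.card K' ≤ Nat.card (MulAction.orbit K b) *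
        Nat.card (MulAction.stabilizer K b) := Nat.mul_le_mul h3 h4
    _ = Nat.card K := h1

/-- Entry number `x` (of width `w` bits) of the packed table `t`. -/
def look (w t x : ℕ) : ℕ := (t >>> (w * x)) % 2 ^ w

/-- Structural recursion: `p` holds for all numbers below `n`. -/
def allBelow (p : ℕ → Bool) : ℕ → Bool
  | 0 => true
  | n + 1 => p n && allBelow p n

theorem allBelow_spec (p : ℕ → Bool) : ∀ n, allBelow p n = true → ∀ x, x < n → p x = true
  | 0, _, x, hx => absurd hx (Nat.not_lt_zero x)
  | n + 1, h, x, hx => by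
    rw [allBelow, Bool.and_eq_true] at h
    rcases Nat.lt_succ_iff_lt_or_eq.1 hx with h1 | h1
    · exact allBelow_spec p n h.2 x h1
    · rw [h1]; exact h.1

/-- The tables `t` and `t'` describe mutually inverse permutations of the numbers below `m`. -/
def permCheck (w m t t' : ℕ) : Bool :=
  allBelow (fun x => Nat.blt (look w t x) m && Nat.blt (look w t' x) m &&
    Nat.beq (look w t' (look w t x)) x && Nat.beq (look w t (look w t' x)) x) m

theorem permCheck_spec {w m t t' : ℕ} (h : permCheck w m t t' = true) (x : ℕ) (hx : x < m) :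
    look w t x < m ∧ look w t' x < m ∧ look w t' (look w t x) = x ∧ look w t (look w t' x) = x := by
  have h1 := allBelow_spec _ _ h x hx
  simp only [Bool.and_eq_true] at h1
  obtain ⟨⟨⟨ha, hb⟩, hc⟩, hd⟩ := h1
  refine ⟨?_, ?_, Nat.eq_of_beq_eq_true hc, Nat.eq_of_beq_eq_true hd⟩
  · simpa [Nat.blt] using ha
  · simpa [Nat.blt] using hb

/-- The permutation of `Fin m` given by the tables `t` (images) and `t'` (preimages). -/
def mkPerm (w m t t' : ℕ) (h : permCheck w m t t' = true) : Equiv.Perm (Fin m) where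
  toFun x := ⟨look w t x, (permCheck_spec h x x.2).1⟩
  invFun x := ⟨look w t' x, (permCheck_spec h x x.2).2.1⟩
  left_inv x := Fin.ext (permCheck_spec h x x.2).2.2.1
  right_inv x := Fin.ext (permCheck_spec h x x.2).2.2.2

theorem mkPerm_val (w m t t' : ℕ) (h : permCheck w m t t' = true) (x : Fin m) :
    ((mkPerm w m t t' h x : Fin m) : ℕ) = look w t x := rfl

/-- Image of `x` under the word `l` in the tables `ts` (the last letter acts first). -/
def evalWord (w : ℕ) (ts : List ℕ) : List ℕ → ℕ → ℕ
  | [], x => x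
  | s :: l, x => look w (ts.getD s 0) (evalWord w ts l x)

theorem evalWord_spec {m w : ℕ} (ts : List ℕ) (σ : ℕ → Equiv.Perm (Fin m)) (l : List ℕ)
    (hσ : ∀ s ∈ l, ∀ x : Fin m, (σ s x : ℕ) = look w (ts.getD s 0) x) (x : Fin m) :
    ((l.map σ).prod x : ℕ) = evalWord w ts l x := by
  induction l with
  | nil => rfl
  | cons s l ih =>
    rw [List.map_cons, List.prod_cons, Equiv.Perm.mul_apply,
      hσ s List.mem_cons_self, ih fun s hs => hσ s (List.mem_cons_of_mem _ hs)]
    rfl

/-- The table `t` describes the word `l` in the tables `ts`. -/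
def wordCheck (w m : ℕ) (ts l : List ℕ) (t : ℕ) : Bool :=
  allBelow (fun x => Nat.beq (evalWord w ts l x) (look w t x)) m

theorem wordCheck_spec {w m : ℕ} {ts l : List ℕ} {t : ℕ} (h : wordCheck w m ts l t = true)
    (σ : ℕ → Equiv.Perm (Fin m))
    (hσ : ∀ s ∈ l, ∀ x : Fin m, (σ s x : ℕ) = look w (ts.getD s 0) x) (x : Fin m) :
    ((l.map σ).prod x : ℕ) = look w t x := by
  rw [evalWord_spec ts σ l hσ]
  exact Nat.eq_of_beq_eq_true (allBelow_spec _ _ h x x.2)

/-- `force x k = k x`, but the kernel evaluates `x` to a numeral before going on. -/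
def force {α : Type} (x : ℕ) (k : ℕ → α) : α :=
  match x with
  | 0 => k 0
  | n + 1 => k (n + 1)

theorem force_eq {α : Type} (x : ℕ) (k : ℕ → α) : force x k = k x := by
  cases x <;> rfl

/-- Add to the mask the images of `x` under the tables in the list. -/
def growPt (w x : ℕ) : List ℕ → ℕ → ℕ
  | [], mask => mask
  | t :: ts, mask => growPt w x ts (Nat.lor mask (Nat.shiftLeft 1 (look w t x)))

/-- One pass over all points below `n`. -/
def growPass (w : ℕ) (ts : List ℕ) : ℕ → ℕ → ℕ
  | 0, mask => mask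
  | n + 1, mask =>
    force (bif Nat.testBit mask n then growPt w n ts mask else mask) fun mask' =>
      growPass w ts n mask'

/-- `d` passes. -/
def grow (w m : ℕ) (ts : List ℕ) : ℕ → ℕ → ℕ
  | 0, mask => mask
  | d + 1, mask => force (growPass w ts m mask) fun mask' => grow w m ts d mask'

section sound

variable {m w : ℕ} (K : Subgroup (Equiv.Perm (Fin m))) (b : Fin m)

/-- All points of the mask lie in the orbit of `b`. -/
def MaskIn (mask : ℕ) : Prop :=
  ∀ y : ℕ, Nat.testBit mask y = true → ∃ hy : y < m, ∃ g ∈ K, g b = ⟨y, hy⟩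

theorem maskIn_single : MaskIn K b (Nat.shiftLeft 1 b) := by
  intro y hy
  have h1 : y = b := by
    have : Nat.testBit (1 <<< (b : ℕ)) y = true := hy
    rw [Nat.testBit_shiftLeft, Bool.and_eq_true, decide_eq_true_eq] at this
    obtain ⟨h2, h3⟩ := this
    by_contra hne
    have h4 : y - b ≠ 0 := by omega
    rw [Nat.testBit_one_eq_true_iff_self_eq_zero] at h3
    exact h4 h3
  subst h1
  exact ⟨b.2, 1, K.one_mem, rfl⟩

theorem maskIn_growPt (x : Fin m) (hx : ∃ g ∈ K, g b = x) : ∀ (ts : List ℕ)
    (_ : ∀ t ∈ ts, ∃ τ ∈ K, ∀ x : Fin m, (τ x : ℕ) = look w t x) (mask : ℕ),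
    MaskIn K b mask → MaskIn K b (growPt w x ts mask)
  | [], _, _, h => h
  | t :: ts, hts, mask, h => by
    refine maskIn_growPt x hx ts (fun t ht => hts t (List.mem_cons_of_mem _ ht)) _ ?_
    intro y hy
    have hy' : Nat.testBit (mask ||| 1 <<< (look w t x)) y = true := hy
    rw [Nat.testBit_or, Bool.or_eq_true] at hy'
    rcases hy' with h1 | h1
    · exact h y h1
    · rw [Nat.testBit_shiftLeft, Bool.and_eq_true, decide_eq_true_eq] at h1
      obtain ⟨h2, h3⟩ := h1
      rw [Nat.testBit_one_eq_true_iff_self_eq_zero] at h3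
      obtain ⟨τ, hτ, hτx⟩ := hts t List.mem_cons_self
      obtain ⟨g, hg, hgx⟩ := hx
      have h4 : y = (τ x : ℕ) := by rw [hτx]; omega
      subst h4
      exact ⟨(τ x).2, τ * g, K.mul_mem hτ hg, by
        rw [Equiv.Perm.mul_apply, hgx]⟩

theorem maskIn_growPass (ts : List ℕ)
    (hts : ∀ t ∈ ts, ∃ τ ∈ K, ∀ x : Fin m, (τ x : ℕ) = look w t x) : ∀ (n : ℕ) (mask : ℕ),
    MaskIn K b mask → MaskIn K b (growPass w ts n mask)
  | 0, _, h => h
  | n + 1, mask, h => by
    rw [growPass, force_eq]
    refine maskIn_growPass ts hts n _ ?_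
    cases hb : Nat.testBit mask n with
    | false => exact h
    | true =>
      obtain ⟨hn, g, hg, hgn⟩ := h n hb
      exact maskIn_growPt K b ⟨n, hn⟩ ⟨g, hg, hgn⟩ ts hts mask h

theorem maskIn_grow (ts : List ℕ)
    (hts : ∀ t ∈ ts, ∃ τ ∈ K, ∀ x : Fin m, (τ x : ℕ) = look w t x) : ∀ (d : ℕ) (mask : ℕ),
    MaskIn K b mask → MaskIn K b (grow w m ts d mask)
  | 0, _, h => h
  | d + 1, mask, h => by
    rw [grow, force_eq]
    exact maskIn_grow ts hts d _ (maskIn_growPass K b ts hts m mask h)

/-- A stabiliser chain step with computed orbit: `mask` is (contained in) the orbit of `b` under the tables `ts`,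
each of which describes an element of `K`; it has `n` points. -/
theorem card_step_mask (K' : Subgroup (Equiv.Perm (Fin m))) (hK' : K' ≤ K)
    (hb : ∀ g ∈ K', g b = b) (ts : List ℕ)
    (hts : ∀ t ∈ ts, ∃ τ ∈ K, ∀ x : Fin m, (τ x : ℕ) = look w t x) (d mask n : ℕ)
    (hmask : Nat.beq (grow w m ts d (Nat.shiftLeft 1 b)) mask = true)
    (hn : ((Finset.range m).filter fun y => Nat.testBit mask y = true).card = n) :
    n * Nat.card K' ≤ Nat.card K := by
  classical
  have h1 : MaskIn K b mask := by
    rw [← Nat.eq_of_beq_eq_true hmask]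
    exact maskIn_grow K b ts hts d _ (maskIn_single K b)
  set O : Set (Fin m) := {y | Nat.testBit mask y = true} with hO
  have h2 := card_step K K' b hK' hb O (by
    intro y hy
    obtain ⟨hy', g, hg, hgy⟩ := h1 y hy
    exact ⟨g, hg, hgy⟩)
  have h3 : O.ncard = n := by
    rw [← hn, ← Set.ncard_coe_finset, ← Set.ncard_image_of_injective O Fin.val_injective]
    congr 1
    ext y
    simp only [hO, Set.mem_image, Set.mem_ofPred_eq, Finset.coe_filter, Finset.mem_range]
    constructor
    · rintro ⟨x, hx, rfl⟩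
      exact ⟨x.2, hx⟩
    · rintro ⟨hy, h⟩
      exact ⟨⟨y, hy⟩, h, rfl⟩
  rwa [h3] at h2

end sound

/-- Elements generating `K'` fix `b`, hence so does `K'`. -/
theorem fixes_of_closure {X : Type*} (S : Set (Equiv.Perm X)) (b : X) (h : ∀ g ∈ S, g b = b) :
    ∀ g ∈ Subgroup.closure S, g b = b := by
  intro g hg
  have : Subgroup.closure S ≤ MulAction.stabilizer (Equiv.Perm X) b := by
    rw [Subgroup.closure_le]
    intro x hx
    exact h x hx
  exact this hg

end Cfsg.Agent.SporadicStructure.PermChain
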