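import Cfsg.Agent.SporadicA.GolayPerm
import Cfsg.Prelude.Def_SporadicCombinatorics
import Mathlib
set_option linter.all false

-- part: SporadicStructure/TrioCert
section
/-!
# Kernel-checked orbit certificates for trios of the length-24 code

A trio is written `tri a b c = {fin a, fin b, fin c}` with masks `a > b > c`.  A certificate is one natural number
with 80 bits per trio of the orbit: masks `a` and `b`, the index of the parent trio, the generator leading from the
parent, and the distance from the root.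
-/

set_option autoImplicit false

namespace Cfsg.Agent.SporadicStructure.TrioCert

open Cfsg Cfsg.Agent.SporadicA.GolayBase Cfsg.Agent.SporadicA.GolayPerm
open scoped Pointwise

/-- Three octads given by masks. -/
def tri (a b c : ℕ) : Finset (Finset GolayPt) := {fin a, fin b, fin c}

theorem smul_tri {P : ℕ} (hP : isPerm P = true) (a b c : ℕ) :
    permOf P hP • tri a b c = tri (pimg P a) (pimg P b) (pimg P c) := by
  unfold tri
  rw [Finset.smul_finset_insert, Finset.smul_finset_insert, Finset.smul_finset_singleton,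
    smul_fin, smul_fin, smul_fin]

/-- The mask of the complement of the union of two disjoint masks. -/
def third (a b : ℕ) : ℕ := Nat.xor (Nat.xor a b) 16777215

/-- Whether `x, y, z` is a rearrangement of `a, b, c`. -/
def same3 (x y z a b c : ℕ) : Bool :=
  (Nat.beq x a && ((Nat.beq y b && Nat.beq z c) || (Nat.beq y c && Nat.beq z b))) ||
  (Nat.beq x b && ((Nat.beq y a && Nat.beq z c) || (Nat.beq y c && Nat.beq z a))) ||
  (Nat.beq x c && ((Nat.beq y a && Nat.beq z b) || (Nat.beq y b && Nat.beq z a)))

theorem tri_eq_of_same3 {x y z a b c : ℕ} (h : same3 x y z a b c = true) :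
    tri x y z = tri a b c := by
  unfold same3 at h
  simp only [Bool.or_eq_true, Bool.and_eq_true, Nat.beq_eq] at h
  unfold tri
  rcases h with (⟨rfl, ⟨rfl, rfl⟩ | ⟨rfl, rfl⟩⟩ | ⟨rfl, ⟨rfl, rfl⟩ | ⟨rfl, rfl⟩⟩) |
    ⟨rfl, ⟨rfl, rfl⟩ | ⟨rfl, rfl⟩⟩
  · rfl
  · rw [Finset.pair_comm]
  · rw [Finset.insert_comm]
  · rw [Finset.pair_comm, Finset.insert_comm]
  · rw [Finset.insert_comm, Finset.pair_comm]
  · ext s
    simp only [Finset.mem_insert, Finset.mem_singleton]
    tauto

/-- Decreasing masks below `2 ^ 24` are determined by the family of their point sets. -/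
theorem tri_injective {a b c a' b' c' : ℕ} (ha : a < 2 ^ 24) (hb : b < a) (hc : c < b)
    (ha' : a' < 2 ^ 24) (hb' : b' < a') (hc' : c' < b') (h : tri a b c = tri a' b' c') :
    a = a' ∧ b = b' := by
  have key : ∀ x y, x < 2 ^ 24 → y < 2 ^ 24 → (fin x = fin y ↔ x = y) := by
    intro x y hx hy
    exact ⟨fun h => fin_injective hx hy h, fun h => by rw [h]⟩
  have hmem : ∀ s, s ∈ tri a b c ↔ s ∈ tri a' b' c' := fun s => by rw [h]
  unfold tri at hmem
  simp only [Finset.mem_insert, Finset.mem_singleton] at hmem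
  have h1 := (hmem (fin a)).1 (Or.inl rfl)
  have h2 := (hmem (fin b)).1 (Or.inr (Or.inl rfl))
  have h3 := (hmem (fin c)).1 (Or.inr (Or.inr rfl))
  rw [key _ _ (by omega) (by omega), key _ _ (by omega) (by omega),
    key _ _ (by omega) (by omega)] at h1 h2 h3
  omega

/-- Entry `i` of a packed certificate. -/
def ent (C i : ℕ) : ℕ := Nat.mod (Nat.shiftRight C (Nat.mul 80 i)) 1208925819614629174706176

/-- First mask. -/
def fa (e : ℕ) : ℕ := Nat.shiftRight e 56
/-- Second mask. -/
def fb (e : ℕ) : ℕ := Nat.mod (Nat.shiftRight e 32) 16777216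
/-- Third mask. -/
def fc (e : ℕ) : ℕ := third (fa e) (fb e)
/-- Parent index. -/
def fp (e : ℕ) : ℕ := Nat.mod (Nat.shiftRight e 16) 65536
/-- Generator index. -/
def fg (e : ℕ) : ℕ := Nat.mod (Nat.shiftRight e 8) 256
/-- Distance from the root. -/
def fd (e : ℕ) : ℕ := Nat.mod e 256

/-- The trio of an entry. -/
def triE (e : ℕ) : Finset (Finset GolayPt) := tri (fa e) (fb e) (fc e)

/-- Ordering checks of an entry. -/
def ordOk (e : ℕ) : Bool :=
  Nat.blt (fa e) 16777216 && Nat.blt (fb e) (fa e) && Nat.blt (fc e) (fb e)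

/-- Check that entry `e` arises from entry `e'` by the generator `P`. -/
def stepOk (P e e' : ℕ) : Bool :=
  same3 (pimg P (fa e')) (pimg P (fb e')) (pimg P (fc e')) (fa e) (fb e) (fc e)

/-- Check of one entry. -/
def entOk (C n P0 P1 r i : ℕ) : Bool :=
  ordOk (ent C i) &&
  (Nat.ble n (Nat.add i 1) ||
    Nat.blt (Nat.shiftRight (ent C i) 32) (Nat.shiftRight (ent C (Nat.add i 1)) 32)) &&
  (Nat.beq i r ||
    (Nat.blt (fp (ent C i)) n && Nat.blt (fd (ent C (fp (ent C i)))) (fd (ent C i)) &&
      stepOk (cond (Nat.beq (fg (ent C i)) 0) P0 P1) (ent C i) (ent C (fp (ent C i)))))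

/-- Check of the entries with index in `[s, s + 2 ^ k)` that are less than `n`. -/
def allR (C n P0 P1 r : ℕ) : ℕ → ℕ → Bool
  | 0, s => Nat.ble n s || entOk C n P0 P1 r s
  | k + 1, s => allR C n P0 P1 r k s && allR C n P0 P1 r k (Nat.add s (Nat.pow 2 k))

theorem allR_spec (C n P0 P1 r k : ℕ) : ∀ s, allR C n P0 P1 r k s = true →
    ∀ i, s ≤ i → i < s + 2 ^ k → i < n → entOk C n P0 P1 r i = true := by
  induction k with
  | zero =>
    intro s h i h1 h2 h3
    have : i = s := by omega
    subst this
    have h' : (Nat.ble n i || entOk C n P0 P1 r i) = true := h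
    rw [Bool.or_eq_true] at h'
    rcases h' with h' | h'
    · have := Nat.le_of_ble_eq_true h'
      omega
    · exact h'
  | succ k ih =>
    intro s h i h1 h2 h3
    have h' : (allR C n P0 P1 r k s && allR C n P0 P1 r k (Nat.add s (Nat.pow 2 k))) = true := h
    rw [Bool.and_eq_true] at h'
    by_cases hi : i < s + 2 ^ k
    · exact ih s h'.1 i h1 hi h3
    · refine ih _ h'.2 i ?_ ?_ h3
      · exact not_lt.1 hi
      · rw [pow_succ] at h2
        change i < s + 2 ^ k + 2 ^ k
        omega

/-- The data checked by a certificate: all trios are in one orbit, and they are distinct. -/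
theorem cert_spec {C n P0 P1 r k : ℕ} (hcheck : allR C n P0 P1 r k 0 = true) (hn : n ≤ 2 ^ k)
    (H : Subgroup (Equiv.Perm GolayPt)) (hP0 : isPerm P0 = true) (hP1 : isPerm P1 = true)
    (hH0 : permOf P0 hP0 ∈ H) (hH1 : permOf P1 hP1 ∈ H) :
    (∀ i, i < n → ∃ g ∈ H, g • triE (ent C r) = triE (ent C i)) ∧
      (∀ i j, i < n → j < n → triE (ent C i) = triE (ent C j) → i = j) := by
  have hall : ∀ i, i < n → entOk C n P0 P1 r i = true := fun i hi =>
    allR_spec C n P0 P1 r k 0 hcheck i (Nat.zero_le _) (by omega) hi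
  constructor
  · have key : ∀ d i, i < n → fd (ent C i) ≤ d → ∃ g ∈ H, g • triE (ent C r) = triE (ent C i) := by
      intro d
      induction d with
      | zero =>
        intro i hi hd
        have h := hall i hi
        unfold entOk at h
        simp only [Bool.and_eq_true, Bool.or_eq_true] at h
        rcases h.2 with h1 | ⟨⟨-, h1⟩, -⟩
        · rw [Nat.eq_of_beq_eq_true h1]
          exact ⟨1, H.one_mem, one_smul _ _⟩
        · have := Nat.blt_eq.mp h1
          omega
      | succ d ih =>
        intro i hi hd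
        have h := hall i hi
        unfold entOk at h
        simp only [Bool.and_eq_true, Bool.or_eq_true] at h
        rcases h.2 with h1 | ⟨⟨h1, h2⟩, h3⟩
        · rw [Nat.eq_of_beq_eq_true h1]
          exact ⟨1, H.one_mem, one_smul _ _⟩
        · obtain ⟨g, hg, hgr⟩ := ih (fp (ent C i)) (Nat.blt_eq.mp h1) (by
            have := Nat.blt_eq.mp h2
            omega)
          unfold stepOk at h3
          cases hb : Nat.beq (fg (ent C i)) 0 with
          | true =>
            rw [hb, cond_true] at h3
            refine ⟨permOf P0 hP0 * g, H.mul_mem hH0 hg, ?_⟩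
            rw [mul_smul, hgr]
            unfold triE
            rw [smul_tri, tri_eq_of_same3 h3]
          | false =>
            rw [hb, cond_false] at h3
            refine ⟨permOf P1 hP1 * g, H.mul_mem hH1 hg, ?_⟩
            rw [mul_smul, hgr]
            unfold triE
            rw [smul_tri, tri_eq_of_same3 h3]
    exact fun i hi => key _ i hi le_rfl
  · have hord : ∀ i, i < n → fa (ent C i) < 2 ^ 24 ∧ fb (ent C i) < fa (ent C i) ∧
        fc (ent C i) < fb (ent C i) := by
      intro i hi
      have h := hall i hi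
      unfold entOk ordOk at h
      simp only [Bool.and_eq_true] at h
      exact ⟨Nat.blt_eq.mp h.1.1.1.1, Nat.blt_eq.mp h.1.1.1.2, Nat.blt_eq.mp h.1.1.2⟩
    have hcode : ∀ i, i + 1 < n → ent C i >>> 32 < ent C (i + 1) >>> 32 := by
      intro i hi
      have h := hall i (by omega)
      unfold entOk at h
      simp only [Bool.and_eq_true, Bool.or_eq_true] at h
      rcases h.1.2 with h1 | h1
      · have : n ≤ i + 1 := Nat.le_of_ble_eq_true h1
        omega
      · exact Nat.blt_eq.mp h1
    have hmono : ∀ j i, i < j → j < n → ent C i >>> 32 < ent C j >>> 32 := by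
      intro j
      induction j with
      | zero => intro i hi; omega
      | succ j ih =>
        intro i hi hj
        have h1 := hcode j hj
        rcases Nat.lt_succ_iff_lt_or_eq.1 hi with h2 | h2
        · exact lt_trans (ih i h2 (by omega)) h1
        · rw [h2]; exact h1
    have hcd : ∀ e, e >>> 32 = fa e * 16777216 + fb e := by
      intro e
      have h1 : fa e = e / 2 ^ 56 := Nat.shiftRight_eq_div_pow _ _
      have h2 : fb e = (e / 2 ^ 32) % 16777216 := by
        show (e >>> 32) % 16777216 = _
        rw [Nat.shiftRight_eq_div_pow]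
      rw [h1, h2, Nat.shiftRight_eq_div_pow]
      omega
    intro i j hi hj hij
    obtain ⟨a1, a2, a3⟩ := hord i hi
    obtain ⟨b1, b2, b3⟩ := hord j hj
    have h1 := tri_injective a1 a2 a3 b1 b2 b3 hij
    have h2 : ent C i >>> 32 = ent C j >>> 32 := by
      rw [hcd, hcd, h1.1, h1.2]
    rcases lt_trichotomy i j with h3 | h3 | h3
    · have := hmono j i h3 hj
      omega
    · exact h3
    · have := hmono i j h3 hi
      omega

end Cfsg.Agent.SporadicStructure.TrioCert
end

-- part: SporadicStructure/OrbitSizes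
section
/-!
# Orbit sizes and maximality of a stabiliser

* `ncard_eq_of_disjoint_cover`: pure counting: disjoint pieces of known lower size whose lower sizes add up to the
  size of the whole set have exactly these sizes and cover the set;
* `isCoatom_stabilizer_of_orbit_sizes`: if the orbits of `stabilizer G a` on `orbit G a` have sizes `1, c i`, and no
  sum `1 + ∑ i ∈ s, c i` with `s` proper and non-empty divides `1 + ∑ i, c i`, the stabiliser is maximal.
-/

set_option autoImplicit false
open scoped Pointwise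
open MulAction

namespace Cfsg.Agent.SporadicStructure.OrbitSizes

/-- Pure counting: pairwise disjoint subsets `S i` of a finite set `Ω`, with `n i ≤ |S i|` and
`|Ω| ≤ ∑ n i`, have exactly `n i` elements and cover `Ω`. -/
theorem ncard_eq_of_disjoint_cover {α ι : Type*} [Fintype ι] {Ω : Set α} (hΩ : Ω.Finite)
    (S : ι → Set α) (hS : ∀ i, S i ⊆ Ω) (hd : Pairwise fun i j => Disjoint (S i) (S j))
    (n : ι → ℕ) (hn : ∀ i, n i ≤ (S i).ncard) (hΩn : Ω.ncard ≤ ∑ i, n i) :
    (∀ i, (S i).ncard = n i) ∧ Ω = ⋃ i, S i := by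
  classical
  have hSf : ∀ i, (S i).Finite := fun i => hΩ.subset (hS i)
  have hU : (⋃ i, S i).ncard = ∑ i, (S i).ncard := by
    have h1 : (⋃ i, S i) = ((Finset.univ : Finset ι).biUnion fun i => (hSf i).toFinset : Finset α) := by
      ext x
      simp
    rw [h1, Set.ncard_coe_finset, Finset.card_biUnion]
    · refine Finset.sum_congr rfl fun i _ => ?_
      rw [Set.ncard_eq_toFinset_card _ (hSf i)]
    · intro i _ j _ hij
      rw [Function.onFun, Set.Finite.disjoint_toFinset]
      exact hd hij
  have hUsub : (⋃ i, S i) ⊆ Ω := Set.iUnion_subset hS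
  have h2 : ∑ i, n i ≤ ∑ i, (S i).ncard := Finset.sum_le_sum fun i _ => hn i
  have h3 : (⋃ i, S i).ncard ≤ Ω.ncard := Set.ncard_le_ncard hUsub hΩ
  have h4 : ∑ i, n i = ∑ i, (S i).ncard := by omega
  refine ⟨fun i => ?_, ?_⟩
  · exact ((Finset.sum_eq_sum_iff_of_le fun i _ => hn i).1 h4 i (Finset.mem_univ i)).symm
  · exact (Set.eq_of_subset_of_ncard_le hUsub (by omega) hΩ).symm

variable {G α : Type*} [Group G] [MulAction G α]

theorem mem_orbit_subgroup_iff (H : Subgroup G) (a x : α) :
    x ∈ orbit H a ↔ ∃ g ∈ H, g • a = x := by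
  constructor
  · rintro ⟨g, rfl⟩
    exact ⟨g, g.2, rfl⟩
  · rintro ⟨g, hg, rfl⟩
    exact ⟨⟨g, hg⟩, rfl⟩

/-- The size of the orbit of `a` under a subgroup containing the stabiliser of `a`. -/
theorem ncard_orbit_eq_relIndex (H : Subgroup G) (a : α) :
    (orbit H a).ncard = (stabilizer G a).relIndex H := by
  rw [← MulAction.index_stabilizer (G := H) (x := a)]
  rfl

theorem ncard_orbit_dvd (H : Subgroup G) (a : α) (hK : stabilizer G a ≤ H) :
    (orbit H a).ncard * H.index = (orbit G a).ncard := by
  rw [ncard_orbit_eq_relIndex, Subgroup.relIndex_mul_index hK, MulAction.index_stabilizer]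

/-- Maximality of a stabiliser from the sizes of its orbits. -/
theorem isCoatom_stabilizer_of_orbit_sizes {ι : Type*} [Fintype ι] [DecidableEq ι] [Nonempty ι]
    (a : α) (X : ι → α) (c : ι → ℕ)
    (hΩ : orbit G a = {a} ∪ ⋃ i, orbit (stabilizer G a) (X i))
    (hfin : (orbit G a).Finite)
    (ha : ∀ i, X i ≠ a)
    (hd : Pairwise fun i j => Disjoint (orbit (stabilizer G a) (X i)) (orbit (stabilizer G a) (X j)))
    (hc : ∀ i, (orbit (stabilizer G a) (X i)).ncard = c i)
    (hdvd : ∀ s : Finset ι, (1 + ∑ i ∈ s, c i) ∣ (1 + ∑ i, c i) → s = ∅ ∨ s = Finset.univ) :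
    IsCoatom (stabilizer G a) := by
  classical
  set K := stabilizer G a with hKdef
  have hXmem : ∀ i, X i ∈ orbit G a := by
    intro i
    rw [hΩ]
    exact Or.inr (Set.mem_iUnion.2 ⟨i, mem_orbit_self _⟩)
  -- a is not in the other orbits
  have ha' : ∀ i, a ∉ orbit K (X i) := by
    intro i hi
    obtain ⟨⟨g, hg⟩, hgX⟩ := hi
    apply ha i
    have h1 : g • X i = a := hgX
    have h2 : g • a = a := hg
    rw [← h2] at h1
    exact MulAction.injective g h1
  have hsub : ∀ i, orbit K (X i) ⊆ orbit G a := by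
    intro i
    rw [hΩ]
    exact fun x hx => Or.inr (Set.mem_iUnion.2 ⟨i, hx⟩)
  have hKf : ∀ i, (orbit K (X i)).Finite := fun i => hfin.subset (hsub i)
  -- general counting
  have hcount : ∀ s : Finset ι, ({a} ∪ ⋃ i ∈ s, orbit K (X i) : Set α).ncard = 1 + ∑ i ∈ s, c i := by
    intro s
    have h1 : ({a} ∪ ⋃ i ∈ s, orbit K (X i) : Set α) =
        (insert a (s.biUnion fun i => (hKf i).toFinset) : Finset α) := by
      ext x
      simp
    rw [h1, Set.ncard_coe_finset, Finset.card_insert_of_notMem, Finset.card_biUnion, add_comm]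
    · congr 1
      refine Finset.sum_congr rfl fun i _ => ?_
      rw [← hc i, Set.ncard_eq_toFinset_card _ (hKf i)]
    · intro i _ j _ hij
      rw [Function.onFun, Set.Finite.disjoint_toFinset]
      exact hd hij
    · simp only [Finset.mem_biUnion, Set.Finite.mem_toFinset, not_exists, not_and]
      exact fun i _ => ha' i
  have hΩn : (orbit G a).ncard = 1 + ∑ i, c i := by
    rw [hΩ, ← hcount Finset.univ]
    simp
  constructor
  · intro htop
    obtain ⟨i⟩ := ‹Nonempty ι›
    obtain ⟨g, hg⟩ := hXmem i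
    apply ha i
    have h1 : g ∈ K := by rw [htop]; trivial
    have h2 : g • a = a := h1
    rw [← hg]
    exact h2
  · intro H hKH
    have hle : K ≤ H := hKH.le
    set s : Finset ι := Finset.univ.filter fun i => X i ∈ orbit H a with hs
    have horb : orbit H a = {a} ∪ ⋃ i ∈ s, orbit K (X i) := by
      ext x
      constructor
      · intro hx
        have hxG : x ∈ orbit G a := by
          obtain ⟨g, -, rfl⟩ := (mem_orbit_subgroup_iff H a x).1 hx
          exact mem_orbit a g
        rw [hΩ] at hxG
        rcases hxG with hxa | hxi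
        · exact Or.inl hxa
        · right
          obtain ⟨i, hi⟩ := Set.mem_iUnion.1 hxi
          refine Set.mem_iUnion₂.2 ⟨i, ?_, hi⟩
          rw [hs, Finset.mem_filter]
          refine ⟨Finset.mem_univ _, ?_⟩
          obtain ⟨g, hg, hgx⟩ := (mem_orbit_subgroup_iff K (X i) x).1 hi
          obtain ⟨h, hh, hhx⟩ := (mem_orbit_subgroup_iff H a x).1 hx
          refine (mem_orbit_subgroup_iff H a (X i)).2 ⟨g⁻¹ * h, H.mul_mem (H.inv_mem (hle hg)) hh, ?_⟩
          rw [mul_smul, hhx, ← hgx, inv_smul_smul]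
      · rintro (hxa | hxi)
        · rw [Set.mem_singleton_iff] at hxa
          rw [hxa]
          exact mem_orbit_self a
        · obtain ⟨i, hi, hxi⟩ := Set.mem_iUnion₂.1 hxi
          rw [hs, Finset.mem_filter] at hi
          obtain ⟨g, hg, hgx⟩ := (mem_orbit_subgroup_iff K (X i) x).1 hxi
          obtain ⟨h, hh, hhx⟩ := (mem_orbit_subgroup_iff H a (X i)).1 hi.2
          refine (mem_orbit_subgroup_iff H a x).2 ⟨g * h, H.mul_mem (hle hg) hh, ?_⟩
          rw [mul_smul, hhx, hgx]
    have h1 : (orbit H a).ncard = 1 + ∑ i ∈ s, c i := by rw [horb, hcount]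
    have h2 := ncard_orbit_dvd H a hle
    have h3 : (1 + ∑ i ∈ s, c i) ∣ (1 + ∑ i, c i) := by
      rw [← h1, ← hΩn, ← h2]
      exact Dvd.intro _ rfl
    rcases hdvd s h3 with hemp | huniv
    · exfalso
      apply hKH.not_ge
      intro h hh
      have h4 : h • a ∈ orbit H a := (mem_orbit_subgroup_iff H a _).2 ⟨h, hh, rfl⟩
      rw [horb, hemp] at h4
      have h5 : h • a = a := by simpa using h4
      exact h5
    · rw [← Subgroup.index_eq_one]
      rw [h1, huniv, hΩn] at h2
      have h5 : 0 < 1 + ∑ i, c i := by omega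
      exact Nat.eq_of_mul_eq_mul_left h5 (by rw [h2, mul_one])

end Cfsg.Agent.SporadicStructure.OrbitSizes
end

-- part: SporadicStructure/TrioInv
section
/-!
# Trios: invariance under the group of the code, and the number of disjoint pairs
-/

set_option autoImplicit false

namespace Cfsg.Agent.SporadicStructure.TrioInv

open Cfsg Cfsg.Agent.SporadicA.GolayBase Cfsg.Agent.SporadicA.GolayPerm
open Cfsg.Agent.SporadicStructure.TrioCert
open scoped Pointwise

/-- The group of the code permutes the trios. -/
theorem smul_mem_trios {g : Equiv.Perm GolayPt} (hg : g ∈ M24) {T : Finset (Finset GolayPt)}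
    (hT : T ∈ trios) : g • T ∈ trios := by
  obtain ⟨h1, h2, h3⟩ := hT
  refine ⟨by rw [Finset.card_smul_finset]; exact h1, ?_, ?_⟩
  · intro o ho
    obtain ⟨o', ho', rfl⟩ := Finset.mem_smul_finset.1 ho
    exact (smul_mem_octads hg).2 (h2 o' ho')
  · intro o ho p hp hop
    obtain ⟨o', ho', rfl⟩ := Finset.mem_smul_finset.1 ho
    obtain ⟨p', hp', rfl⟩ := Finset.mem_smul_finset.1 hp
    have h4 := h3 o' ho' p' hp' (fun h => hop (by rw [h]))
    rw [Finset.disjoint_left] at h4 ⊢
    intro x hx hx'
    obtain ⟨y, hy, rfl⟩ := Finset.mem_smul_finset.1 hx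
    rw [Finset.smul_mem_smul_finset_iff] at hx'
    exact h4 hy hx'

/-- The number of disjoint pairs in `T × X`. -/
def nd (T X : Finset (Finset GolayPt)) : ℕ :=
  ∑ o ∈ T, ∑ x ∈ X, if Disjoint o x then 1 else 0

theorem sum_smul_finset {β : Type*} [DecidableEq β] [MulAction (Equiv.Perm GolayPt) β]
    (g : Equiv.Perm GolayPt) (T : Finset β) (f : β → ℕ) :
    ∑ o ∈ g • T, f o = ∑ o ∈ T, f (g • o) := by
  rw [Finset.smul_finset_def, Finset.sum_image]
  intro x _ y _ h
  exact MulAction.injective g h

theorem disjoint_smul_iff (g : Equiv.Perm GolayPt) (s t : Finset GolayPt) :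
    Disjoint (g • s) (g • t) ↔ Disjoint s t := by
  rw [Finset.disjoint_left, Finset.disjoint_left]
  constructor
  · intro h x hx hx'
    exact h (Finset.smul_mem_smul_finset (a := g) hx) (Finset.smul_mem_smul_finset hx')
  · intro h x hx hx'
    obtain ⟨y, hy, rfl⟩ := Finset.mem_smul_finset.1 hx
    rw [Finset.smul_mem_smul_finset_iff] at hx'
    exact h hy hx'

theorem nd_smul (g : Equiv.Perm GolayPt) (T X : Finset (Finset GolayPt)) :
    nd (g • T) (g • X) = nd T X := by
  unfold nd
  rw [sum_smul_finset]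
  refine Finset.sum_congr rfl fun o _ => ?_
  rw [sum_smul_finset]
  refine Finset.sum_congr rfl fun x _ => ?_
  simp only [disjoint_smul_iff]

/-- Disjointness of masks. -/
def dj (a b : ℕ) : ℕ := cond (Nat.beq (Nat.land a b) 0) 1 0

theorem fin_zero : fin 0 = ∅ := by
  ext p
  rw [mem_fin, Nat.zero_testBit]
  simp

theorem ite_disjoint {a b : ℕ} (ha : a < 2 ^ 24) :
    (if Disjoint (fin a) (fin b) then 1 else 0) = dj a b := by
  have h : Disjoint (fin a) (fin b) ↔ Nat.land a b = 0 := by
    rw [Finset.disjoint_iff_inter_eq_empty, ← fin_and, ← fin_zero]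
    constructor
    · intro h
      exact fin_injective (lt_of_le_of_lt Nat.and_le_left ha) (by norm_num) h
    · intro h
      exact congrArg fin h
  unfold dj
  cases hb : Nat.beq (Nat.land a b) 0 with
  | true => rw [if_pos (h.2 (Nat.eq_of_beq_eq_true hb)), cond_true]
  | false =>
    rw [if_neg, cond_false]
    intro h'
    rw [h.1 h'] at hb
    exact Bool.noConfusion hb

theorem sum_tri {a b c : ℕ} (ha : a < 2 ^ 24) (hb : b < a) (hc : c < b)
    (f : Finset GolayPt → ℕ) : ∑ o ∈ tri a b c, f o = f (fin a) + (f (fin b) + f (fin c)) := by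
  have key : ∀ x y, x < 2 ^ 24 → y < 2 ^ 24 → (fin x = fin y ↔ x = y) := by
    intro x y hx hy
    exact ⟨fun h => fin_injective hx hy h, fun h => by rw [h]⟩
  unfold tri
  rw [Finset.sum_insert, Finset.sum_insert, Finset.sum_singleton]
  · rw [Finset.mem_singleton, key _ _ (by omega) (by omega)]
    omega
  · rw [Finset.mem_insert, Finset.mem_singleton, key _ _ (by omega) (by omega),
      key _ _ (by omega) (by omega)]
    omega

theorem card_tri {a b c : ℕ} (ha : a < 2 ^ 24) (hb : b < a) (hc : c < b) :
    (tri a b c).card = 3 := by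
  rw [Finset.card_eq_sum_ones, sum_tri ha hb hc]

theorem nd_tri {a b c x y z : ℕ} (ha : a < 2 ^ 24) (hb : b < a) (hc : c < b)
    (hx : x < 2 ^ 24) (hy : y < x) (hz : z < y) :
    nd (tri a b c) (tri x y z) = (dj a x + (dj a y + dj a z)) + ((dj b x + (dj b y + dj b z)) +
      (dj c x + (dj c y + dj c z))) := by
  unfold nd
  rw [sum_tri ha hb hc]
  rw [sum_tri hx hy hz, sum_tri hx hy hz, sum_tri hx hy hz]
  rw [ite_disjoint ha, ite_disjoint ha, ite_disjoint ha, ite_disjoint (by omega),
    ite_disjoint (by omega), ite_disjoint (by omega), ite_disjoint (by omega),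
    ite_disjoint (by omega), ite_disjoint (by omega)]

/-- A trio from masks. -/
theorem tri_mem_trios {a b c : ℕ} (ha : a < 2 ^ 24) (hb : b < a) (hc : c < b)
    (h1 : (isCode a && isCode b && isCode c && Nat.beq (popcount a) 8 && Nat.beq (popcount b) 8 &&
      Nat.beq (popcount c) 8 && Nat.beq (Nat.land a b) 0 && Nat.beq (Nat.land a c) 0 &&
      Nat.beq (Nat.land b c) 0) = true) : tri a b c ∈ trios := by
  simp only [Bool.and_eq_true, Nat.beq_eq] at h1
  obtain ⟨⟨⟨⟨⟨⟨⟨⟨ca, cb⟩, cc⟩, pa⟩, pb⟩, pc⟩, dab⟩, dac⟩, dbc⟩ := h1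
  have dis : ∀ x y : ℕ, Nat.land x y = 0 → Disjoint (fin x) (fin y) := by
    intro x y h
    rw [Finset.disjoint_iff_inter_eq_empty, ← fin_and, ← fin_zero]
    exact congrArg fin h
  refine ⟨card_tri ha hb hc, ?_, ?_⟩
  · intro o ho
    unfold tri at ho
    simp only [Finset.mem_insert, Finset.mem_singleton] at ho
    rcases ho with rfl | rfl | rfl
    · exact (fin_mem_octads_iff ha).2 ⟨ca, pa⟩
    · exact (fin_mem_octads_iff (by omega)).2 ⟨cb, pb⟩
    · exact (fin_mem_octads_iff (by omega)).2 ⟨cc, pc⟩
  · intro o ho o' ho' hne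
    unfold tri at ho ho'
    simp only [Finset.mem_insert, Finset.mem_singleton] at ho ho'
    rcases ho with rfl | rfl | rfl <;> rcases ho' with rfl | rfl | rfl
    · exact absurd rfl hne
    · exact dis _ _ dab
    · exact dis _ _ dac
    · exact (dis _ _ dab).symm
    · exact absurd rfl hne
    · exact dis _ _ dbc
    · exact (dis _ _ dac).symm
    · exact (dis _ _ dbc).symm
    · exact absurd rfl hne

end Cfsg.Agent.SporadicStructure.TrioInv
end
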