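import Cfsg.Agent.SporadicStructure.FischerSpace
import Mathlib
import Cfsg.Agent.Lib.FieldFour
import Cfsg.Agent.Fischer920.PsuEnd
set_option linter.all false

-- part: SporadicStructure/FSolHyp
section
set_option autoImplicit false

/-!
# Hyperbolic lines of a labelled class of 3-transpositions (for S1614)
-/

namespace Cfsg.Agent.SporadicStructure.FSolHyp

open Cfsg Cfsg.Agent.SporadicStructure.FischerSpace

variable {G : Type*} [Group G] {D : Set G}

/-- It suffices to know the hyperbolic lines through one member of the class. -/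
theorem hyp_of_base (h₁ : FData D) {x : G} (hx : x ∈ D)
    (H : ∀ b ∈ D, ¬ Commute x b → ∀ c ∈ D,
      (∀ z ∈ D, Commute z x → Commute z b → Commute z c) → c = x ∨ c = b ∨ c = x * b * x) :
    ∀ a ∈ D, ∀ b ∈ D, ¬ Commute a b → ∀ c ∈ D,
      (∀ z ∈ D, Commute z a → Commute z b → Commute z c) → c = a ∨ c = b ∨ c = a * b * a := by
  intro a ha b hb hab c hc hz
  obtain ⟨g, hg⟩ := h₁.single a ha x hx
  have key : ∀ u v : G, Commute (g * u * g⁻¹) (g * v * g⁻¹) ↔ Commute u v :=
    fun u v => FData.commute_conj_gen g u v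
  have inj : ∀ u v : G, g * u * g⁻¹ = g * v * g⁻¹ → u = v := by
    intro u v h
    exact mul_left_cancel (mul_right_cancel h)
  have h1 := H (g * b * g⁻¹) (h₁.conj g b hb) (by rw [← hg, key]; exact hab) (g * c * g⁻¹)
    (h₁.conj g c hc) (by
      intro z hzD hzx hzb
      have e : z = g * (g⁻¹ * z * g⁻¹⁻¹) * g⁻¹ := by group
      rw [e] at hzx hzb ⊢
      rw [← hg, key] at hzx
      rw [key] at hzb ⊢
      exact hz _ (h₁.conj g⁻¹ z hzD) hzx hzb)
  rcases h1 with h | h | h
  · left
    apply inj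
    rw [h, hg]
  · right; left
    exact inj _ _ h
  · right; right
    apply inj
    rw [h, ← hg]
    group

/-- Hyperbolic lines from labels. -/
theorem hyp_of_labels {L : Type*} (h₁ : FData D) (Psi : L → G)
    (hrange : Set.range Psi = D) (adj : L → L → Bool)
    (hadj : ∀ l m, Commute (Psi l) (Psi m) ↔ adj l m = true) (l₀ : L)
    (H : ∀ m, adj l₀ m = false → ∃ t, ∀ n,
      (∀ z, adj z l₀ = true → adj z m = true → adj z n = true) → n = l₀ ∨ n = m ∨ n = t) :
    ∀ a ∈ D, ∀ b ∈ D, ¬ Commute a b → ∀ c ∈ D,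
      (∀ z ∈ D, Commute z a → Commute z b → Commute z c) → c = a ∨ c = b ∨ c = a * b * a := by
  have hmem : ∀ l, Psi l ∈ D := fun l => by rw [← hrange]; exact ⟨l, rfl⟩
  apply hyp_of_base h₁ (hmem l₀)
  intro b hb hxb c hc hz
  rw [← hrange] at hb hc
  obtain ⟨m, rfl⟩ := hb
  obtain ⟨n, rfl⟩ := hc
  have hm : adj l₀ m = false := by
    rw [hadj] at hxb
    simpa using hxb
  obtain ⟨t, ht⟩ := H m hm
  have h3 : Psi l₀ * Psi m * Psi l₀ ∈ Set.range Psi := by
    rw [hrange]; exact h₁.conj' (hmem l₀) (hmem m)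
  obtain ⟨t', ht'⟩ := h3
  have h4 := ht t' (by
    intro z h5 h6
    rw [← hadj] at h5 h6 ⊢
    rw [ht']
    exact (h5.mul_right h6).mul_right h5)
  have h5 := ht n (by
    intro z h5 h6
    rw [← hadj] at h5 h6 ⊢
    exact hz _ (hmem z) h5 h6)
  have h6 : t' = t := by
    rcases h4 with h | h | h
    · exfalso
      apply hxb
      rw [h] at ht'
      -- `x = x * m * x`
      have h7 : Psi l₀ * 1 = Psi l₀ * (Psi m * Psi l₀) := by rw [mul_one, ← mul_assoc]; exact ht'
      have h8 := mul_left_cancel h7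
      have h9 : Psi m = Psi l₀ := by
        rw [← h₁.inv_eq (hmem l₀)]
        exact eq_inv_of_mul_eq_one_left h8.symm
      rw [h9]
    · exfalso
      apply hxb
      rw [h] at ht'
      exact (h₁.commute_iff (hmem l₀) _).2 ht'.symm
    · exact h
  rcases h5 with h | h | h
  · left; rw [h]
  · right; left; rw [h]
  · right; right
    rw [h, ← h6, ht']

end Cfsg.Agent.SporadicStructure.FSolHyp
end

-- part: SporadicStructure/FSolModel
section
set_option autoImplicit false

/-!
# Explicit commuting graphs of the 3-transposition groups `S₆`, `PSU(4,2)`, `PSU(5,2)` (for S1614)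

The labels describe the class `D` seen from a noncommuting pair `x, y`: `x` itself, the members `e k γ`
commuting with `x` (grouped into classes `k`), and the conjugates `n y n⁻¹` of `y` under a 2-group.
`adj l l'` says that the two members commute (it is reflexive).
-/

namespace Cfsg.Agent.SporadicStructure.FSolModel

open Cfsg.Agent.Lib.FieldFour

/-- alternating form of `F4` over the prime field: `true` iff the arguments are different and nonzero -/
def B (a b : F4) : Bool := (a != .o) && (b != .o) && (a != b)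

/-! ## 15 points -/

/-- labels of the 15 transpositions of `S₆` -/
inductive L2 : Type
  | x : L2
  | e : Fin 3 → Bool → L2
  | a : Bool → Bool → Bool → L2
  deriving DecidableEq

/-- the value `λ_k (n)` -/
def lam2 (k : Fin 3) (p q : Bool) : Bool :=
  match k with
  | 0 => q
  | 1 => p
  | 2 => xor p q

/-- `true` iff the conjugate of `y` by `x^ε t₁^p t₂^q` commutes with `y` -/
def S2 (ε p q : Bool) : Bool :=
  match p, q with
  | false, false => !ε
  | _, _ => ε

/-- commuting graph of the 15 transpositions of `S₆` -/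
def adj2 : L2 → L2 → Bool
  | .x, .x => true
  | .x, .e _ _ => true
  | .x, .a _ _ _ => false
  | .e _ _, .x => true
  | .a _ _ _, .x => false
  | .e k _, .e l _ => k == l
  | .e k c, .a _ p q => c == lam2 k p q
  | .a _ p q, .e k c => c == lam2 k p q
  | .a ε p q, .a ε' p' q' => S2 (xor ε ε') (xor p p') (xor q q')

/-! ## 45 points -/

/-- labels of the 45 transvections of `PSU(4,2)` -/
inductive L3 : Type
  | x : L3
  | e : Fin 3 → F4 → L3
  | a : Bool → F4 → F4 → L3
  deriving DecidableEq

/-- the value `λ_k (n)` -/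
def lam3 (k : Fin 3) (α β : F4) : F4 :=
  match k with
  | 0 => β
  | 1 => α
  | 2 => F4.add α β

/-- `true` iff the conjugate of `y` by `n = x^ε u₁(α) u₂(β)` commutes with `y` -/
def S3 (ε : Bool) (α β : F4) : Bool :=
  if α == .o then !ε else if β == .o then !ε else (α == β) && ε

/-- commuting graph of the 45 transvections of `PSU(4,2)`;
`a ε α β` stands for `n y n⁻¹`, `n = x^ε u₁(α) u₂(β)` -/
def adj3 : L3 → L3 → Bool
  | .x, .x => true
  | .x, .e _ _ => true
  | .x, .a _ _ _ => false
  | .e _ _, .x => true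
  | .a _ _ _, .x => false
  | .e k _, .e l _ => k == l
  | .e k γ, .a _ α β => γ == lam3 k α β
  | .a _ α β, .e k γ => γ == lam3 k α β
  | .a ε α β, .a ε' α' β' =>
      S3 (xor (xor ε ε') (B (F4.add α α') β')) (F4.add α α') (F4.add β β')

/-! ## 165 points -/

/-- labels of the 165 transvections of `PSU(5,2)` -/
inductive L9 : Type
  | x : L9
  | e : Fin 9 → F4 → L9
  | a : Bool → F4 → F4 → F4 → L9
  deriving DecidableEq

/-- coefficient vectors of the nine classes -/
def cf (k : Fin 9) : F4 × F4 × F4 :=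
  match k with
  | 0 => (.i, .o, .o)
  | 1 => (.o, .i, .o)
  | 2 => (.o, .o, .i)
  | 3 => (.i, .i, .o)
  | 4 => (.i, .o, .i)
  | 5 => (.o, .i, .w)
  | 6 => (.i, .i, .v)
  | 7 => (.i, .w, .i)
  | 8 => (.i, .w, .v)

/-- Frobenius -/
def fr : F4 → F4
  | .o => .o
  | .i => .i
  | .w => .v
  | .v => .w

/-- the value `λ_k (n)` -/
def lam9 (k : Fin 9) (α β δ : F4) : F4 :=
  F4.add (F4.mul (fr (cf k).1) (F4.add β δ))
    (F4.add (F4.mul (fr (cf k).2.1) (F4.add α (F4.mul .v δ)))
      (F4.mul (fr (cf k).2.2) (F4.add α (F4.mul .w β))))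

/-- sign of the class: `true` iff `u_k(γ) = x * u₁(aγ) u₂(bγ) u₃(dγ)` for `γ ≠ 0` -/
def sg (k : Fin 9) : Bool :=
  match k with
  | 0 => false
  | 1 => false
  | 2 => false
  | 3 => true
  | 4 => true
  | 5 => true
  | 6 => false
  | 7 => true
  | 8 => false

/-- `true` iff the conjugate of `y` by `n = x^ε u₁(α) u₂(β) u₃(δ)` commutes with `y`:
`n = 1` or `n = u_k(γ)` with `γ ≠ 0` -/
def S9 (ε : Bool) (α β δ : F4) : Bool :=
  if α == .o && β == .o && δ == .o then !ε
  else (List.finRange 9).any fun k => [F4.i, F4.w, F4.v].any fun γ =>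
    (ε == sg k) && (α == F4.mul (cf k).1 γ) && (β == F4.mul (cf k).2.1 γ) &&
      (δ == F4.mul (cf k).2.2 γ)

/-- commuting graph of the 165 transvections of `PSU(5,2)`;
`a ε α β δ` stands for `n y n⁻¹`, `n = x^ε u₁(α) u₂(β) u₃(δ)` -/
def adj9 : L9 → L9 → Bool
  | .x, .x => true
  | .x, .e _ _ => true
  | .x, .a _ _ _ _ => false
  | .e _ _, .x => true
  | .a _ _ _ _, .x => false
  | .e k _, .e l _ => k == l
  | .e k γ, .a _ α β δ => γ == lam9 k α β δ
  | .a _ α β δ, .e k γ => γ == lam9 k α β δ
  | .a ε α β δ, .a ε' α' β' δ' =>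
      S9 (xor (xor ε ε') (xor (B (F4.add α α') β') (xor (B (F4.add α α') δ')
          (B (F4.mul .w (F4.add β β')) δ'))))
        (F4.add α α') (F4.add β β') (F4.add δ δ')

end Cfsg.Agent.SporadicStructure.FSolModel
end

-- part: SporadicStructure/FSolEnd9
section
set_option autoImplicit false

/-!
# A 3-transposition group with the commuting graph `adj9` is `PSU(5,2)` (for S1614)
-/

namespace Cfsg.Agent.SporadicStructure.FSolEnd9

open Cfsg Cfsg.Agent.SporadicStructure.FischerSpace Cfsg.Agent.SporadicStructure.FSolModel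
open Cfsg.Agent.SporadicStructure.FSolHyp
open Cfsg.Agent.Lib.FieldFour Cfsg.Agent.Fischer920.PsuEnd

/-- `0` or `1` -/
def bit (ε : Bool) : F4 := if ε then 1 else 0

theorem bit_xor (a b : Bool) : bit (xor a b) = bit a + bit b := by revert a b; decide

theorem bit_B (a b : F4) : bit (B a b) = a * fr b + b * fr a := by revert a b; decide

theorem fr_add (a b : F4) : fr (a + b) = fr a + fr b := by revert a b; decide

theorem fr_mul (a b : F4) : fr (a * b) = fr a * fr b := by revert a b; decide

theorem fr_fr (a : F4) : fr (fr a) = a := by revert a; decide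

theorem fr_bit (a : Bool) : fr (bit a) = bit a := by revert a; decide

theorem fr_eq (a : F4) : fr a = a ^ 2 := by revert a; decide

theorem add_self (a : F4) : a + a = 0 := by revert a; decide

theorem eq_iff_add (a b : F4) : a = b ↔ a + b = 0 := by revert a b; decide

/-- the Hermitian form on `F4³` -/
def H9 (a b d a' b' d' : F4) : F4 :=
  a * (fr b' + fr d') + b * (fr a' + F4.w * fr d') + d * (fr a' + F4.v * fr b')

/-- the model space -/
abbrev V9 : Type := F4 × F4 × F4 × F4 × F4

/-- the Hermitian form on the model space -/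
def h9 (u v : V9) : F4 :=
  u.1 * fr v.2.1 + u.2.1 * fr v.1 +
    H9 u.2.2.1 u.2.2.2.1 u.2.2.2.2 v.2.2.1 v.2.2.2.1 v.2.2.2.2

/-- the quadratic correction -/
def phi9 (a b d : F4) : F4 := d * fr b * F4.v + b * fr a + d * fr a

/-- the vector of a label -/
def vec9 : L9 → V9
  | .x => (1, 0, 0, 0, 0)
  | .e k g => (fr g, 0, (cf k).1, (cf k).2.1, (cf k).2.2)
  | .a ε al be de => (bit ε + phi9 al be de, 1, al, be, de)

theorem S9_iff (ε : Bool) (a b d : F4) : S9 ε a b d = true ↔ bit ε + phi9 a b d = 0 := by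
  revert ε a b d
  decide +kernel

theorem H9_cf (k l : Fin 9) : (k == l) = true ↔
    H9 (cf k).1 (cf k).2.1 (cf k).2.2 (cf l).1 (cf l).2.1 (cf l).2.2 = 0 := by
  revert k l
  decide +kernel

theorem lam_iff (a b d a' b' d' g : F4) :
    g = F4.add (F4.mul (fr a) (F4.add b' d'))
      (F4.add (F4.mul (fr b) (F4.add a' (F4.mul .v d')))
        (F4.mul (fr d) (F4.add a' (F4.mul .w b')))) ↔ fr g + H9 a b d a' b' d' = 0 := by
  have e1 : F4.add (F4.mul (fr a) (F4.add b' d'))
      (F4.add (F4.mul (fr b) (F4.add a' (F4.mul .v d')))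
        (F4.mul (fr d) (F4.add a' (F4.mul .w b')))) = fr (H9 a b d a' b' d') := by
    show fr a * (b' + d') + (fr b * (a' + F4.v * d') + fr d * (a' + F4.w * b')) = _
    unfold H9
    simp only [fr_add, fr_mul, fr_fr]
    show _ = fr a * (b' + d') + fr b * (a' + F4.v * d') + fr d * (a' + F4.w * b')
    ring
  rw [e1]
  constructor
  · intro h
    rw [h, fr_fr, add_self]
  · intro h
    rw [← eq_iff_add] at h
    rw [← h, fr_fr]

theorem key_identity (ε ε' : Bool) (a b d a' b' d' : F4) :
    bit (xor (xor ε ε') (xor (B (a + a') b') (xor (B (a + a') d')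
          (B (F4.w * (b + b')) d')))) + phi9 (a + a') (b + b') (d + d') =
    (bit ε + phi9 a b d) * 1 + 1 * fr (bit ε' + phi9 a' b' d') + H9 a b d a' b' d' := by
  simp only [bit_xor, bit_B, fr_add, fr_mul, fr_fr, fr_bit, phi9, H9]
  have hw : fr F4.w = F4.v := rfl
  have hv : fr F4.v = F4.w := rfl
  rw [hw, hv]
  rw [eq_iff_add]
  have h2 : (2 : F4) = 0 := rfl
  ring_nf
  simp only [h2, mul_zero, add_zero]

theorem H9_swap (a b d a' b' d' : F4) : H9 a' b' d' a b d = fr (H9 a b d a' b' d') := by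
  unfold H9
  simp only [fr_add, fr_mul, fr_fr]
  show _ = fr a * (b' + d') + fr b * (a' + F4.v * d') + fr d * (a' + F4.w * b')
  ring

theorem h9_swap (u v : V9) : h9 v u = fr (h9 u v) := by
  unfold h9
  rw [H9_swap]
  simp only [fr_add, fr_mul, fr_fr]
  ring

theorem h9_eq_zero_swap {u v : V9} : h9 v u = 0 ↔ h9 u v = 0 := by
  rw [h9_swap]
  generalize h9 u v = x
  revert x
  decide

theorem fr_zero : fr (0 : F4) = 0 := rfl

theorem fr_one : fr (1 : F4) = 1 := rfl

theorem adj9_iff (l m : L9) : adj9 l m = true ↔ h9 (vec9 l) (vec9 m) = 0 := by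
  have hea : ∀ (k : Fin 9) (g : F4) (ε : Bool) (a b d : F4),
      (g == lam9 k a b d) = true ↔ h9 (vec9 (.e k g)) (vec9 (.a ε a b d)) = 0 := by
    intro k g ε a b d
    rw [beq_iff_eq]
    unfold lam9
    rw [lam_iff]
    simp only [h9, vec9, fr_one, mul_one, zero_mul, add_zero]
  cases l with
  | x =>
    cases m with
    | x => exact iff_of_true rfl (by decide)
    | e k g => 
      apply iff_of_true rfl
      simp only [h9, vec9, H9, fr_zero, mul_zero, zero_mul, add_zero]
    | a ε a b d =>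
      apply iff_of_false (by simp [adj9])
      simp only [h9, vec9, H9, fr_one, mul_one, zero_mul, add_zero]
      exact one_ne_zero
  | e k g =>
    cases m with
    | x =>
      apply iff_of_true rfl
      simp only [h9, vec9, H9, fr_zero, mul_zero, zero_mul, add_zero]
    | e l g' =>
      show (k == l) = true ↔ _
      rw [H9_cf]
      simp only [h9, vec9, fr_zero, mul_zero, zero_mul, add_zero, zero_add]
    | a ε a b d => exact hea k g ε a b d
  | a ε a b d =>
    cases m with
    | x =>
      apply iff_of_false (by simp [adj9])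
      simp only [h9, vec9, H9, fr_zero, fr_one, mul_one, mul_zero, add_zero, zero_add]
      exact one_ne_zero
    | e k g => 
      rw [h9_eq_zero_swap]
      exact hea k g ε a b d
    | a ε' a' b' d' =>
      show S9 _ _ _ _ = true ↔ _
      rw [S9_iff]
      have h := key_identity ε ε' a b d a' b' d'
      simp only [h9, vec9, fr_one, ← h]
      exact Iff.rfl

/-! ### the model space -/

theorem hermSp9 : HermSp F4 V9 h9 := by
  refine ⟨?_, ?_, ?_, ?_⟩
  · intro u u' v
    simp only [h9, H9, Prod.fst_add, Prod.snd_add]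
    ring
  · intro c u v
    simp only [h9, H9, Prod.smul_fst, Prod.smul_snd, smul_eq_mul]
    ring
  · intro u v
    rw [h9_swap, fr_eq]
  · rintro ⟨u0, u1, a, b, d⟩ hu
    have h1 := hu (1, 0, 0, 0, 0)
    have h2 := hu (0, 1, 0, 0, 0)
    have h3 := hu (0, 0, 1, 0, 0)
    have h4 := hu (0, 0, 0, 1, 0)
    have h5 := hu (0, 0, 0, 0, 1)
    simp only [h9, H9, fr_zero, fr_one, mul_one, mul_zero, add_zero, zero_add] at h1 h2 h3 h4 h5
    subst h1
    subst h2
    have : a = 0 ∧ b = 0 ∧ d = 0 := by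
      clear hu
      revert a b d
      decide
    rw [this.1, this.2.1, this.2.2]
    rfl

theorem finrank_V9 : Module.finrank F4 V9 = 5 := by
  simp [V9, Module.finrank_prod]

theorem vec9_ne_zero (l : L9) : vec9 l ≠ 0 := by
  intro h
  cases l with
  | x => exact one_ne_zero (congrArg Prod.fst h)
  | e k g =>
    have h1 : ∀ k : Fin 9, ¬ ((cf k).1 = 0 ∧ (cf k).2.1 = 0 ∧ (cf k).2.2 = 0) := by decide
    exact h1 k ⟨congrArg (fun x => x.2.2.1) h, congrArg (fun x => x.2.2.2.1) h,
      congrArg (fun x => x.2.2.2.2) h⟩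
  | a ε a b d => exact one_ne_zero (congrArg (fun x => x.2.1) h)

theorem adj9_refl (l : L9) : adj9 l l = true := by
  cases l with
  | x => rfl
  | e k g => show (k == k) = true; simp
  | a ε a b d =>
    rw [adj9_iff]
    revert ε a b d
    decide

theorem cf_ne (c : F4) (k : Fin 9) : c ≠ 0 →
    ¬ (0 = c * (cf k).1 ∧ 0 = c * (cf k).2.1 ∧ 0 = c * (cf k).2.2) := by
  revert c k
  decide +kernel

theorem cf_inj (c : F4) (k l : Fin 9) (h1 : (cf k).1 = c * (cf l).1)
    (h2 : (cf k).2.1 = c * (cf l).2.1) (h3 : (cf k).2.2 = c * (cf l).2.2) : k = l ∧ c = 1 := by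
  revert c k l
  decide +kernel

theorem fr_inj {a b : F4} (h : fr a = fr b) : a = b := by
  rw [← fr_fr a, h, fr_fr]

theorem bit_inj {a b : Bool} (h : bit a = bit b) : a = b := by
  revert a b
  decide

theorem vec9_inj (l m : L9) (c : F4) (h : vec9 l = c • vec9 m) : l = m := by
  have hc : c ≠ 0 := by
    rintro rfl
    rw [zero_smul] at h
    exact vec9_ne_zero l h
  cases l with
  | x =>
    cases m with
    | x => rfl
    | e k g =>
      exfalso
      exact cf_ne c k hc ⟨congrArg (fun x : V9 => x.2.2.1) h,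
        congrArg (fun x : V9 => x.2.2.2.1) h, congrArg (fun x : V9 => x.2.2.2.2) h⟩
    | a ε a b d =>
      exfalso
      have h1 : (0 : F4) = c * 1 := congrArg (fun x : V9 => x.2.1) h
      rw [mul_one] at h1
      exact hc h1.symm
  | e k g =>
    cases m with
    | x =>
      exfalso
      have h1 : (cf k).1 = c * 0 := congrArg (fun x : V9 => x.2.2.1) h
      have h2 : (cf k).2.1 = c * 0 := congrArg (fun x : V9 => x.2.2.2.1) h
      have h3 : (cf k).2.2 = c * 0 := congrArg (fun x : V9 => x.2.2.2.2) h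
      rw [mul_zero] at h1 h2 h3
      exact cf_ne 1 k one_ne_zero ⟨by rw [h1, mul_zero], by rw [h2, mul_zero],
        by rw [h3, mul_zero]⟩
    | e l g' =>
      have h1 : (cf k).1 = c * (cf l).1 := congrArg (fun x : V9 => x.2.2.1) h
      have h2 : (cf k).2.1 = c * (cf l).2.1 := congrArg (fun x : V9 => x.2.2.2.1) h
      have h3 : (cf k).2.2 = c * (cf l).2.2 := congrArg (fun x : V9 => x.2.2.2.2) h
      obtain ⟨rfl, rfl⟩ := cf_inj c k l h1 h2 h3
      have h4 : fr g = 1 * fr g' := congrArg (fun x : V9 => x.1) h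
      rw [one_mul] at h4
      rw [fr_inj h4]
    | a ε a b d =>
      exfalso
      have h1 : (0 : F4) = c * 1 := congrArg (fun x : V9 => x.2.1) h
      rw [mul_one] at h1
      exact hc h1.symm
  | a ε a b d =>
    cases m with
    | x =>
      exfalso
      have h1 : (1 : F4) = c * 0 := congrArg (fun x : V9 => x.2.1) h
      rw [mul_zero] at h1
      exact one_ne_zero h1
    | e k g =>
      exfalso
      have h1 : (1 : F4) = c * 0 := congrArg (fun x : V9 => x.2.1) h
      rw [mul_zero] at h1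
      exact one_ne_zero h1
    | a ε' a' b' d' =>
      have h0 : (1 : F4) = c * 1 := congrArg (fun x : V9 => x.2.1) h
      rw [mul_one] at h0
      subst h0
      rw [one_smul] at h
      have h1 : a = a' := congrArg (fun x : V9 => x.2.2.1) h
      have h2 : b = b' := congrArg (fun x : V9 => x.2.2.2.1) h
      have h3 : d = d' := congrArg (fun x : V9 => x.2.2.2.2) h
      subst h1
      subst h2
      subst h3
      have h4 : bit ε + phi9 a b d = bit ε' + phi9 a b d := congrArg (fun x : V9 => x.1) h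
      rw [bit_inj (add_right_cancel h4)]

theorem H9_self (a b d : F4) : H9 a b d a b d = phi9 a b d + fr (phi9 a b d) := by
  revert a b d
  decide

theorem exists_cf (a b d : F4) (h : H9 a b d a b d = 0) (hne : ¬ (a = 0 ∧ b = 0 ∧ d = 0)) :
    ∃ (c : F4) (k : Fin 9), a = c * (cf k).1 ∧ b = c * (cf k).2.1 ∧ d = c * (cf k).2.2 := by
  revert a b d
  decide +kernel

theorem fixed_iff (x : F4) (h : x + fr x = 0) : ∃ ε : Bool, x = bit ε := by
  revert x
  decide

theorem vec9_surj (v : V9) (hv : v ≠ 0) (h : h9 v v = 0) : ∃ (l : L9) (c : F4), v = c • vec9 l := by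
  obtain ⟨u0, u1, a, b, d⟩ := v
  by_cases hu : u1 = 0
  · subst hu
    have h1 : H9 a b d a b d = 0 := by
      simp only [h9, fr_zero, mul_zero, zero_mul, zero_add] at h
      exact h
    by_cases hm : a = 0 ∧ b = 0 ∧ d = 0
    · obtain ⟨rfl, rfl, rfl⟩ := hm
      refine ⟨.x, u0, ?_⟩
      simp [vec9]
    · obtain ⟨c, k, rfl, rfl, rfl⟩ := exists_cf a b d h1 hm
      have hc : c ≠ 0 := by
        rintro rfl
        exact hm ⟨zero_mul _, zero_mul _, zero_mul _⟩
      refine ⟨.e k (fr (c⁻¹ * u0)), c, ?_⟩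
      simp only [vec9, fr_fr, Prod.smul_mk, smul_eq_mul, mul_zero, mul_inv_cancel_left₀ hc]
  · have h2 : (u1⁻¹ * u0) + fr (u1⁻¹ * u0) + H9 (u1⁻¹ * a) (u1⁻¹ * b) (u1⁻¹ * d)
        (u1⁻¹ * a) (u1⁻¹ * b) (u1⁻¹ * d) = 0 := by
      have h3 := hermSp9.smul_left (u1⁻¹) (u0, u1, a, b, d) (u1⁻¹ • (u0, u1, a, b, d))
      have h4 : h9 (u0, u1, a, b, d) (u1⁻¹ • (u0, u1, a, b, d)) = 0 := by
        rw [h9_swap, hermSp9.smul_left, h, mul_zero, fr_zero]
      rw [h4, mul_zero] at h3
      simp only [h9, Prod.smul_mk, smul_eq_mul, inv_mul_cancel₀ hu, fr_one, one_mul, mul_one] at h3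
      exact h3
    rw [H9_self] at h2
    obtain ⟨ε, hε⟩ := fixed_iff (u1⁻¹ * u0 + phi9 (u1⁻¹ * a) (u1⁻¹ * b) (u1⁻¹ * d)) (by
      rw [fr_add, ← h2]
      ring)
    refine ⟨.a ε (u1⁻¹ * a) (u1⁻¹ * b) (u1⁻¹ * d), u1, ?_⟩
    have h4 : bit ε + phi9 (u1⁻¹ * a) (u1⁻¹ * b) (u1⁻¹ * d) = u1⁻¹ * u0 := by
      rw [← hε, add_assoc, add_self, add_zero]
    simp only [vec9, h4, Prod.smul_mk, smul_eq_mul, mul_one, mul_inv_cancel_left₀ hu]

/-! ### hyperbolic lines -/

theorem lam9_inj (a b d a' b' d' : F4) (h : ∀ k, lam9 k a b d = lam9 k a' b' d') :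
    a = a' ∧ b = b' ∧ d = d' := by
  have e0 : ∀ a b d, lam9 0 a b d = b + d := by decide
  have e1 : ∀ a b d, lam9 1 a b d = a + F4.v * d := by decide
  have e2 : ∀ a b d, lam9 2 a b d = a + F4.w * b := by decide
  have h0 := h 0
  have h1 := h 1
  have h2 := h 2
  rw [e0, e0] at h0
  rw [e1, e1] at h1
  rw [e2, e2] at h2
  have hvw : F4.v + F4.w = 1 := rfl
  have h3 : d = d' := by
    linear_combination F4.w * h0 + h1 - h2 - hvw * (d - d')
  subst h3
  exact ⟨add_right_cancel h1, add_right_cancel h0, rfl⟩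

theorem hyp9 (m : L9) (hm : adj9 .x m = false) : ∃ t, ∀ n,
    (∀ z, adj9 z .x = true → adj9 z m = true → adj9 z n = true) → n = .x ∨ n = m ∨ n = t := by
  cases m with
  | x => exact absurd hm (by decide)
  | e k g => exact absurd hm (by simp [adj9])
  | a ε a b d =>
    refine ⟨.a (!ε) a b d, ?_⟩
    intro n hn
    have h1 : ∀ k, adj9 (.e k (lam9 k a b d)) n = true := by
      intro k
      apply hn _ rfl
      show (_ == _) = true
      rw [beq_self_eq_true]
    cases n with
    | x => left; rfl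
    | e k g =>
      exfalso
      have h2 := h1 (k + 1)
      have h3 : (k + 1 == k) = true := h2
      revert h3
      clear h2 h1 hn hm
      revert k
      decide
    | a ε' a' b' d' =>
      have h2 : a = a' ∧ b = b' ∧ d = d' := by
        apply lam9_inj
        intro k
        have h3 : (lam9 k a b d == lam9 k a' b' d') = true := h1 k
        exact beq_iff_eq.1 h3
      obtain ⟨rfl, rfl, rfl⟩ := h2
      right
      cases ε <;> cases ε' <;> simp

/-- **The end of the case with nine classes.** -/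
theorem psu_five {G : Type*} [Group G] {D : Set G} (h₁ : FData D)
    (hz : Subgroup.center G = ⊥) (Psi : L9 → G) (hinj : Function.Injective Psi)
    (hrange : Set.range Psi = D)
    (hadj : ∀ l m, Commute (Psi l) (Psi m) ↔ adj9 l m = true) :
    Nonempty (G ≃* Cfsg.PSU 5 F4 2) := by
  have hyp := hyp_of_labels h₁ Psi hrange adj9 hadj .x hyp9
  have : Nonempty L9 := ⟨.x⟩
  have hinv : ∀ l, Function.invFun Psi (Psi l) = l := Function.leftInverse_invFun hinj
  obtain ⟨e, _⟩ := exists_equiv_psu h₁ hz hyp F4.card hermSp9 finrank_V9 (by norm_num)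
    (fun g => vec9 (Function.invFun Psi g))
    (by
      intro a _
      exact vec9_ne_zero _)
    (by
      intro a _
      exact (adj9_iff _ _).1 (adj9_refl _))
    (by
      intro a ha b hb
      rw [← hrange] at ha hb
      obtain ⟨l, rfl⟩ := ha
      obtain ⟨m, rfl⟩ := hb
      rw [hinv, hinv, hadj, adj9_iff])
    (by
      intro a ha b hb c hc
      rw [← hrange] at ha hb
      obtain ⟨l, rfl⟩ := ha
      obtain ⟨m, rfl⟩ := hb
      rw [hinv, hinv] at hc
      rw [vec9_inj _ _ _ hc])
    (by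
      intro v hv h
      obtain ⟨l, c, hc⟩ := vec9_surj v hv h
      refine ⟨Psi l, ?_, c, ?_⟩
      · rw [← hrange]
        exact ⟨l, rfl⟩
      · rw [hinv]
        exact hc)
  exact ⟨e⟩

end Cfsg.Agent.SporadicStructure.FSolEnd9
end
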